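import Cfsg.Agent.H0.Co.N
import Cfsg.Agent.H0.Co.L
import Cfsg.Agent.H16.DC7

/-! Generated by tools/h16 (computation kit). -/

set_option maxRecDepth 100000
set_option maxHeartbeats 0

namespace H16.CoC

open H26 (jn)
open DC
open DC
noncomputable def f0 : Fc := ⟨(nat_lit 0), (nat_lit 0), (nat_lit 0), nat_lit 0, nat_lit 0x100000000000001100101011011001011001001001110010000010100111010111111011001111000001010001101110011110110000011110111100010100001101000101010111, nat_lit 0x100000000000001100101011011001011001001001110010000010100111010111111011101111000001010001101110111110110000111110111100110100001101100101010111⟩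
noncomputable def f1 : Fc := ⟨(nat_lit 0), (nat_lit 0), (nat_lit 0), nat_lit 0, nat_lit 0x100000000000001111101101010111101101010101110010001000110111011010000101001101010100001110100010011100001110010110011000000111101100000111101111, nat_lit 0x100000000000001111101101010111101101010101110010001000110111011010000101001101010100001110100010011100001110010110011000000111101100000111101111⟩
noncomputable def f2 : Fc := ⟨(nat_lit 0), (nat_lit 0), (nat_lit 0), nat_lit 0, nat_lit 0x100000000000011010011111001000000000011111000110001000010000000001001111001000100000001010000000001000001000001000000100001000000010001000000001, nat_lit 0x100000000000011010011111001000000000011111000110001000010000000001001111001000100000001010000000001000001000001000000100001000000010001000000001⟩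
noncomputable def f3 : Fc := ⟨(nat_lit 0), (nat_lit 0), (nat_lit 0), nat_lit 0, nat_lit 0x100000000000010000000000001000000000000100000000000000010000001001001111000000000100000010000000010001110101000000100000001010111001011011100011, nat_lit 0x100000000000010000000000001000000000000100000000000000010000001001001111100000000100000010000000110001110101100000100000101010111001111011100011⟩
noncomputable def f4 : Fc := ⟨(nat_lit 0), (nat_lit 0), (nat_lit 0), nat_lit 0, nat_lit 0x100000000000001011001111000010010000011111101000000010000000010000011111000010100000001010000000000010001000000010000100000010000010000010000001, nat_lit 0x100000000000001011001111000010010000011111101000000010000000010000011111000010100000001010000000000010001000000010000100000010000010000010000001⟩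
noncomputable def f5 : Fc := ⟨(nat_lit 0), (nat_lit 0), (nat_lit 0), nat_lit 0, nat_lit 0x100000000000010000000000000010011111000111000110011001001111010000010000010000000010010001000000000001110101011010111001010000100000001011100011, nat_lit 0x100000000000010000000000000010011111000111000110011001001111010000010000110000000010010001000000100001110101111010111001110000100000101011100011⟩
noncomputable def f6 : Fc := ⟨(nat_lit 0), (nat_lit 0), (nat_lit 0), nat_lit 0, nat_lit 0x100000000000001101101000010101101000011111101000011001101000011010000101011101101100011101111000011101101001011101001000000110001011011101100000, nat_lit 0x100000000000001101101000010101101000011111101000011001101000011010000101111101101100011101111000111101101001111101001000100110001011111101100000⟩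
noncomputable def f7 : Fc := ⟨(nat_lit 0), (nat_lit 0), (nat_lit 0), nat_lit 0, nat_lit 0x100000000000001010111101000000100100000000000101000010000100000001000100001000000100000000010100011110110000000000000100010010011011000100000100, nat_lit 0x100000000000101010111101100000100100000000000101100010000100100001000100101000000100100000010100111110110000000000000100010010011011000100000100⟩
noncomputable def f8 : Fc := ⟨(nat_lit 0), (nat_lit 0), (nat_lit 0), nat_lit 0, nat_lit 0x100000000000010000000000001000000000000100000000000010000000000001000000100000100000000000010000100000001000100000000100100000000010100000000001, nat_lit 0x100000000000010000000000001000000000000100000000000010000000000001000000100000100000000000010000100000001000100000000100100000000010100000000001⟩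
noncomputable def f9 : Fc := ⟨(nat_lit 0), (nat_lit 0), (nat_lit 0), nat_lit 0, nat_lit 0x100000000000010000000000001000000000000100000000100010000000100001000000000000100000100000010000000000001000000000000100000000000010000000000001, nat_lit 0x100000000000010000000000001000000000000100000000100010000000100001000000000000100000100000010000000000001000000000000100000000000010000000000001⟩
noncomputable def f10 : Fc := ⟨(nat_lit 0), (nat_lit 0), (nat_lit 0), nat_lit 0, nat_lit 0x100000000000010000000000001000000000000100000000000010000000000001000000000000100000100000010000000000001000100000000100100000000010100000000001, nat_lit 0x100000000000010000000000001000000000000100000000000010000000000001000000000000100000100000010000000000001000100000000100100000000010100000000001⟩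
noncomputable def f11 : Fc := ⟨(nat_lit 0), (nat_lit 0), (nat_lit 0), nat_lit 0, nat_lit 0x100000000000010000000000001000000000000100000000000010000000100001000000100000100000000000010000100000001000100000000100000000000010000000000001, nat_lit 0x100000000000010000000000001000000000000100000000101111011010011101101000000000001000111100010011000000100000010001110101100000000001100000000010⟩
noncomputable def f12 : Fc := ⟨(nat_lit 0), (nat_lit 0), (nat_lit 0), nat_lit 0, nat_lit 0x100000000000001100101011011001011001001001110010000010100111010111111011001111000001010001101110011110110000011110111100010100001101000101010111, nat_lit 0x100000000000001100101011011001011001001001110010000010100111010111111011101111000001010001101110111110110000111110111100110100001101100101010111⟩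
noncomputable def f13 : Fc := ⟨(nat_lit 0), (nat_lit 0), (nat_lit 0), nat_lit 0, nat_lit 0x100000000000001111101101010111101101010101110010001000110111011010000101001101010100001110100010011100001110010110011000000111101100000111101111, nat_lit 0x100000000000001111101101010111101101010101110010001000110111011010000101001101010100001110100010011100001110010110011000000111101100000111101111⟩
noncomputable def f14 : Fc := ⟨(nat_lit 0), (nat_lit 0), (nat_lit 0), nat_lit 0, nat_lit 0x100000000000011010011111001000000000011111000110001000010000000001001111001000100000001010000000001000001000001000000100001000000010001000000001, nat_lit 0x100000000000011010011111001000000000011111000110001000010000000001001111001000100000001010000000001000001000001000000100001000000010001000000001⟩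
noncomputable def f15 : Fc := ⟨(nat_lit 0), (nat_lit 0), (nat_lit 0), nat_lit 0, nat_lit 0x100000000000011010110100010011000110000100000000011001101000001011011010000100100000000000111110000100001000000100000100000100000010000100000001, nat_lit 0x100000000000011010110100010011000110000100000000011001101000001011011010000100100000000000111110000100001000000100000100000100000010000100000001⟩
noncomputable def f16 : Fc := ⟨(nat_lit 0), (nat_lit 0), (nat_lit 0), nat_lit 0, nat_lit 0x100000000000011010110100010011000110000100000000011001101000001011011010000100100000000000111110000100001000000100000100000100000010000100000001, nat_lit 0x100000000000011010110100010011000110000100000000011001101000001011011010000100100000000000111110000100001000000100000100000100000010000100000001⟩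
noncomputable def f17 : Fc := ⟨(nat_lit 0), (nat_lit 0), (nat_lit 0), nat_lit 0, nat_lit 0x100000000000010000000000000010011111001110110100011001001111010000010000010000100000010001000000010000001000010000000100010000000010010000000001, nat_lit 0x100000000000010000000000000010011111001110110100011001001111010000010000010000100000010001000000010000001000010000000100010000000010010000000001⟩
noncomputable def f18 : Fc := ⟨(nat_lit 0), (nat_lit 0), (nat_lit 0), nat_lit 0, nat_lit 0x100000000000010000000000000010011111001110110100011001001111010000010000010000100000010001000000010000001000010000000100010000000010010000000001, nat_lit 0x100000000000010000000000000010011111001110110100011001001111010000010000010000100000010001000000010000001000010000000100010000000010010000000001⟩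
noncomputable def f19 : Fc := ⟨(nat_lit 0), (nat_lit 0), (nat_lit 0), nat_lit 0, nat_lit 0x100000000000001100101011011001011001001001110010010001101110011111110100011110111100000010100111011110010100001111000001011110110110011110110101, nat_lit 0x100000000000001100101011011001011001001001110010010001101110011111110100011110111100000010100111011110010100001111000001011110110110011110110101⟩
noncomputable def f20 : Fc := ⟨(nat_lit 0), (nat_lit 0), (nat_lit 0), nat_lit 0, nat_lit 0x100000000000001100101011011001011001001001110010010001101110011111110100011110111100000010100111011110010100001111000001011110110110011110110101, nat_lit 0x100000000000001100101011011001011001001001110010010001101110011111110100011110111100000010100111011110010100001111000001011110110110011110110101⟩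
noncomputable def f21 : Fc := ⟨(nat_lit 0), (nat_lit 0), (nat_lit 0), nat_lit 0, nat_lit 0x100000000000001100000000010100000000000100000000001011011010011001101000000100001000000100010000000100100000000100000100000100000010000100000001, nat_lit 0x100000000000001100000000010100000000000100000000001011011010011001101000000100001000000100010000000100100000000100000100000100000010000100000001⟩
noncomputable def f22 : Fc := ⟨(nat_lit 0), (nat_lit 0), (nat_lit 0), nat_lit 0, nat_lit 0x100000000000001100000000010100000000000100000000001011011010011001101000000100001000000100010000000100100000000100000100000100000010000100000001, nat_lit 0x100000000000001100000000010100000000000100000000001011011010011001101000000100001000000100010000000100100000000100000100000100000010000100000001⟩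
noncomputable def f23 : Fc := ⟨(nat_lit 0), (nat_lit 0), (nat_lit 0), nat_lit 0, nat_lit 0x100000000000011001011001010000101011010101110010000110101101000101101101001101010100000111111101011100001110000111101001000111101111000111101100, nat_lit 0x100000000000011001011001010000101011010101110010000110101101000101101101001101010100000111111101011100001110000111101001000111101111000111101100⟩
noncomputable def f24 : Fc := ⟨(nat_lit 0), (nat_lit 0), (nat_lit 0), nat_lit 0, nat_lit 0x100000000000011001011001010000101011010101110010000110101101000101101101001101010100000111111101011100001110000111101001000111101111000111101100, nat_lit 0x100000000000011001011001010000101011010101110010000110101101000101101101001101010100000111111101011100001110000111101001000111101111000111101100⟩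
noncomputable def f25 : Fc := ⟨(nat_lit 0), (nat_lit 0), (nat_lit 0), nat_lit 0, nat_lit 0x100000000000001011001111000010010000011111101000000010000000010000011111000010100000001010000000000010001000000010000100000010000010000010000001, nat_lit 0x100000000000001011001111000010010000011111101000000010000000010000011111000010100000001010000000000010001000000010000100000010000010000010000001⟩
noncomputable def f26 : Fc := ⟨(nat_lit 0), (nat_lit 0), (nat_lit 0), nat_lit 0, nat_lit 0x100000000000010000000000000010011111000111000110011001001111010000010000010000000010010001000000000001110101011010111001010000100000001011100011, nat_lit 0x100000000000010000000000000010011111000111000110011001001111010000010000110000000010010001000000100001110101111010111001110000100000101011100011⟩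
noncomputable def f27 : Fc := ⟨(nat_lit 0), (nat_lit 0), (nat_lit 0), nat_lit 0, nat_lit 0x100000000000010001000000011111011010000111000110010100000000010000000000010000100000010000010000001011100011010000000100010000000010010000000001, nat_lit 0x100000000000010001000000011111011010000111000110010100000000010000000000010000100000010000010000001011100011010000000100010000000010010000000001⟩
noncomputable def f28 : Fc := ⟨(nat_lit 0), (nat_lit 0), (nat_lit 0), nat_lit 0, nat_lit 0x100000000000000001000000000110101101000011000000010110000110010001000000000001100000000001010000001011111001000001000100000001000010000001000001, nat_lit 0x100000000000000001000000000110101101000011000000010110000110010001000000000001100000000001010000001011111001000001000100000001000010000001000001⟩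
noncomputable def f29 : Fc := ⟨(nat_lit 0), (nat_lit 0), (nat_lit 0), nat_lit 0, nat_lit 0x100000000000001010111101000000100100000000000101000010000100000001000100001000000100000000010100011110110000000000000100010010011011000100000100, nat_lit 0x100000000000101010111101100000100100000000000101100010000100100001000100101000000100100000010100111110110000000000000100010010011011000100000100⟩
noncomputable def f30 : Fc := ⟨(nat_lit 0), (nat_lit 0), (nat_lit 0), nat_lit 0, nat_lit 0x100000000000000101011001010011000110000111000110001010101110011000011100010111010110001100100101001011010101010111000010010111000100010111000111, nat_lit 0x100000000000000101011001010011000110000111000110001010101110011000011100010111010110001100100101001011010101010111000010010111000100010111000111⟩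
noncomputable def f31 : Fc := ⟨(nat_lit 0), (nat_lit 0), (nat_lit 0), nat_lit 0, nat_lit 0x100000000000011010110100001100101011010110110100000011011100010001101110011010001010011110010100010111111011011110110000011110110110011110110101, nat_lit 0x100000000000011010110100001100101011010110110100000011011100010001101110011010001010011110010100010111111011011110110000011110110110011110110101⟩
noncomputable def f32 : Fc := ⟨(nat_lit 0), (nat_lit 0), (nat_lit 0), nat_lit 0, nat_lit 0x100000000000001000111001000101100011010001011010011010111001010100001101001101010100001010101001011000100110001010111101001010111011001010111000, nat_lit 0x100000000000001000111001000101100011010001011010011010111001010100001101001101010100001010101001011000100110001010111101001010111011001010111000⟩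
noncomputable def f33 : Fc := ⟨(nat_lit 0), (nat_lit 0), (nat_lit 0), nat_lit 0, nat_lit 0x100000000000001000111001000101100011010001011010011010111001010100001101001101010100001010101001011000100110001010111101001010111011001010111000, nat_lit 0x100000000000001000111001000101100011010001011010011010111001010100001101001101010100001010101001011000100110001010111101001010111011001010111000⟩
noncomputable def f34 : Fc := ⟨(nat_lit 0), (nat_lit 0), (nat_lit 0), nat_lit 0, nat_lit 0x100000000000010000000000001000000000000100000000000010000000000001000000100000100000000000010000100000001000100000000100100000000010100000000001, nat_lit 0x100000000000010000000000001000000000000100000000000010000000000001000000100000100000000000010000100000001000100000000100100000000010100000000001⟩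
noncomputable def f35 : Fc := ⟨(nat_lit 0), (nat_lit 0), (nat_lit 0), nat_lit 0, nat_lit 0x100000000000110001000000111111011010000111000110010100000000010000000000110000100000110000010000101011100011110000000100110000000010110000000001, nat_lit 0x100000000000110001000000111111011010000111000110010100000000010000000000110000100000110000010000101011100011110000000100110000000010110000000001⟩
noncomputable def f36 : Fc := ⟨(nat_lit 0), (nat_lit 0), (nat_lit 0), nat_lit 0, nat_lit 0x100000000000000001000000000110101101000011000000110110000110110001000000100001100000100001010000101011111001100001000100100001000010100001000001, nat_lit 0x100000000000000001000000000110101101000011000000110110000110110001000000100001100000100001010000101011111001100001000100100001000010100001000001⟩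
noncomputable def f37 : Fc := ⟨(nat_lit 0), (nat_lit 0), (nat_lit 0), nat_lit 0, nat_lit 0x100000000000110000000000101000000000000100000000100010000000100001000000000000100000000000010000000000001000000000000100000000000010000000000001, nat_lit 0x100000000000110000000000101000000000000100000000100010000000100001000000000000100000000000010000000000001000000000000100000000000010000000000001⟩
noncomputable def f38 : Fc := ⟨(nat_lit 0), (nat_lit 0), (nat_lit 0), nat_lit 0, nat_lit 0x100000000000110000000000101000000000000100000000100010000000100001000000000000100000000000010000000000001000000000000100000000000010000000000001, nat_lit 0x100000000000110000000000101000000000000100000000100010000000100001000000000000100000000000010000000000001000000000000100000000000010000000000001⟩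
noncomputable def f39 : Fc := ⟨(nat_lit 0), (nat_lit 0), (nat_lit 0), nat_lit 0, nat_lit 0x100000000000010000000000001000000000000100000000000010000000100001000000100000100000000000010000100000001000100000000100000000000010000000000001, nat_lit 0x100000000000010000000000001000000000000100000000101111011010011101101000000000001000111100010011000000100000010001110101100000000001100000000010⟩
noncomputable def f40 : Fc := ⟨(nat_lit 0), (nat_lit 0), (nat_lit 0), nat_lit 0, nat_lit 0x100000000000010000000000001000000000100100000000000010000000100001000000100000100000100000010000000000001000100000000100100000000010100000000001, nat_lit 0x100000000000100010011111111010011111110101110010011101000101101111110111111000100110110110100001001001111100010010011011010010011101010010011110⟩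
noncomputable def f41 : Fc := ⟨(nat_lit 0), (nat_lit 0), (nat_lit 0), nat_lit 0, nat_lit 0x100000000000010000000000001000000000100100000000000010000000100001000000100000100000100000010000000000001000100000000100100000000010100000000001, nat_lit 0x100000000000100010011111111010011111110101110010011101000101101111110111111000100110110110100001001001111100010010011011010010011101010010011110⟩
noncomputable def f42 : Fc := ⟨(nat_lit 0), (nat_lit 0), (nat_lit 0), nat_lit 0, nat_lit 0x100000000000010000000000101000000000000100000000100010000000000001000000000000100000000000010000000000001000000000000100000000000010000000000001, nat_lit 0x100000000000011010110100110011000110000100000000111001101000001011011010100100100000000000111110100100001000100100000100100100000010100100000001⟩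
noncomputable def f43 : Fc := ⟨(nat_lit 0), (nat_lit 0), (nat_lit 0), nat_lit 0, nat_lit 0x100000000000010000000000101000000000000100000000100010000000000001000000000000100000000000010000000000001000000000000100000000000010000000000001, nat_lit 0x100000000000011010110100110011000110000100000000111001101000001011011010100100100000000000111110100100001000100100000100100100000010100100000001⟩
noncomputable def f44 : Fc := ⟨(nat_lit 0), (nat_lit 0), (nat_lit 0), nat_lit 0, nat_lit 0x100000000000010000000000101000000000000100000000000010000000000001000000000000100000000000010000000000001000000000000100000000000010000000000001, nat_lit 0x100000000000110111000110011110110100000100000000100001000000100010000000100000001000100100111110100000100000000000000100000000000010000000000001⟩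
noncomputable def f45 : Fc := ⟨(nat_lit 0), (nat_lit 0), (nat_lit 0), nat_lit 0, nat_lit 0x100000000000010000000000101000000000000100000000000010000000000001000000000000100000000000010000000000001000000000000100000000000010000000000001, nat_lit 0x100000000000110111000110011110110100000100000000100001000000100010000000100000001000100100111110100000100000000000000100000000000010000000000001⟩
noncomputable def f46 : Fc := ⟨(nat_lit 0), (nat_lit 0), (nat_lit 0), nat_lit 0, nat_lit 0x100000000000010000000000101000000000100100000000100010000000100001000000100000100000100000010000100000001000100000000100100000000010100000000001, nat_lit 0x100000000000001100101011100101011001110101110010010000011111010011011111110010010111101110001100110010111111010010011011010010011101010010011110⟩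
noncomputable def f47 : Fc := ⟨(nat_lit 0), (nat_lit 0), (nat_lit 0), nat_lit 0, nat_lit 0x100000000000011100110100101010000000111111101000111001100011101000111001100101101101100010010000100110000000100010000100100010000010100010000001, nat_lit 0x100000000000010110000110110001000000101110011010011010100011001011111001100101000000101000001111100110101101000001000100000001000010000001000001⟩
noncomputable def f48 : Fc := ⟨(nat_lit 0), (nat_lit 0), (nat_lit 0), nat_lit 0, nat_lit 0x100000000000101100100101110011100011111011101011011011100011001001111100110100111001111011110011100110001011111011100111111011100001111011100010, nat_lit 0x100000000000100010111001111101111111101010011001011000100110001010111001000101100011110110101010010111010001001010111101001010111011001010111000⟩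
noncomputable def f49 : Fc := ⟨(nat_lit 0), (nat_lit 0), (nat_lit 0), nat_lit 0, nat_lit 0x100000000000001010111101100000100100000000000101100010000100100001000100101000000100000000010100111110110000000000000100010010011011000100000100, nat_lit 0x100000000000011011100111100000001100000000000101100001000100100010000100111110110000000100111010101000000100000000000100010010011011000100000100⟩
noncomputable def f50 : Fc := ⟨(nat_lit 0), (nat_lit 0), (nat_lit 0), nat_lit 0, nat_lit 0x100000000000001010111101100000100100000000000101100010000100100001000100101000000100000000010100111110110000000000000100010010011011000100000100, nat_lit 0x100000000000011011100111100000001100000000000101100001000100100010000100111110110000000100111010101000000100000000000100010010011011000100000100⟩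
noncomputable def f51 : Fc := ⟨(nat_lit 0), (nat_lit 0), (nat_lit 0), nat_lit 0, nat_lit 0x100000000000001010111101100000100100000000000101000000010100101001001011000000000100000010000100100111101001001000000100110000000100010111000010, nat_lit 0x100000000000011011100111100000001100000000000101011100010111100100111010010010011011100010000100100100000100110111000010011110110000101000000100⟩
noncomputable def f52 : Fc := ⟨(nat_lit 0), (nat_lit 0), (nat_lit 0), nat_lit 0, nat_lit 0x100000000000100000100010000000100100111011000011000000110000001001101111101000100000000010100000111110010100000000100000010010111111000100100000, nat_lit 0x100000000000011011001100101010111000101010110001101010101001100011110110110100001101000101100011100010111001001010111001011000100110001110111001⟩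
noncomputable def f53 : Fc := ⟨(nat_lit 0), (nat_lit 0), (nat_lit 0), nat_lit 0, nat_lit 0x100000000000011100110011100100011110000000101000100000100100010001010101111110010100100000100000110111100110101111111010000010100000011101001000, nat_lit 0x100000000000100000110000001001101111000000101000100000100010000000100001111110010100010010111111110111100110100001100000011101001000000010100000⟩
noncomputable def f54 : Fc := ⟨(nat_lit 0), (nat_lit 0), (nat_lit 0), nat_lit 0, nat_lit 0x100000000000001010101001011011110011100100101110100000010010010001100101100000010000110111010110100100010000000010010000011101111000101111001010, nat_lit 0x100000000000100011110110110010101100110101011100001001001110101001001011001001001111111001001111001101001111110100100111101011001111001000001111⟩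
noncomputable def f55 : Fc := ⟨(nat_lit 0), (nat_lit 0), (nat_lit 0), nat_lit 0, nat_lit 0x100000000000100000100100111011100111000000000110011100010111000100111010101000000100000000000100011110110000101111011110011101101100000001000100, nat_lit 0x100000000000111011100111100000100100000000000110000100111010011100010111110111000010100000000100010000000100000010000100100001000100111101101100⟩
noncomputable def f56 : Fc := ⟨(nat_lit 0), (nat_lit 0), (nat_lit 0), nat_lit 0, nat_lit 0x100000000000001010101001100000110000000100101110110001100101000000010001110000010000101111001010011110100100000000010000000100010000000111111101, nat_lit 0x100000000000100000011000011011110011000100101110100000010100000000010010001000010000011101111000110111010110100000010000100100010000100111111101⟩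
noncomputable def f57 : Fc := ⟨(nat_lit 0), (nat_lit 0), (nat_lit 0), nat_lit 0, nat_lit 0x100000000000001101100110011100010010010101011100010100010011000010100111111110010011111100110011010011001001001110001100011100010011011000010011, nat_lit 0x100000000000011000111010001001001110010101011100010111111011000001001111101000001111101001000111010100100111011011010000001001001111001101001111⟩
noncomputable def f58 : Fc := ⟨(nat_lit 0), (nat_lit 0), (nat_lit 0), nat_lit 0, nat_lit 0x100000000000110100111110001100010011101110110100010100000000010000000000100001110101101011100011110000000001010001000000111111011010010010000000, nat_lit 0x100000000000110111010110011110001001111111000110110011000110110111000110100110110011111101111111110111000111110101000110001010101110110110000110⟩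
noncomputable def f59 : Fc := ⟨(nat_lit 0), (nat_lit 0), (nat_lit 0), nat_lit 0, nat_lit 0x100000000000000001000000100110101101000011000000000001000001000001000100011101010011110110000110001000001111101011111001111010100011100001001000, nat_lit 0x100000000000110011011111000101000000000011000000000001000100000001000001101000001111010001000000111101010011001011111001011010100011000001001000⟩
noncomputable def f60 : Fc := ⟨(nat_lit 0), (nat_lit 0), (nat_lit 0), nat_lit 0, nat_lit 0x100000000000101000001111100110010101101101110001001001001011101001001110111011010000110010101100001001001111010111111011011001001111100001001111, nat_lit 0x100000000000000001010000001111001010111100000011100000010010010001100101100100010000011011110011000111111101110000010000111110100100010111010110⟩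
noncomputable def f61 : Fc := ⟨(nat_lit 0), (nat_lit 0), (nat_lit 0), nat_lit 0, nat_lit 0x100000000000000000001010100000001001111011101011110111001110110000001000101001000111000111100101111100011011000010001000001111010010100001001000, nat_lit 0x100000000000101010111101011011001100101010011001011101111111011010111001000011110110001010111001010110101010100101100011101000111001010111010001⟩
noncomputable def f62 : Fc := ⟨(nat_lit 0), (nat_lit 0), (nat_lit 0), nat_lit 0, nat_lit 0x100000000000011000100110101001111100110110011111110110100001010010001111110011011111110010011011111101000101000010011111011010011111101100101011, nat_lit 0x100000000000000111100101100111001101100111101101111011111110001110100010101000110111000111101111100110101101101111101101110111101101010000101011⟩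
noncomputable def f63 : Fc := ⟨(nat_lit 0), (nat_lit 0), (nat_lit 0), nat_lit 0, nat_lit 0x100000000000100111101001100111101111000011101101111100001110000111001101011001011001100110101101110000101011000111111101001110100010100011010011, nat_lit 0x100000000000000100000010000100000100000011101101101110111001000100001000001100000000111001101000110100000000101101001111100100010000011000010011⟩
noncomputable def f64 : Fc := ⟨(nat_lit 0), (nat_lit 0), (nat_lit 0), nat_lit 0, nat_lit 0x100000000000010010001111110110100001110101110010110010011110110010011011111000100110011010011111001001111100001111110111010011011111011101000101, nat_lit 0x100000000000011000010011101101001111100100000000000100000100000100000001100100100000101100000000000100001000011001101000000101000000001011011010⟩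
noncomputable def f65 : Fc := ⟨(nat_lit 0), (nat_lit 0), (nat_lit 0), nat_lit 0, nat_lit 0x100000000000110110100001110010001111110101110010100011101010110010011101011000100110100010011111101001111100010011011111101111110111010000011111, nat_lit 0x100000000000000000111110000100010000100100000000110101110101100100000010000100100000111010110100100100001000100110000000001011011010100101000000⟩
noncomputable def f66 : Fc := ⟨(nat_lit 0), (nat_lit 0), (nat_lit 0), nat_lit 0, nat_lit 0x100000000000100101011001110000101011111111000110001011010101110011111000110110000110010111100110111000011100110111000111100110110011110111000100, nat_lit 0x100000000000001100101011011001011001101110110100011110100100110111111011110001101110010100001101111111110100011110110101001111000001011110110110⟩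
noncomputable def f67 : Fc := ⟨(nat_lit 0), (nat_lit 0), (nat_lit 0), nat_lit 0, nat_lit 0x100000000000001100101011011010110100001001110010110100001101011110010100111110100100100011011100011010001010001111000001011110110101011110110000, nat_lit 0x100000000000111010110100101100101011001001110010000101010111111110111100010111111011011100110100100010100111001111000001011110110101011110110000⟩
noncomputable def f68 : Fc := ⟨(nat_lit 1), (nat_lit 0), (nat_lit 0), nat_lit 0, nat_lit 0x100000000000001100101011011001011001001001110010000010100111010111111011001111000001010001101110011110110000011110111100010100001101000101010111, (nat_lit 0)⟩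
noncomputable def f69 : Fc := ⟨(nat_lit 1), (nat_lit 0), (nat_lit 0), nat_lit 0, nat_lit 0x100000000000001100101011011001011001001001110010000010100111010111111011001111000001010001101110011110110000011110111100010100001101000101010111, (nat_lit 0)⟩
noncomputable def f70 : Fc := ⟨(nat_lit 1), (nat_lit 0), (nat_lit 0), nat_lit 0, nat_lit 0x100000000000011010011111001000000000011111000110001000010000000001001111001000100000001010000000001000001000001000000100001000000010001000000001, (nat_lit 0)⟩
noncomputable def f71 : Fc := ⟨(nat_lit 1), (nat_lit 0), (nat_lit 0), nat_lit 0, nat_lit 0x100000000000011010011111001000000000011111000110001000010000000001001111001000100000001010000000001000001000001000000100001000000010001000000001, (nat_lit 0)⟩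
noncomputable def f72 : Fc := ⟨(nat_lit 1), (nat_lit 0), (nat_lit 0), nat_lit 0, nat_lit 0x100000000000010000000000001000000000000100000000000000010000001001001111000000000100000010000000010001110101000000100000001010111001011011100011, (nat_lit 0)⟩
noncomputable def f73 : Fc := ⟨(nat_lit 1), (nat_lit 0), (nat_lit 0), nat_lit 0, nat_lit 0x100000000000010000000000001000000000000100000000000000010000001001001111000000000100000010000000010001110101000000100000001010111001011011100011, (nat_lit 0)⟩
noncomputable def f74 : Fc := ⟨(nat_lit 1), (nat_lit 0), (nat_lit 0), nat_lit 0, nat_lit 0x100000000000010000000000001000000000000100000000000000010000001001001111000000000100000010000000010001110101000000100000001010111001011011100011, (nat_lit 0)⟩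
noncomputable def f75 : Fc := ⟨(nat_lit 1), (nat_lit 0), (nat_lit 0), nat_lit 0, nat_lit 0x100000000000010000000000001000000000000100000000000000010000001001001111000000000100000010000000010001110101000000100000001010111001011011100011, (nat_lit 0)⟩
noncomputable def f76 : Fc := ⟨(nat_lit 1), (nat_lit 0), (nat_lit 0), nat_lit 0, nat_lit 0x100000000000011010011111001000000000011111000110001000010000000001001111001000100000001010000000001000001000001000000100001000000010001000000001, (nat_lit 0)⟩
noncomputable def f77 : Fc := ⟨(nat_lit 1), (nat_lit 0), (nat_lit 0), nat_lit 0, nat_lit 0x100000000000010111101101011001011001000011101101011011111110001110100010000111100101001000110111000111001101010110011000000111101111000111101100, (nat_lit 0)⟩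
noncomputable def f78 : Fc := ⟨(nat_lit 1), (nat_lit 0), (nat_lit 0), nat_lit 0, nat_lit 0x100000000000001011001111000010010000011111101000000010000000010000011111000010100000001010000000000010001000000010000100000010000010000010000001, (nat_lit 0)⟩
noncomputable def f79 : Fc := ⟨(nat_lit 1), (nat_lit 0), (nat_lit 0), nat_lit 0, nat_lit 0x100000000000001011001111000010010000011111101000000010000000010000011111000010100000001010000000000010001000000010000100000010000010000010000001, (nat_lit 0)⟩
noncomputable def f80 : Fc := ⟨(nat_lit 1), (nat_lit 0), (nat_lit 0), nat_lit 0, nat_lit 0x100000000000010000000000000010011111000111000110011001001111010000010000010000000010010001000000000001110101011010111001010000100000001011100011, (nat_lit 0)⟩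
noncomputable def f81 : Fc := ⟨(nat_lit 1), (nat_lit 0), (nat_lit 0), nat_lit 0, nat_lit 0x100000000000010000101011010101110010011001011001001000110111000111111101000111101111000110101101000111101100010110011000000111001101000111100101, (nat_lit 0)⟩
noncomputable def f82 : Fc := ⟨(nat_lit 1), (nat_lit 0), (nat_lit 0), nat_lit 0, nat_lit 0x100000000000010000101011010101110010011001011001001000110111000111111101000111101111000110101101000111101100010110011000000111001101000111100101, (nat_lit 0)⟩
noncomputable def f83 : Fc := ⟨(nat_lit 1), (nat_lit 0), (nat_lit 0), nat_lit 0, nat_lit 0x100000000000001101101000010101101000011111101000011001101000011010000101011101101100011101111000011101101001011101001000000110001011011101100000, (nat_lit 0)⟩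
noncomputable def f84 : Fc := ⟨(nat_lit 1), (nat_lit 0), (nat_lit 0), nat_lit 0, nat_lit 0x100000000000001101101000010101101000011111101000011001101000011010000101011101101100011101111000011101101001011101001000000110001011011101100000, (nat_lit 0)⟩
noncomputable def f85 : Fc := ⟨(nat_lit 1), (nat_lit 0), (nat_lit 0), nat_lit 0, nat_lit 0x100000000000001010111101000000100100000000000101000010000100000001000100001000000100000000010100011110110000000000000100010010011011000100000100, (nat_lit 0)⟩
noncomputable def f86 : Fc := ⟨(nat_lit 1), (nat_lit 0), (nat_lit 0), nat_lit 0, nat_lit 0x100000000000001100101011011001011001001001110010000010100111010111111011001111000001010001101110011110110000011110111100010100001101000101010111, (nat_lit 0)⟩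
noncomputable def f87 : Fc := ⟨(nat_lit 1), (nat_lit 0), (nat_lit 0), nat_lit 0, nat_lit 0x100000000000001100101011011001011001001001110010000010100111010111111011001111000001010001101110011110110000011110111100010100001101000101010111, (nat_lit 0)⟩
noncomputable def f88 : Fc := ⟨(nat_lit 1), (nat_lit 0), (nat_lit 0), nat_lit 0, nat_lit 0x100000000000011100110100001110110100011111110100000010100111011010110100000101010111010111111011011110111100010100001101011110110000011110110101, (nat_lit 0)⟩
noncomputable def f89 : Fc := ⟨(nat_lit 1), (nat_lit 0), (nat_lit 0), nat_lit 0, nat_lit 0x100000000000000001001111001110100010001000001111011001001111001101001111011000111010000110010101001001000111001001001101000011110110001001001110, (nat_lit 0)⟩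
noncomputable def f90 : Fc := ⟨(nat_lit 1), (nat_lit 0), (nat_lit 0), nat_lit 0, nat_lit 0x100000000000010110100001001110001100010110011111010011011111010000011111001001111100001100101011011000100110000011101010010010011011010010011101, (nat_lit 0)⟩
noncomputable def f91 : Fc := ⟨(nat_lit 1), (nat_lit 0), (nat_lit 0), nat_lit 0, nat_lit 0x100000000000001110001100010110100001010110011111010011011111010000011111011000100110000101011001001001111100010010011101010010011110000011101010, (nat_lit 0)⟩
noncomputable def f92 : Fc := ⟨(nat_lit 1), (nat_lit 0), (nat_lit 0), nat_lit 0, nat_lit 0x100000000000010000000000001000000000000100000000000010000000000001000000100000100000000000010000100000001000100000000100100000000010100000000001, (nat_lit 0)⟩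
noncomputable def f93 : Fc := ⟨(nat_lit 1), (nat_lit 0), (nat_lit 0), nat_lit 0, nat_lit 0x100000000000010000000000001000000000000100000000000010000000000001000000100000100000000000010000100000001000100000000100100000000010100000000001, (nat_lit 0)⟩
noncomputable def f94 : Fc := ⟨(nat_lit 1), (nat_lit 0), (nat_lit 0), nat_lit 0, nat_lit 0x100000000000000000100010010001110111001010111011000001000010000100111100010010011101001111011000000100000010000111101111001000000010011110110110, (nat_lit 0)⟩
noncomputable def f95 : Fc := ⟨(nat_lit 1), (nat_lit 0), (nat_lit 0), nat_lit 0, nat_lit 0x100000000000001010010110010001110111010001111101001101100110010011110101000001110101011000111010000110110011001111000001010001110101010110011000, (nat_lit 0)⟩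
noncomputable def f96 : Fc := ⟨(nat_lit 1), (nat_lit 0), (nat_lit 0), nat_lit 0, nat_lit 0x100000000000001010000000000111011010011111000110001111101101001000000000001000000001001000010000001000000010001000001000010011100011001000100000, (nat_lit 0)⟩
noncomputable def f97 : Fc := ⟨(nat_lit 1), (nat_lit 0), (nat_lit 0), nat_lit 0, nat_lit 0x100000000000000110101101000001000000001110011010010001000000010110000110000001000001000001010000000001000100001011111001000001001000000001100000, (nat_lit 0)⟩
noncomputable def f98 : Fc := ⟨(nat_lit 1), (nat_lit 0), (nat_lit 0), nat_lit 0, nat_lit 0x100000000000010111101101011001011001000011101101001000110111000110101101110110011000011011111110100111101001100111100101101101010100111100001110, (nat_lit 0)⟩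
noncomputable def f99 : Fc := ⟨(nat_lit 1), (nat_lit 0), (nat_lit 0), nat_lit 0, nat_lit 0x100000000000010111101101011001011001000011101101001000110111000110101101110110011000011011111110100111101001100111100101101101010100111100001110, (nat_lit 0)⟩
noncomputable def a0 : ℕ := (nat_lit 0x100000000000010000000000001000000000000100000000000010000000000001000000000000100000000000010000000000001000000000000100000000000010000000000001)
noncomputable def f100 : Fc := ⟨(nat_lit 2), (nat_lit 0), (nat_lit 1), nat_lit 0, a0, a0⟩
noncomputable def f101 : Fc := ⟨(nat_lit 2), (nat_lit 1), (nat_lit 0), nat_lit 0, a0, a0⟩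
noncomputable def f102 : Fc := ⟨(nat_lit 1), (nat_lit 1), (nat_lit 1), nat_lit 0, nat_lit 0x100000000000000011110110010010101100010101011100101001001011111000111010011011010000000110010101001110100010111001001111110111111011100001001111, (nat_lit 0)⟩
noncomputable def f103 : Fc := ⟨(nat_lit 1), (nat_lit 1), (nat_lit 1), nat_lit 0, nat_lit 0x100000000000101010111101101010111000010001011010000011110110001110000111011101111111001101010100010100001101101000111001100101100011110111010001, (nat_lit 0)⟩
noncomputable def f104 : Fc := ⟨(nat_lit 1), (nat_lit 1), (nat_lit 1), nat_lit 0, nat_lit 0x100000000000010011001001001011100100001101011010001000110111001011011010111110101111011000011100101111011000110100111001101111010010100101100011, (nat_lit 0)⟩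
noncomputable def f105 : Fc := ⟨(nat_lit 1), (nat_lit 1), (nat_lit 1), nat_lit 0, nat_lit 0x100000000000011001010110000001111011011100101000011001101000011010000101101100011101000011011100111101101010100110001011111101100000110111010001, (nat_lit 0)⟩
noncomputable def f106 : Fc := ⟨(nat_lit 1), (nat_lit 1), (nat_lit 1), nat_lit 0, nat_lit 0x100000000000001100000000001000000000011000000000001000001000000010111001001010000000111001110101000111011010101000010000101100111110100001001111, (nat_lit 0)⟩
noncomputable def f107 : Fc := ⟨(nat_lit 1), (nat_lit 1), (nat_lit 1), nat_lit 0, nat_lit 0x100000000000001100000000001000000000011000000000001000100000010011100011000111011010101000000100001010000000110100010011100001001111101100111110, (nat_lit 0)⟩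
noncomputable def f108 : Fc := ⟨(nat_lit 1), (nat_lit 1), (nat_lit 1), nat_lit 0, nat_lit 0x100000000000000101101101011010000101000011101101010000101011001111101101000111100101011011111110001101010100010110011000000111101001000111101111, (nat_lit 0)⟩
noncomputable def f109 : Fc := ⟨(nat_lit 1), (nat_lit 1), (nat_lit 1), nat_lit 0, nat_lit 0x100000000000001000110111000110101101000011101101010111101101011001011001011100001110011011111110000111001101000111101111000111101100010110011000, (nat_lit 0)⟩
noncomputable def f110 : Fc := ⟨(nat_lit 1), (nat_lit 1), (nat_lit 1), nat_lit 0, nat_lit 0x100000000000101010111101100000100100000000000101011101101100001111011110010111000010000100111010010000000100100100000100100111101001100000000100, (nat_lit 0)⟩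
noncomputable def f111 : Fc := ⟨(nat_lit 1), (nat_lit 1), (nat_lit 1), nat_lit 0, nat_lit 0x100000000000100000001001111011100010000000000101111101101001101111011011001000000001100100111111011110110101100000000001110010011110100100000001, (nat_lit 0)⟩
noncomputable def f112 : Fc := ⟨(nat_lit 1), (nat_lit 1), (nat_lit 1), nat_lit 0, nat_lit 0x100000000000110111101101011001011001100011101101000111100101001101010100111011111110110110011000100111111101001000110111100110101101111010000101, (nat_lit 0)⟩
noncomputable def f113 : Fc := ⟨(nat_lit 1), (nat_lit 1), (nat_lit 1), nat_lit 0, nat_lit 0x100000000000110111101101011001011001100011101101010110011000100111101111001000110111100111100101000101101101111011111110101110100010100011010011, (nat_lit 0)⟩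
noncomputable def f114 : Fc := ⟨(nat_lit 2), (nat_lit 1), (nat_lit 1), nat_lit 0, nat_lit 0x100000000000000110111110011001010110111000101101010011111000101100111110110101001011000000111110000100111010000100110110101110000111111111011101, nat_lit 0x100000000000010000000000001000000000100100000000000010000000000001000000000000100000000000010000100000001000100000000100100000000010100000000001⟩
noncomputable def f115 : Fc := ⟨(nat_lit 2), (nat_lit 1), (nat_lit 1), nat_lit 0, nat_lit 0x100000000000111000010011110101011100011011111110010100010011110011001001000111110000101011010101011100011011010110101010111100010001101101100110, nat_lit 0x100000000000010010110010011101101100111101101001100110001011110100100111101010101110011101111000110101101000101111110111101101101000100011011100⟩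
noncomputable def f116 : Fc := ⟨(nat_lit 2), (nat_lit 1), (nat_lit 2), nat_lit 0, nat_lit 0x100000000000011111110100011100101000000001000000010011011111000001010000000001001000000101000000000001000100010000110101011010100011001011111001, a0⟩
noncomputable def f117 : Fc := ⟨(nat_lit 2), (nat_lit 2), (nat_lit 1), nat_lit 0, a0, nat_lit 0x100000000000011111110100011100101000000001000000010011011111000001010000000001001000000101000000000001000100010000110101011010100011001011111001⟩
noncomputable def f118 : Fc := ⟨(nat_lit 1), (nat_lit 2), (nat_lit 2), nat_lit 0, nat_lit 0x100000000000000101101101000110000000001101011010010010000000001010000000000010000100011110010011010011110101000010100000000010001000011001100011, (nat_lit 0)⟩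
noncomputable def f119 : Fc := ⟨(nat_lit 1), (nat_lit 2), (nat_lit 2), nat_lit 0, nat_lit 0x100000000000011100110100011111110100010110110100011110110100001100101011011110110000011010001010011110110110011110010100000101010111010100001101, (nat_lit 0)⟩
noncomputable def f120 : Fc := ⟨(nat_lit 1), (nat_lit 2), (nat_lit 2), nat_lit 0, nat_lit 0x100000000000111101010011001000001111100011000000110110000110001001000000000001100000100101000000000001001000000001000100000001000001000001000010, (nat_lit 0)⟩
noncomputable def f121 : Fc := ⟨(nat_lit 1), (nat_lit 2), (nat_lit 2), nat_lit 0, nat_lit 0x100000000000010000101011110011000110111111000110110011111000001011010101010111100110001010101110010111001110010111000010010111000100010111000111, (nat_lit 0)⟩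
noncomputable def f122 : Fc := ⟨(nat_lit 1), (nat_lit 2), (nat_lit 2), nat_lit 0, nat_lit 0x100000000000011010011111101000000000011111000110100111011010110101101000111001110101010100010011101000000100101000001000010011100011000010111001, (nat_lit 0)⟩
noncomputable def f123 : Fc := ⟨(nat_lit 1), (nat_lit 2), (nat_lit 2), nat_lit 0, nat_lit 0x100000000000011010011111101000000000011111000110100111011010110101101000011001110101010100010011001000000100001000001000110011100011100010111001, (nat_lit 0)⟩
noncomputable def f124 : Fc := ⟨(nat_lit 2), (nat_lit 2), (nat_lit 1), nat_lit 0, nat_lit 0x100000000000110100010011011111000110001100111110001000000001100010111001101010000000101000000010000111011010010101101000101111101101101000000000, nat_lit 0x100000000000011100101000000001010000000001000000011010100011110000110101001000001111101011111001000101000000100011000000100101111110110011011111⟩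
noncomputable def f125 : Fc := ⟨(nat_lit 1), (nat_lit 2), (nat_lit 2), nat_lit 0, nat_lit 0x100000000000011010110100111000010011000101000000101011011010000011101101100100001000010011000110000100000010111111100011100100100000000100000001, (nat_lit 0)⟩
noncomputable def f126 : Fc := ⟨(nat_lit 2), (nat_lit 2), (nat_lit 2), nat_lit 0, nat_lit 0x100000000000000011010011100111111101000111101101001000110111100110101101100111101111001111101101100111101100001101010100111100001110000111001101, nat_lit 0x100000000000010000000000001000000000100100000000000010000000000001000000000000100000000000010000100000001000100000000100100000000010100000000001⟩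
noncomputable def f127 : Fc := ⟨(nat_lit 2), (nat_lit 1), (nat_lit 3), nat_lit 0, nat_lit 0x100000000000000001110101010000000000010010000000001011100011000111000110001100010011011010111001010000100000010000001000010000000010010000000001, a0⟩
noncomputable def f128 : Fc := ⟨(nat_lit 2), (nat_lit 3), (nat_lit 1), nat_lit 0, a0, nat_lit 0x100000000000000001110101010000000000010010000000001011100011000111000110001100010011011010111001010000100000010000001000010000000010010000000001⟩
noncomputable def f129 : Fc := ⟨(nat_lit 1), (nat_lit 3), (nat_lit 3), nat_lit 0, nat_lit 0x100000000000111110110100001100101011001110110100010001101110000011011100111110110110010111111011011110110101111110111100000101010111010100001101, (nat_lit 0)⟩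
noncomputable def f130 : Fc := ⟨(nat_lit 1), (nat_lit 3), (nat_lit 3), nat_lit 0, nat_lit 0x100000000000110100000000110111101101001110110100111111011010101101101000000001110101011001001111010000000100011010111001010000100000110000001000, (nat_lit 0)⟩
noncomputable def f131 : Fc := ⟨(nat_lit 1), (nat_lit 3), (nat_lit 3), nat_lit 0, nat_lit 0x100000000000001100101011000101011001010101110010100011101010110010011101001110001100110011011111010010001111111000100110010010010111110010111111, (nat_lit 0)⟩
noncomputable def f132 : Fc := ⟨(nat_lit 1), (nat_lit 3), (nat_lit 3), nat_lit 0, nat_lit 0x100000000000110000101011111001011001010101110010000011010011100111111101100111101100000111100101000111101111101000110111100110101101111010000101, (nat_lit 0)⟩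
noncomputable def f133 : Fc := ⟨(nat_lit 1), (nat_lit 3), (nat_lit 3), nat_lit 0, nat_lit 0x100000000000110100000000110111101101001110110100111111011010101101101000000001110101011001001111010000000100011010111001010000100000110000001000, (nat_lit 0)⟩
noncomputable def f134 : Fc := ⟨(nat_lit 1), (nat_lit 3), (nat_lit 3), nat_lit 0, nat_lit 0x100000000000111110110100001100101011001110110100010001101110000011011100111110110110010111111011011110110101111110111100000101010111010100001101, (nat_lit 0)⟩
noncomputable def f135 : Fc := ⟨(nat_lit 1), (nat_lit 3), (nat_lit 3), nat_lit 0, nat_lit 0x100000000000001100000000011010110100010110011111000100001000101110111001110101110101000110000000100100000100100100010000000000111110001101001111, (nat_lit 0)⟩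
noncomputable def f136 : Fc := ⟨(nat_lit 1), (nat_lit 3), (nat_lit 3), nat_lit 0, nat_lit 0x100000000000010000101011010111101101000111101101000111111101100011010011001000110111100111101001000101101101100111100101001101010100011100001110, (nat_lit 0)⟩
noncomputable def f137 : Fc := ⟨(nat_lit 1), (nat_lit 3), (nat_lit 3), nat_lit 0, nat_lit 0x100000000000110000000000011110110100010010011111111101101000000010000000100000000100101001001111110001110101000000001000101010111001111011100011, (nat_lit 0)⟩
noncomputable def f138 : Fc := ⟨(nat_lit 1), (nat_lit 3), (nat_lit 3), nat_lit 0, nat_lit 0x100000000000110000000000011110110100010010011111000001000000001111011010010001110101000100111110000000000100100000100000111011100011101010111001, (nat_lit 0)⟩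
noncomputable def f139 : Fc := ⟨(nat_lit 1), (nat_lit 3), (nat_lit 3), nat_lit 0, nat_lit 0x100000000000010111101101101111101101010101110010011011111110000011010011100111101100000101101101000111101111101101010100100111001101000111100101, (nat_lit 0)⟩
noncomputable def f140 : Fc := ⟨(nat_lit 1), (nat_lit 3), (nat_lit 3), nat_lit 0, nat_lit 0x100000000000010111101101101111101101010101110010000111111101101110100010100111101111001000110111000111101100111100001110000111100101100111001101, (nat_lit 0)⟩
noncomputable def f141 : Fc := ⟨(nat_lit 2), (nat_lit 3), (nat_lit 1), nat_lit 0, nat_lit 0x100000000000010000101011011111000110110011000110001011010101110111000010110101000110010011111000011000011100110110000110101100100101111101111111, nat_lit 0x100000000000111011111110011100011011011100010010111000010011110011001001011100110011111110010011110110101010111101010011101101100110011100010001⟩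
noncomputable def f142 : Fc := ⟨(nat_lit 1), (nat_lit 3), (nat_lit 3), nat_lit 0, nat_lit 0x100000000000111110110100010000000000010010011111101111011010000000000001000001000000101001001111111101101000111100010011011011100011001010111001, (nat_lit 0)⟩
noncomputable def f143 : Fc := ⟨(nat_lit 1), (nat_lit 3), (nat_lit 3), nat_lit 0, nat_lit 0x100000000000001000000000110010011111110111000110101111011010000000100000001001001111110001110101100100111110101010111001011101101000000001000000, (nat_lit 0)⟩
noncomputable def f144 : Fc := ⟨(nat_lit 2), (nat_lit 3), (nat_lit 2), nat_lit 0, nat_lit 0x100000000000100100001000010110011111101110111001000000111110000100000001101011011010101101001111000110000000011001101000010011000110011010110100, nat_lit 0x100000000000001010011001000010111001110100001101010110101010001011111001001010111101100101100011101010111000011000100110001010111011111011001100⟩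
noncomputable def f145 : Fc := ⟨(nat_lit 2), (nat_lit 2), (nat_lit 3), nat_lit 0, nat_lit 0x100000000000001010011001000010111001110100001101010110101010001011111001001010111101100101100011101010111000011000100110001010111011111011001100, nat_lit 0x100000000000100100001000010110011111101110111001000000111110000100000001101011011010101101001111000110000000011001101000010011000110011010110100⟩
noncomputable def f146 : Fc := ⟨(nat_lit 2), (nat_lit 3), (nat_lit 3), nat_lit 0, nat_lit 0x100000000000110111000110001000000000010010011111111100010011001001001111100000100000101111011010000000001000000000000100000000000001000000000010, nat_lit 0x100000000000010000000000001000000000100100000000000010000000000001000000000000100000000000010000100000001000100000000100100000000010100000000001⟩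
noncomputable def f147 : Fc := ⟨(nat_lit 2), (nat_lit 3), (nat_lit 3), nat_lit 0, nat_lit 0x100000000000001101100110011000101101111100010111100010100111111011111110011100011011001100010011110110101010000111110000010011001001011101010011, nat_lit 0x100000000000001110110100011010110100111110110100110100001101010001101110011010001010100011011100111110100100011110110110000010100111110111111011⟩
noncomputable def f148 : Fc := ⟨(nat_lit 2), (nat_lit 3), (nat_lit 3), nat_lit 0, nat_lit 0x100000000000111101101001110001110100101111011011100000010001110111000111100000000001100100111111100100000001000111101100000000001001011011100010, nat_lit 0x100000000000010010110010001111001010000110010101011111011010010100111001001111011000000101100011101111011110111101000101001111011011111110101111⟩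
noncomputable def f149 : Fc := ⟨(nat_lit 2), (nat_lit 3), (nat_lit 3), nat_lit 0, nat_lit 0x100000000000000000100100100000101000010001010101100111001101011100110011000010100000110010111111001111111010111101001000010111100110110000100000, nat_lit 0x100000000000100000000101111011100111000000001100001000000100100000010100000111101001101001001011100000000100111101101100000100000100110010011011⟩
noncomputable def f150 : Fc := ⟨(nat_lit 2), (nat_lit 2), (nat_lit 4), nat_lit 0, nat_lit 0x100000000000010111001110001010110001010010010111000100001000000001001000010001111101000111100101000100110110000000011000000000001001000000001100, a0⟩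
noncomputable def f151 : Fc := ⟨(nat_lit 2), (nat_lit 4), (nat_lit 2), nat_lit 0, a0, nat_lit 0x100000000000010111001110001010110001010010010111000100001000000001001000010001111101000111100101000100110110000000011000000000001001000000001100⟩
noncomputable def f152 : Fc := ⟨(nat_lit 1), (nat_lit 4), (nat_lit 4), nat_lit 0, nat_lit 0x100000000000010110101010100011110110110001011010010111010001101011111001011010111001001101010100111101111111101010111101111011001100101010111000, (nat_lit 0)⟩
noncomputable def f153 : Fc := ⟨(nat_lit 2), (nat_lit 4), (nat_lit 3), nat_lit 0, nat_lit 0x100000000000101010111000001010011001101010111011100010111001101011111001001110111001110100001101001010111001111000100110101010101001101110000111, nat_lit 0x100000000000100100000000110111000110100001000000110000000000010001110101100000100000100000000001000111101101011100010011010010011111000000001000⟩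
noncomputable def f154 : Fc := ⟨(nat_lit 2), (nat_lit 3), (nat_lit 4), nat_lit 0, nat_lit 0x100000000000100100000000110111000110100001000000110000000000010001110101100000100000100000000001000111101101011100010011010010011111000000001000, nat_lit 0x100000000000101010111000001010011001101010111011100010111001101011111001001110111001110100001101001010111001111000100110101010101001101110000111⟩
noncomputable def f155 : Fc := ⟨(nat_lit 2), (nat_lit 4), (nat_lit 3), nat_lit 0, nat_lit 0x100000000000000101000000101101001111101011011010000100000010000100001000111010110100011111100011011001101000000110000000100100010000010110011111, nat_lit 0x100000000000011100110100001111000001111110110110111110100100110111111011111110111100011010001010111110110000100011011100011110110101100101010111⟩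
noncomputable def f156 : Fc := ⟨(nat_lit 1), (nat_lit 4), (nat_lit 4), nat_lit 0, nat_lit 0x100000000000110001000000001110110100010000010000011000000000001101101000110000100000000111000110101011100011010000000010010000000100111010111001, (nat_lit 0)⟩
noncomputable def f157 : Fc := ⟨(nat_lit 2), (nat_lit 4), (nat_lit 4), nat_lit 0, nat_lit 0x100000000000111010110100010011000110100100000000100101000000100110000000000100001000101101001111100100100000110101110101000100000001000100000010, nat_lit 0x100000000000010000000000001000000000100100000000000010000000000001000000000000100000000000010000100000001000100000000100100000000010100000000001⟩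
noncomputable def f158 : Fc := ⟨(nat_lit 2), (nat_lit 4), (nat_lit 4), nat_lit 0, nat_lit 0x100000000000000000001001011011101011110001111101000001001000110000001000010010010111011101100000100000001000000100001000000100110110011100011011, nat_lit 0x100000000000100000000101111011100111000000001100001000000100100000010100000111101001101001001011100000000100111101101100000100000100110010011011⟩
noncomputable def f159 : Fc := ⟨(nat_lit 2), (nat_lit 4), (nat_lit 4), nat_lit 0, nat_lit 0x100000000000001000000100001010111101100001000100100000001100000100000100000111101001000000100100100000010100000100111010111110110000111101101100, nat_lit 0x100000000000011000011100101101011010011111011010001000110111101111011011101111011110101111010010000101100011010011001001010100111001101111011000⟩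
noncomputable def f160 : Fc := ⟨(nat_lit 2), (nat_lit 3), (nat_lit 5), nat_lit 0, nat_lit 0x100000000000001111111010011000011100000101100011010011001001001111011010010010110010001111001010000111011010001101011010011101000101001111011000, a0⟩
noncomputable def f161 : Fc := ⟨(nat_lit 2), (nat_lit 5), (nat_lit 3), nat_lit 0, a0, nat_lit 0x100000000000001111111010011000011100000101100011010011001001001111011010010010110010001111001010000111011010001101011010011101000101001111011000⟩
noncomputable def f162 : Fc := ⟨(nat_lit 1), (nat_lit 5), (nat_lit 5), nat_lit 0, nat_lit 0x100000000000100100111010110101001011011000101101101100111110010100111110000101111110000000111110101011100100000100011110100100110110001110000111, (nat_lit 0)⟩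
noncomputable def f163 : Fc := ⟨(nat_lit 2), (nat_lit 5), (nat_lit 3), nat_lit 0, nat_lit 0x100000000000101000110111101110011010001011011010000101100011011110101111110011001001101111111010101111001010100110010101010001101110100111011010, nat_lit 0x100000000000110001110001101010010110110110011000010001010101001101100110011110101111110101001011110001110111000110110011010001110100110000110101⟩
noncomputable def f164 : Fc := ⟨(nat_lit 1), (nat_lit 5), (nat_lit 5), nat_lit 0, nat_lit 0x100000000000000111111101010001100101001010101001111011110011101001011111100001010000100100010000010000010000100010010000111101111000010111010110, (nat_lit 0)⟩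
noncomputable def f165 : Fc := ⟨(nat_lit 2), (nat_lit 5), (nat_lit 4), nat_lit 0, nat_lit 0x100000000000111000111010010001110111010001100101100001110101011110101111110110011000101111000001100011101010010001110101101010010110111011001100, nat_lit 0x100000000000010001011010011010100011010100111001110010101100001010010110100101010111111011000011101011100011011111011101011001100011000110001011⟩
noncomputable def f166 : Fc := ⟨(nat_lit 2), (nat_lit 4), (nat_lit 5), nat_lit 0, nat_lit 0x100000000000010001011010011010100011010100111001110010101100001010010110100101010111111011000011101011100011011111011101011001100011000110001011, nat_lit 0x100000000000111000111010010001110111010001100101100001110101011110101111110110011000101111000001100011101010010001110101101010010110111011001100⟩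
noncomputable def f167 : Fc := ⟨(nat_lit 2), (nat_lit 5), (nat_lit 5), nat_lit 0, nat_lit 0x100000000000100101011001001100101011010101110010111101000101001111110111110010010111111011010000010010111111010010011101010010011011100011101010, nat_lit 0x100000000000010000000000001000000000100100000000000010000000000001000000000000100000000000010000100000001000100000000100100000000010100000000001⟩
noncomputable def f168 : Fc := ⟨(nat_lit 2), (nat_lit 5), (nat_lit 5), nat_lit 0, nat_lit 0x100000000000110110100001010101110010111011010000000011101010101111110111110010010111110010011101111000100110001001111100011010011111000010011111, nat_lit 0x100000000000001101110001001110100010011011010000001001101111001001001110100001001111101001001011111001001111010100100111010111111011011110001001⟩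
noncomputable def f169 : Fc := ⟨(nat_lit 0), (nat_lit 0), (nat_lit 0), nat_lit 0, nat_lit 0x100000000000001100101011011001011001001001110010000010100111010111111011001111000001010001101110011110110000011110111100010100001101000101010111, nat_lit 0x100000000000001100101011011001011001001001110010000010100111010111111011101111000001010001101110111110110000111110111100110100001101100101010111⟩
noncomputable def f170 : Fc := ⟨(nat_lit 0), (nat_lit 0), (nat_lit 0), nat_lit 0, nat_lit 0x100000000000001111101101010111101101010101110010001000110111011010000101001101010100001110100010011100001110010110011000000111101100000111101111, nat_lit 0x100000000000001111101101010111101101010101110010001000110111011010000101001101010100001110100010011100001110010110011000000111101100000111101111⟩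
noncomputable def f171 : Fc := ⟨(nat_lit 0), (nat_lit 0), (nat_lit 0), nat_lit 0, nat_lit 0x100000000000011010011111001000000000011111000110001000010000000001001111001000100000001010000000001000001000001000000100001000000010001000000001, nat_lit 0x100000000000011010011111001000000000011111000110001000010000000001001111001000100000001010000000001000001000001000000100001000000010001000000001⟩
noncomputable def f172 : Fc := ⟨(nat_lit 0), (nat_lit 0), (nat_lit 0), nat_lit 0, nat_lit 0x100000000000010000000000001000000000000100000000000000010000001001001111000000000100000010000000010001110101000000100000001010111001011011100011, nat_lit 0x100000000000010000000000001000000000000100000000000000010000001001001111100000000100000010000000110001110101100000100000101010111001111011100011⟩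
noncomputable def f173 : Fc := ⟨(nat_lit 0), (nat_lit 0), (nat_lit 0), nat_lit 0, nat_lit 0x100000000000001011001111000010010000011111101000000010000000010000011111000010100000001010000000000010001000000010000100000010000010000010000001, nat_lit 0x100000000000001011001111000010010000011111101000000010000000010000011111000010100000001010000000000010001000000010000100000010000010000010000001⟩
noncomputable def f174 : Fc := ⟨(nat_lit 0), (nat_lit 0), (nat_lit 0), nat_lit 0, nat_lit 0x100000000000010000000000000010011111000111000110011001001111010000010000010000000010010001000000000001110101011010111001010000100000001011100011, nat_lit 0x100000000000010000000000000010011111000111000110011001001111010000010000110000000010010001000000100001110101111010111001110000100000101011100011⟩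
noncomputable def f175 : Fc := ⟨(nat_lit 0), (nat_lit 0), (nat_lit 0), nat_lit 0, nat_lit 0x100000000000001101101000010101101000011111101000011001101000011010000101011101101100011101111000011101101001011101001000000110001011011101100000, nat_lit 0x100000000000001101101000010101101000011111101000011001101000011010000101111101101100011101111000111101101001111101001000100110001011111101100000⟩
noncomputable def f176 : Fc := ⟨(nat_lit 0), (nat_lit 0), (nat_lit 0), nat_lit 0, nat_lit 0x100000000000001010111101000000100100000000000101000010000100000001000100001000000100000000010100011110110000000000000100010010011011000100000100, nat_lit 0x100000000000101010111101100000100100000000000101100010000100100001000100101000000100100000010100111110110000000000000100010010011011000100000100⟩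
noncomputable def f177 : Fc := ⟨(nat_lit 0), (nat_lit 0), (nat_lit 0), nat_lit 0, nat_lit 0x100000000000010000000000001000000000000100000000000010000000000001000000100000100000000000010000100000001000100000000100100000000010100000000001, nat_lit 0x100000000000010000000000001000000000000100000000000010000000000001000000100000100000000000010000100000001000100000000100100000000010100000000001⟩
noncomputable def f178 : Fc := ⟨(nat_lit 0), (nat_lit 0), (nat_lit 0), nat_lit 0, nat_lit 0x100000000000010000000000001000000000000100000000100010000000100001000000000000100000100000010000000000001000000000000100000000000010000000000001, nat_lit 0x100000000000010000000000001000000000000100000000100010000000100001000000000000100000100000010000000000001000000000000100000000000010000000000001⟩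
noncomputable def f179 : Fc := ⟨(nat_lit 0), (nat_lit 0), (nat_lit 0), nat_lit 0, nat_lit 0x100000000000010000000000001000000000000100000000000010000000000001000000000000100000100000010000000000001000100000000100100000000010100000000001, nat_lit 0x100000000000010000000000001000000000000100000000000010000000000001000000000000100000100000010000000000001000100000000100100000000010100000000001⟩
noncomputable def f180 : Fc := ⟨(nat_lit 0), (nat_lit 0), (nat_lit 0), nat_lit 0, nat_lit 0x100000000000010000000000001000000000000100000000000010000000100001000000100000100000000000010000100000001000100000000100000000000010000000000001, nat_lit 0x100000000000010000000000001000000000000100000000101111011010011101101000000000001000111100010011000000100000010001110101100000000001100000000010⟩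
noncomputable def f181 : Fc := ⟨(nat_lit 1), (nat_lit 1), (nat_lit 1), nat_lit 0, nat_lit 0x100000000000010000000000001000000000000100000000100000010000001001001111000000000100100010000000010001110101000000100000101010111001111011100011, (nat_lit 0)⟩
noncomputable def f182 : Fc := ⟨(nat_lit 1), (nat_lit 1), (nat_lit 1), nat_lit 0, nat_lit 0x100000000000000010000000000110000000011111101000010010000000010101000110000110111110100010000010000010010000101000111001100010001000111001100011, (nat_lit 0)⟩
noncomputable def f183 : Fc := ⟨(nat_lit 1), (nat_lit 2), (nat_lit 2), nat_lit 0, nat_lit 0x100000000000001111110111011101101000011111101000001010101110000011011100011101001000011101111000000110001011011101101100011101101001001100011101, (nat_lit 0)⟩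
noncomputable def f184 : Fc := ⟨(nat_lit 1), (nat_lit 2), (nat_lit 2), nat_lit 0, nat_lit 0x100000000000001101101000011111011010001110110100010111101101010100000000010000100000011001001111011010111001010000000100000001110101010000000010, (nat_lit 0)⟩
noncomputable def f185 : Fc := ⟨(nat_lit 1), (nat_lit 2), (nat_lit 2), nat_lit 0, nat_lit 0x100000000000010000101011111001011001110101110010101000110111011010000101000111001101011011111110000111100101000111101001000111101111000111101100, (nat_lit 0)⟩
noncomputable def f186 : Fc := ⟨(nat_lit 1), (nat_lit 2), (nat_lit 2), nat_lit 0, nat_lit 0x100000000000100100000000000010000000011100010011000111101101000001000000111011100011001111011010100000100000100000001000000000000010010001110101, (nat_lit 0)⟩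
noncomputable def f187 : Fc := ⟨(nat_lit 1), (nat_lit 3), (nat_lit 3), nat_lit 0, nat_lit 0x100000000000110101110010101111101101110111101101000111111101100110101101011100001110101000110111101101010100100111101111100111001101000111100101, (nat_lit 0)⟩
noncomputable def f188 : Fc := ⟨(nat_lit 1), (nat_lit 3), (nat_lit 3), nat_lit 0, nat_lit 0x100000000000100111101101111110110100101000000000000010000000001010111001000000000001100000100000100000000010100100111110010001110101100000000100, (nat_lit 0)⟩
noncomputable def f189 : Fc := ⟨(nat_lit 1), (nat_lit 4), (nat_lit 4), nat_lit 0, nat_lit 0x100000000000011100101000100001000000110110000110111111110100001000001111100001100000000101111110100001000001100001000100100001000010100001001000, (nat_lit 0)⟩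
noncomputable def f190 : Fc := ⟨(nat_lit 1), (nat_lit 4), (nat_lit 4), nat_lit 0, nat_lit 0x100000000000101100101011011010110100010110110100111100110100111111110100100010100111011110111100011110100100111110110000111110110110111110110101, (nat_lit 0)⟩
noncomputable def f191 : Fc := ⟨(nat_lit 1), (nat_lit 4), (nat_lit 4), nat_lit 0, nat_lit 0x100000000000001111110111101110001100110110011111110000011111011010011111010011011111000101011001101100101011000011101010110010011101010010011111, (nat_lit 0)⟩
noncomputable def f192 : Fc := ⟨(nat_lit 1), (nat_lit 5), (nat_lit 5), nat_lit 0, nat_lit 0x100000000000110010111111001001111100110101110010000011101010110010011011000010011111001110001100101100101011010011011111011101000101101111110111, (nat_lit 0)⟩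
noncomputable def f193 : Fc := ⟨(nat_lit 1), (nat_lit 5), (nat_lit 5), nat_lit 0, nat_lit 0x100000000000000010000001111110110101010010011110110001110100000111101100101001001110001010111000100000001001100001000001110000000001101000000001, (nat_lit 0)⟩
noncomputable def m0_1_1 : ℕ := (nat_lit 0x1)
noncomputable def m0_1_2 : ℕ := (nat_lit 0x3fffffffffffffffffffffffffffffffffffffffffffffffffffffffffffffffffffffffffffffffffffffffffffffffffffffffffffffffffffffffffffffffffffffffffffffffffffffffffffffffffffffffffffffffffffffffffffffffffffffffffffffffffffffffffffffffffffffffffffffffffffffffffffffffffffffffffffffffffffffffffffffffffffffffffffffffffffffffffffffffffffffffffffffffffffffffffffffffffffffffffffffffffffffffffffffffffffffffffffffffffffffffffffffffffffffffffffffffffffffffffffffffffffffffffffffffffffffffffffffffffffffffffffffffffffffffffffffffffffffffffffffffffffffffffffffffffffffffffffffffffffffffffffffffffffffffffffffffffffffffffffffffffffffffffffffffffffffffffffffffffffffffffffffffffffffffffffffffffffffffffffffffffffffffffffffffffffffffffffffffffffffffffffffffffffffffffffffffffffffffffffffffffffffffffffffffffffffffffffffffffffffffffffffffffffffffffffffffffffffffffffffffffffffffffffffffffffffffffffffffffffff)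
noncomputable def m1_0_1 : ℕ := (nat_lit 0x1)
noncomputable def m1_1_1 : ℕ := (nat_lit 0x1000000000000000000000000000000000000000000000000000000000000000000000000000000000000000000000000000000000000000000000000000000000000000000000000000000000000000000000000000000000000000000000000000000000000000000000000000000000000000000000000000000000000000000000000000000000000000000000000000000000000000000000000000000000000000000000000000000000000000000000000000000000000000000000000000000000000000000000000000000000000000000000000000000000000000002)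
noncomputable def m1_1_2 : ℕ := (nat_lit 0x30c0000000c00300000030000333000000c03c000300000c0000000000cc00000000030000030f03000000000000000000c00000000000c3c000000000000c0c0000c000000000000000000000000000000000000000300000000000000cc00000000000000000000000000000f00c0030000000000000000000000000000000003c00c0000030300000000000000000000000000000000000000000000c030000033000000033000000000000000000cc000000000000000c00000000000000000000000000000000003000000000003c00fc0c000000000c0000000000000000000000000000000c00000000000000000000000000000000000000000030000000000000000000f030000000000000c000000c00003fc00000000000000000000000000000000c000000c00003f000000000000000000c0000000000000000000000000000000000000003000000300000fc00000000000000000000000000000003000000300000fc0000000000000000000000000000000000000000000000000000000000000000000000000000000000000000000000000000000000000000c00003f00000000000000000000000fc002)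
noncomputable def m1_2_1 : ℕ := (nat_lit 0x4)
noncomputable def m1_2_2 : ℕ := (nat_lit 0x300000330c30003cc0000f030030300cc00c00000c000033c030f000300303000c300000000303cc000c0c00003003000030c0000000000c030300000c00000300000c00f00003c0000c000000300003030000c03f0c0303000000c0000033000cc0c000000000000c0c00000c0cc0000003c000000000000000303cc00000c00033fff00000000000000000000f030c00c30300030000030330000000000000300c0003000000000003003000000c30c0000000330c000303030c00300000c00c00030c00000cc0c0000c300c00000000c030000003c000030000030030c0003300000003000000c3003300300000033c0003c00003003000000000c0c000300000f0000000000300000030000000cc00030000ffff00000000000000000000000000c3000003030cc00c300c000000000000000000030003030003000000000000030f0cc303030000003030c00c00c000000000000000000000003300c3030000300030000c00000000000000000000c0f00000f00000003c0000c3033000300000000c000c0300f30c000000c03c0000cc000000000c000c00330300c000c03000c0000c000c000000030000000030c0000c0030000303c)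
noncomputable def m1_3_1 : ℕ := (nat_lit 0x40)
noncomputable def m1_3_2 : ℕ := (nat_lit 0x3ffcfffffccf3cfcf033ffff03cfccfcff30ff3fcccf3ffff0c03cf0cffcff0fcfff3cfff33fffcfc33fcf3f3fcf0ccfcffffcf3fffffffff33fcfcfffff33c3ffcfffff3ff03f3fc3f3ff3ffffffcffffcfcffff3fc0f3fcfcffffff3fcfffccfff33f3ff33ffffffff3f3fffff3f33ffffffc3f0ff3ffcfffffffcfc33fffff3fffcc000fffffffc3ff3fffffcfc0fcf3ff3cfcfffcfffffcfccfffffffffffffcff3fff0fcfffffccffcffcfccfff3cf3fffffffccf333fcfcfcf3ffcffff33ff3fffcf3fffff33f3ffff3cff3ffffffcf3fcffffffc03ff00f3fffcffcf33ffccfffffffcffffff3cffccffcffff3fcc3fffc3ffffcffcfffffffff3f3fffcfffff0fffcffffffcffffffcfffff0f03fffcffff00003ffffff3ffffc03fffffffffff3cfffffcfcf33ff3cff3f3ffffff3ffffc0ffffcfffcfcfffcfff3fffffffffcf0f33cfcfcffffffcfcf3ff3ff3ffcffffffcfffff03ffffffccff3cfcffffcfffcffff3fffcffffffcfffff03ff3f0fffff0fffffffc3ffff3cfccfffcffffffff3fff3fcff0cf3ffffff3fc3ffff33fffffffff3fff3ffccfcff3fff3fcfff3ffff3fff33ffffc0cffffffffcf3ffff3ffcfff00fc0)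
noncomputable def m2_1_1 : ℕ := (nat_lit 0x1)
noncomputable def m2_1_2 : ℕ := (nat_lit 0x1100000000000000000000000000000000010500000000200000000000000000000000020000000000000000000080000000000000000100000020000000000000000000000000000000000000000000000004000000000000000800000000000000000000000000000000000000000000000001000000000000000000000000000000000000000000000000000000000000000000000000000000000000000000000000000000000000000000000000000000000000000000000001680059000000000000000000000000000000000000000000000200000000000000100000000000000000000000000000000000000000000000200000000000004000000000000000000000000000000000000800000000000000000000000000000000000000000000000000000200000000000000100000000000000000000000000000000000000000000000000000000001000000000000000000000000000000000000000000000000000000000000000000000000000000000000000000000000000000000000000000000000000000000000000000000000000000000000a6005)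
noncomputable def m2_2_1 : ℕ := (nat_lit 0x2)
noncomputable def m2_2_2 : ℕ := (nat_lit 0x2200000000000000000000000000000000020a000000001000000000000000000000000100000000000000000000400000000000000002000000100000000000000000000000000000000000000000000000080000000000000004000000000000000000000000000000000000000000000000020000000000000000000000000000000000000000000000000000000000000000000000000000000000000000000000000000000000000000000000000000000000000000000000029400a60000000000000000000000000000000000000000000001000000000000002000000000000000000000000000000000000000000000001000000000000080000000000000000000000000000000000004000000000000000000000000000000000000000000000000000001000000000000002000000000000000000000000000000000000000000000000000000000020000000000000000000000000000000000000000000000000000000000000000000000000000000000000000000000000000000000000000000000000000000000000000000000000000000000005900a)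
noncomputable def m2_3_1 : ℕ := (nat_lit 0x200000000000000000000000000000000000000000000000000000000000000000000000000000000000000000000000000000000000000000000000000000000000000000000000000000000000000000000000000000000000000000000000000)
noncomputable def m2_3_2 : ℕ := (nat_lit 0xcf30c3f03cc0330f00cfcc3fc03000cfcf33fc33fff300fc03fc0000f3cfc300cf3cc00cff0f300ff03cf0f00000ff303f3c30333cc003cc0f3f0033fffc0c3f3033fcc000fcc3c0c030c3ff0c000ff0ffcc33000003000ff0ffcffc3fc3f003033f00f0cfc03ccff3ff0c3f3f3300c3cf30003fc03303cc0c0cc030fcc3f0300f0ffcc0300fc0ffff0cc03003cf000f0fcfc0ffc3ff03f00cfc33f00cff33f33f33ff3fc03fc00033f00cff333f33ff0f000033fccfccfccffcff00ff0000f0cff3cfc3fc0033f3fc00cffcff00ff0003f0ff003c000000000fc0fc0fcc03c0f00c00fc03ffff03f300fc03003ffcc00c0f00c00fc03ffccc033003003fc03fffc03003f3003f00fff3fc03fff03f00fcc03f300f3000c00c00ff00ffffcc03cc030c00fff300cc00000ff00fffcc00c00ff00fff3003fcff00fffff000fcc03cc033000003fc03fffcc030003003fc03fff3003003fc03ffcc00ff00fff3fc03ffffc003ffc03cc003003003fc03fff3003003fc03ffcc00ff00fff3fc03ffffc003ffc033003003fc03ffcc00ff00fff3fc03ffffc003ffc00c00ff00fff3fc03ffffc003ffc00ff00fffff000fff00ff000fff0000000000)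
noncomputable def m2_4_1 : ℕ := (nat_lit 0x10)
noncomputable def m2_4_2 : ℕ := (nat_lit 0x3f30cf3c0fc33fccf0ff3033c03fcfff3030cc03cc000cff03fc03fccf0c303cff30c33ff300f0cff00fc30f0fcf0f00cfc0c0cfccc33ffc33f0c0ffcc0003c3c0cfcc033fff033c3f33cf3c00f3fff00f0003ccfffcfcfff00f003003c03c0ffcfcc0ff0f303fc3300c00f3c0c00cff3c30cfffc03f0cfc33f3f33fcf033c0fcff0f0033fcff03f0000f33fcffc30cff0f0303f003c00fc0ff303cc0ff300cc0cc0cc00c03fc03fffcc0ff300ccc0cc00f0ffffcc03303303300300ff00ffff0f300c303c03ffcc0c03ff300300ff00fffc0f00ffc3ffc03ff0003f03f033fc3f0ff3ff03fc0000fc0cff03fcffc0033fc3f0ff3ff03fc00033fccffcffc03fc0003fcffc0cffc0ff000c03fc000fc0fc033fc0cff0cff33ff3ff00ff000033fc33fcf3ff000cff33ff3ff00ff00033ff3ff00ff000cffc0300ff00000fff033fc33fccffcffc03fc00033fccffcffc03fc000cffcffc03fc0033ff00ff000c03fc00003ffc003fc33fccffcffc03fc000cffcffc03fc0033ff00ff000c03fc00003ffc003fccffcffc03fc0033ff00ff000c03fc00003ffc003ff3ff00ff000c03fc00003ffc003ff00ff00000fff000ff00fff000fffff00ff0)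
noncomputable def m3_1_1 : ℕ := (nat_lit 0x1)
noncomputable def m3_1_2 : ℕ := (nat_lit 0x2000000000000000000000000000000000000000000000000000000000000000000000000000000000000000000000000000000000000000000000000000000000000000000000000000000000000000000000000000200000000000000000000000000000000000000000000010080000000000000000000000000000000000000000000000000000000000000000000000000000000000000000000000000000000000000000000000000000000000000000000000000000000000000000000000000000000000000000000000000000000000000000000000000000000000000000000000000000000000000000000000000000000000000000000000000000000000000000000000000000000000000000000000000000000000000000000000000000000000000000000000000000000000000000040000000000000000000000000000000000000000000000000000000000000000000000000000000000000000000000000000000000000000000000000000000000000000000000000000000000000000000000000000000000000000000000000000000000000000000000000000000000000000000000000004001)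
noncomputable def m3_2_1 : ℕ := (nat_lit 0x2000000000000000000000000000000000000000000000000000000000000000000000000000000000000000000000000000000000000000000000000000000000000000000000000000000000000000000000000000000000000000000000000000000000000000000000000000000000000000000000000000000000000000000000000000000000000000000000000000000000000000000000000000000000000000000000000000000000000000000000000000000000000000000000000000000000000000000000000000000000000000000000000000000000000000000000000000000000000000000000000000000000000000000000000000000000000000000000000000000000000000000000000000000000000000000000000000000000000000000000000000000000000000000000000000000000000000000000000000000000000000000000000000000000000000000000000000000000000000000000000000000000000000000000000000000000000000000000000000000000000000000000000000000000000000000000000000000000000000000)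
noncomputable def m3_2_2 : ℕ := (nat_lit 0x200000000000080004000000000000000000000000000002400000000080000000000000000000001000000040000001001000004000040000000000000000000000000000800008000000000000000000000000000000000040102000000000000000000000000000000000000000000000000000000000000020000000000800400000000000800000000100000400400000000000000000000000000000000000010010000000000000000000000000000000000000000000000000000000000000000000000000000000000000000004000000020001000000000000000000000000000000000000000000000000000000000000000000000000000000000000000100020004008000000000000000000000000000000080000020000000000000400000000000040000020000000400000200000000000000000000000000000000010000008000000000010000004000000100000040000000000000000000000000000000000000020000008000000200000080000000000000000000000000000000000200000040000000000000000000000000000000000000000000000000000000000000040000040000020001000000000000)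
noncomputable def m3_3_1 : ℕ := (nat_lit 0x400000000000000000000000000000000000000000000000000000000000000000000000000000000000000000000000000000000000000000000000000000000000000000000000000000000000000080000000000000000000000000000000000000000000000000000000000000000000000000000000000000000000000000000000000000000000000000000000000000000000000000000000000000000000000000000000000000000000000000000000002000000000000000000000000000000000000000000000000000000000000000000000000000000000000000000000000000000000000000000000000000000000000000000000000000000000000000000000000000000000000000000000000000000000000000000000000000000000000000000000000000000000000000000000000000000000000000000000000000000000000000000000000000000000000000000000000000000000000000000000000000000000000000000000000000000000000000000000000000000000000000000000000000000000000000002)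
noncomputable def m3_3_2 : ℕ := (nat_lit 0xcc010300cc33c01070c08000cff3000000f000033f000000fc1800ff000007003000000fcc0c000000020c0c333bc300002032c30f3b0000bc0c00000000cfc00000000000fc340fcc4000003c00000000030000003c000000000bf2fddffff3000cf0f00cfc30c0000000000c0cccf003300f00e004003000000cf13cc0000cf07c3b000000fc0ff400c0f03fe03fc38cc80000000000000c0030000000000000000c002f020000c3f00300f033f000000000300c330fcc000000000000000cc30f000000000c0c00000000000000000030c0b0000003dc03ef0f03033333fc000000000000000303cf00000000000cff3c000000000000300c000000000000000000000020031003833400300cccf3fc000300000000c0fc0ff40c003dc00000000c03fb00000333ccc08f303c1cc00c00bf00ffd000000000000000000800000000030fcfe3f3cf04000030fcf02c03f00bcc0cc0200fc0f800000000000000000000000000000003cc0cc0100fc0f430fcf01c03f0040000000000000000000000000000030fcfd3f3cf0800000000000000000000000000000000000000000000000000000000c00003bf0fc38030fcdfc32c30ffc3fb0fe)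
noncomputable def m3_4_1 : ℕ := (nat_lit 0x200000000000000000000000000000000000000000000000000000000000000000000000000000000000000000000000000000000000000000000000000000000000000000000000000000000000000000000000000000000000000000000000000000000000000000000000000000000000000000000000000000000000000000000000000000000000000000000000000000000000000000000000000000000000000000000000000000000000000000000000000000000000000000000000000000000000000000000000000000000000000000000000000000000000000000000000000000000000000000000000000000000000000000000000000000000000000000000000000000000000000000000000000000000000000000000000000000000000000000000000000000000000000000000000000000000000000000000000000000000000000000000000000000000000000000000000000000000000000000000000000000000000000000000000000000000000000000000000000000000000000000000000000000000000000000000000000000000000000000000000000000000000000000000000)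
noncomputable def m3_4_2 : ℕ := (nat_lit 0x333c3cc333cc3fcf0f003fcf300c3c3ffc033c30000fffff03c3ff00ff3c000303fffff00003fffffff00000000030ffffc3000030000fff00f3f33fffff003cffffcffff00300300003ffff000ffffffff003ffffc3fffffffff00000000000ff000c00c000003fffffffffc3f0000c300000ff0ff3ffcfffff0000003ffff0000000fffff0000003ff0000000000000003fffffffffffff3ffcfff0ffffffffff00000000000003000f00000000fffffffffc0000000003fffffffffffffc00000fffffffff000ffffffffffffffffff000000000000000000c00c00c000000fffffffffffff00300003fffffffc000000ffffffffffffc0003fffffffffffffffffffff000000000000000000000003fffcffffffff000000000000003fffffffc000000ffff0000000000000000000000000000ffffffffffffffffff3fffffffc00000000000003fffc0000000000000000000000000003fffffffffffffffffffffffffffffffc0000000000000000000000000003fffffffffffffffffffffffffffc00000000000003fffffffffffffffffffffffffffffffffffffffffffffffffffffffc00000000000000000000000000000000000)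
noncomputable def m3_5_1 : ℕ := (nat_lit 0x100)
noncomputable def m3_5_2 : ℕ := (nat_lit 0x300c0c03c00000000003f00300000c3c0030cc3ccc0f000000000000000c3f0fccc00000033f00000000cf3f3ccc00c00000ccc3cc0c0f00003000cc000003003000030000f00c3c0333c0000c3f00000000cfc00000000000000000c0000000c00f3030f3303cf000000000030033303cccff000000000000000f30cc30000030f03c000000f03f000003f0fc00fc03c333000000000000000000000f0000000000ff3ffc0fcffff0c0f0cff0fcc00000000000ff3ccf033c0000000000000333cf00000000003f3000000000000000000cf3f0ffffffc03fc0030f0fc0ccc03f0000000000000fccc30fc00000003f300c30000000000000ff3c000000000000000000000cffccffc3cc3ffcff3330c000000000000003f03f003f3ffc00000000033fc00f0000ccc333f30cfc3c33ff3ff00ff000000000000000000000000000003fcf0300c0c30f00003cf030fc3fc0ff033f33fcff03f000000000000000000000000000000000033f33fcff03f03cf030fc3fc0ff00000000000000000000000000003fcf0300c0c30f0000000000000000000000000000000000000000000000000000000033ffffc00f03c3fcf03003cc3cf003c00f00)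
noncomputable def m4_2_1 : ℕ := (nat_lit 0x1)
noncomputable def m4_2_2 : ℕ := (nat_lit 0x100000400004000010000000000000000000000000100000000000000000000000000000000000000000000000000000000000000000000000000000000000000000000000000000000000000000002500000000000000000002000000000000000000000000000000000000000000000000000000000000000000000000100000000000000000000000000000000000000000000000000000000000000000000000000002000000000000000000002100000200000000000000000000000000000080000000000000000000000000000040000000000000100000000000000000000000000000000000000000000000000000000000000000000000000000000000000000000000000000000000000001000000000000000000000000000000000000000000000000000000000000000000000000000000000000000000000000000000000010000000000000000000000000000000000000000000000000000000000000000000000000000000000000000000000000000000000000000000000800000000000000000000000000000000000000000000000000000000000000000000000000000000000000000000000000001)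
noncomputable def m4_3_1 : ℕ := (nat_lit 0x10000000000000000000000000000000000000000000000000000000000000000000000000000000000000000000000000000000000000000000000000000000000000000000000000000000000000000000000000000000000000000000000000000000000000000000000000000000000000000000000000000000000000000000000000000000000000000000000000000000000000000000000000000000000000000000000000000000000000000000000000000000000000000000000000000000000000000000000000000000000000000000000000000000000000000000000000000000000000000000000000000000000000000000000000000000000000000000000000000000000000000000000000000000000000000000000000000000000000000000000000000000000000000000000000000000000000000000000000000000000000000000000000000000000000000000000000000000000000000000000000000000000000000000000000000000000000000000000000000000000000000000000000000000000000000000000000000000000000)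
noncomputable def m4_3_2 : ℕ := (nat_lit 0x90060080a002461084181640500a0294002a2051210210494016000104088800042600248406800200060201418592180009210800081402a900290020818241840001000014941220800220010202010849012010005124188182060110002004162444058100a48900a00511842410060018206008581680100081000808805020000044800000192461000060252240000410825820284250921140182201004820962801000402100001819601208010404200401084002484400180204484822018104040110a02240218a0041010200240104101282059080040000924090140800018422020402010024104480220018608250024108050012014080248240182201800940090904002400090612800240000246102900808002952802120000604142006004804020292094006004040016580104410109018020890016001001a014080a480020001808210490241800240602000a610082180606080818104040242090101040240602000a60020821049024060024410909040424208080181040010240620818010082180600600818104040242084020101610090042420808018106400001682020060410202092041010a6824)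
noncomputable def m4_4_1 : ℕ := (nat_lit 0x200000000000000000000000000000000000000000000000000000000000000000000000000000000000000000000000000000000000000000000000000000000000000000000000000000000000000000000000000000000000000000000000000000000000000000000000000000000000000000000000000000000000000000000000000000000000000000000000000000000000000000000000000000000000000000000000000000000000000000000000000000000000000000000000000000000000000000000000000000000000000000000000000000000000000000000000000000000000000000000000000000000000000000000000000000000000000000000000000000000000000000000000000000000000000000000000000000000000000000000000000000000000000000000000000000000000000000000000000000000000000000000000000000000200000000000000000000000000000000000000000000000000000000000000000000000000000000000000000000000000000000000000000000000000000000000000000000000000000000000000002)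
noncomputable def m4_4_2 : ℕ := (nat_lit 0x2695999555599a9a66aa6a9aaa965a969a69559a69a65a5a69669966a5a9556aa5a596a9a59a95a99696959a6966a69a569965a969a95a959566a5656995a59a65a969695a9696969596a59965a95659a95a69659a55aaa9a656a599956a9659969695a9a5a56595a56995a6a666a59a5695a65569965a5696a69695669569655a6596a96aa5569a9669a96a59a965a59a69569a965a65695a5a6696695a6596669969969966a6a5a696695a65a6996995aa5a5a9669a6659a59a59a6565696995a659a6666a5a96665695a65a659a9a9699999a96a96969696a6666999a9669996669959a6a5a59995a65a6659a66a9669996669959a6a5a6966a59a59a99595a5999a6599a65669a96966a6a5a59a699a96695a65a59a966966a6565696a96696995a9959aa59a966966a656569669969959a9a969a656699a9a9696569656996966a59a59a99595a596995a65a6566a6a5a659a59a99595a5966a656569699595a5a6a5a65a566966a59a59a99595a59a65a6566a6a5a69959a9a96966a6a5a595a59a5a9a59a59a99595a5966a656569699595a5a6a5a65a5669959a9a96966a6a5a595a59a5a999a9a96965696696a665696696a69695959a)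
noncomputable def m4_5_1 : ℕ := (nat_lit 0x4000000000000000000000000000000000000000000000000000000000000000000000000000000000000000000000000000000000000000000000000000000000000000000000000000000000000000000000000000000000000000000000000000000000000000000000000000000000000000000000000000000000000000000000000000000000000000000000000000000000000000000000000000000000000000000000000000000000000000000000000000000000000000000000000000000000000000000000000000000000000000000000000000000000000000000000000000000000000000000000000000000000000000000000000000000000000000000000000000000000000000000000000000000000000000000000000000000000000000000000000000000000000000000000000000000000000000000000000000000000000000000000000000000000000000000000000000000000000000000000000000000)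
noncomputable def m4_5_2 : ℕ := (nat_lit 0x106a0662a0a64004911014011069044025940860844984a1029806984a1622155a1809541225025649690a4582810044296608461656242a4009580a9462424182169686a568202848615a449a4689864621068864a80044182142460a8469a4492808121a028a601206605908811824a90a58289069202801586962896a1612a09869569012a96568041085a65098084196a924618018942180904882a41849896214600419495a19489685824006846254a1a149904892258412219a829492221184581891a168810948198410652468646641685286801490091962656804260982626594218464a198589a4189121944698106240958186190a6486426268124264184641a90256060919581a6506044196819a5a4008940951a1a94004194846a560a24186509921919898049026906a252568001a892246460682949206680994a6406426260126946a482518891058182658250686a50089518829090626242491a19818906894a258250686a5005985188910581906a4124606091918186252642461a6424160862426895188290960a6242491a1981891268646408690591818625264246025656801894990918989490491868600240)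
noncomputable def m5_3_1 : ℕ := (nat_lit 0x1)
noncomputable def m5_3_2 : ℕ := (nat_lit 0x88088a0080000a80002a0a98000200000001019a41820121220802082020080420006080600010590800081448042089104a000900410802002004000100841020864041200010200080402122200402a400006082021008500800008000211800008201204800108000008a0000002218109081801800000040002201802000400022000002208460024200040200100008108020008000400006009000100084000428010500000025085002026280200210008000940a88080a8040084400420820008804802540088104058000848400002201048020211004212421420018400201048000860020400840440800080020818208110001021082004080840000420800082420804020a000004042400422105220521000244000888800002040200201120a22810289080844808002440400484004002000084450202120001800022404200800044288800092000112100080524000112040000a01010200121008040400402010011a0010108841080400200804802010804008202040042002020100100091020021100200002010400012128040440042000510220200012220088080844051500100888880004500100121080004011)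
noncomputable def m5_4_1 : ℕ := (nat_lit 0x1000000000000000000000000000000000000000000000000000000000000000000000000000000000000000000000000000000000000000000000000000000000000000000000000000000000000000000000000000000000000000000000000000000000000000000000000000000000000000000000000000000000000000000000000000000000000000000000000000000000000000000000000000000000000000000000000000000000000000000000000000000000000000000000000000000000000000000000000000000000000000000000000000000000000000000000000000000000000000000000000000000000000000000000000000000000000000000000000000000000000000000000000000000000000000000000000000000000000000000000000000000000000000000000000000000000000000000000000000000000000000000000000000000000000000000000000000000000000000000000000000000000000000000000000000000000000000000000000000000000000000000000000000000000000000000000000000000000000000000)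
noncomputable def m5_4_2 : ℕ := (nat_lit 0x3330003ffff03fffc0f003ff3cf0ffcffcfc003c3cfcc0c0f30cc0cc0fc3f3cf330f330f3fcf00c3ccf3c003f30f30cc30cf30cf3cc3ccffcf33cc3cf33000cf30033ccffcc0cf3c0c300cccccf30c033f330f3cf00cf30c033fc30f3fcc003fc330cc0f33330f303cf330330cf0ccc3cf0c3c30c0f33c330c3ccc3c3c0ccf0333c03ccf0ccf330ccc3cc0f3cccf0333c0cf330cf3330c300fc03f0cf0c03f03f3c303fc3033333fc0f30f3cfc0c3cc33ccfcc3cff03f030f3f00f3f3333cf30f3c0fc03333fc03cf330f3f00f3f33333f00ccccf330cccccff3c0c3cc3cf3c30c3cf0c3333030f30f3cc30f33c33c30c3cf3c30f3cccccc3ccf0c0f3c3033330c30f33cf0c3cf3333c30333330c3c3cc3cccf0ccf0cc3cfc30f3f3333cc3ccc3ccc3cf0ccf0cc3cfc30f3f3333c3cfc30f3f33330f3c30f3f33330cccccc3ccc3ccf0c0f3c30333333c330f3f0c3cfccccf0f3f0c3cfccccc3cf0c0cccc3cfccccc333333333cc3ccf0c0f3c3033330f0c0f3c3033333c30f3f3333c3033333ccccccccc30f3f0c3cfccccc3cf0c0cccc3cfccccc333333333c3cf0c0cccc3cfccccc333333333f0c0ccccf3333333300ccccccccf3333030c)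
noncomputable def m5_5_1 : ℕ := (nat_lit 0x10000000000000000000000000002)
noncomputable def m5_5_2 : ℕ := (nat_lit 0x377c445ff400005400015056400c10f00300202658241021e1d04f13713d0340810cc904c90c020a63433042bb408d046238530c6308234310010c833c20c4bef1049bc8210032f10c3738fd2111308f158c0cc90410de304a3f4c03c70c012e7c03c4d32d084cce04fc30c45ccf30f11242063424f270cc3ccb3c311c243d330bccc1dc330f110489331813f083130eccc37204cd30c4cf38ff039c0630f2fc0780c38d402caccccc01a04a0c10191431cc12033430068054704057080c488308d041f0374c8401a83044e080a70c04848c0ff1132084f131220081e1812810c24b3c10e384ccf490cd08334b08834c3c73c10424d04223332c12071f0834f48ccf38d04c30718104c8c1c5cccccb38183381120a110a12c3018b0c0444433c3138313c10e2105114201460404884343018b080c848f083cd0c0c488a313121c3324330d1b081cf4ccc8814470c061c3022120f040a183032213830f353232c1032123c4c8c8cc831c230e250c2cec448e073b0c1cf4c84c1ce0408cc41cdc8cc8133131323ce0c062c1031223c10f3f1323830321214c8c88cc81c30a2f1131c3021113c44c4c4880a2a3323044444cccba3323321204cccbce2)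
open DC
open H26 (jn)
def q : FP 12 12 2 := FP.std 12 12 2 4 1 1
theorem qok : q.OK := FP.std_ok (by decide +kernel)
noncomputable def c0 : ℕ := (nat_lit 0x100000000000001100101011011001011001001001110010000010100111010111111011001111000001010001101110011110110000011110111100010100001101000101010111)
noncomputable def c1 : ℕ := (nat_lit 0x100000000000001111101101010111101101010101110010001000110111011010000101001101010100001110100010011100001110010110011000000111101100000111101111)
noncomputable def c2 : ℕ := (nat_lit 0x100000000000011010011111001000000000011111000110001000010000000001001111001000100000001010000000001000001000001000000100001000000010001000000001)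
noncomputable def c3 : ℕ := (nat_lit 0x100000000000010000000000001000000000000100000000000000010000001001001111000000000100000010000000010001110101000000100000001010111001011011100011)
noncomputable def c4 : ℕ := (nat_lit 0x100000000000001011001111000010010000011111101000000010000000010000011111000010100000001010000000000010001000000010000100000010000010000010000001)
noncomputable def c5 : ℕ := (nat_lit 0x100000000000010000000000000010011111000111000110011001001111010000010000010000000010010001000000000001110101011010111001010000100000001011100011)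
noncomputable def c6 : ℕ := (nat_lit 0x100000000000010000101011010101110010011001011001001000110111000111111101000111101111000110101101000111101100010110011000000111001101000111100101)
noncomputable def c7 : ℕ := (nat_lit 0x100000000000001101101000010101101000011111101000011001101000011010000101011101101100011101111000011101101001011101001000000110001011011101100000)
noncomputable def c8 : ℕ := (nat_lit 0x100000000000001010111101000000100100000000000101000010000100000001000100001000000100000000010100011110110000000000000100010010011011000100000100)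
noncomputable def c9 : ℕ := (nat_lit 0x100000000000010000000000001000000000000100000000000010000000000001000000100000100000000000010000100000001000100000000100100000000010100000000001)
noncomputable def c10 : ℕ := (nat_lit 0x100000000000010000000000001000000000000100000000100010000000100001000000000000100000100000010000000000001000000000000100000000000010000000000001)
noncomputable def c11 : ℕ := (nat_lit 0x100000000000010000000000001000000000000100000000000010000000000001000000000000100000100000010000000000001000100000000100100000000010100000000001)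
theorem iv0 : q.invChk c0 c0 = true := by decide +kernel
theorem iv1 : q.invChk c1 c1 = true := by decide +kernel
theorem iv2 : q.invChk c2 c2 = true := by decide +kernel
theorem iv3 : q.invChk c3 c3 = true := by decide +kernel
theorem iv4 : q.invChk c4 c4 = true := by decide +kernel
theorem iv5 : q.invChk c5 c5 = true := by decide +kernel
theorem iv6 : q.invChk c6 c6 = true := by decide +kernel
theorem iv7 : q.invChk c7 c7 = true := by decide +kernel
theorem iv8 : q.invChk c8 c8 = true := by decide +kernel
theorem iv9 : q.invChk c9 c9 = true := by decide +kernel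
theorem iv10 : q.invChk c10 c10 = true := by decide +kernel
theorem iv11 : q.invChk c11 c11 = true := by decide +kernel
noncomputable def C : List ℕ := [c0, c1, c2, c3, c4, c5, c6, c7, c8, c9, c10, c11]
/-- the letters as matrices -/
noncomputable def g : ℕ → GL (Fin 12) (ZMod 2) := fun k =>
  [qok.gl iv0, qok.gl iv1, qok.gl iv2, qok.gl iv3, qok.gl iv4, qok.gl iv5, qok.gl iv6, qok.gl iv7, qok.gl iv8, qok.gl iv9, qok.gl iv10, qok.gl iv11].getD k 1
theorem rp : q.RpL g C 12 := FP.rpL_list (.cons (qok.rp_gl iv0) (.cons (qok.rp_gl iv1) (.cons (qok.rp_gl iv2) (.cons (qok.rp_gl iv3) (.cons (qok.rp_gl iv4) (.cons (qok.rp_gl iv5) (.cons (qok.rp_gl iv6) (.cons (qok.rp_gl iv7) (.cons (qok.rp_gl iv8) (.cons (qok.rp_gl iv9) (.cons (qok.rp_gl iv10) (.cons (qok.rp_gl iv11) .nil))))))))))))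
noncomputable def V (i : ℕ) : ℕ := sumL (fun r => Nat.shiftLeft (Nat.land (Nat.shiftRight (Nat.add i 2048) r) 1) (Nat.mul 48 r)) [0, 1, 2, 3, 4, 5, 6, 7, 8, 9, 10, 11]
noncomputable def F : FT := (.node (.node (.node (.node (.node (.node (.node (.node 
 (.leaf f0) 
 (.leaf f128)) (.node 
 (.leaf f64) 
 (.leaf f192))) (.node (.node 
 (.leaf f32) 
 (.leaf f160)) 
 (.leaf f96))) (.node (.node (.node 
 (.leaf f16) 
 (.leaf f144)) 
 (.leaf f80)) (.node (.node 
 (.leaf f48) 
 (.leaf f176)) 
 (.leaf f112)))) (.node (.node (.node (.node 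
 (.leaf f8) 
 (.leaf f136)) 
 (.leaf f72)) (.node (.node 
 (.leaf f40) 
 (.leaf f168)) 
 (.leaf f104))) (.node (.node (.node 
 (.leaf f24) 
 (.leaf f152)) 
 (.leaf f88)) (.node (.node 
 (.leaf f56) 
 (.leaf f184)) 
 (.leaf f120))))) (.node (.node (.node (.node (.node 
 (.leaf f4) 
 (.leaf f132)) 
 (.leaf f68)) (.node (.node 
 (.leaf f36) 
 (.leaf f164)) 
 (.leaf f100))) (.node (.node (.node 
 (.leaf f20) 
 (.leaf f148)) 
 (.leaf f84)) (.node (.node 
 (.leaf f52) 
 (.leaf f180)) 
 (.leaf f116)))) (.node (.node (.node (.node 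
 (.leaf f12) 
 (.leaf f140)) 
 (.leaf f76)) (.node (.node 
 (.leaf f44) 
 (.leaf f172)) 
 (.leaf f108))) (.node (.node (.node 
 (.leaf f28) 
 (.leaf f156)) 
 (.leaf f92)) (.node (.node 
 (.leaf f60) 
 (.leaf f188)) 
 (.leaf f124)))))) (.node (.node (.node (.node (.node (.node 
 (.leaf f2) 
 (.leaf f130)) 
 (.leaf f66)) (.node (.node 
 (.leaf f34) 
 (.leaf f162)) 
 (.leaf f98))) (.node (.node (.node 
 (.leaf f18) 
 (.leaf f146)) 
 (.leaf f82)) (.node (.node 
 (.leaf f50) 
 (.leaf f178)) 
 (.leaf f114)))) (.node (.node (.node (.node 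
 (.leaf f10) 
 (.leaf f138)) 
 (.leaf f74)) (.node (.node 
 (.leaf f42) 
 (.leaf f170)) 
 (.leaf f106))) (.node (.node (.node 
 (.leaf f26) 
 (.leaf f154)) 
 (.leaf f90)) (.node (.node 
 (.leaf f58) 
 (.leaf f186)) 
 (.leaf f122))))) (.node (.node (.node (.node (.node 
 (.leaf f6) 
 (.leaf f134)) 
 (.leaf f70)) (.node (.node 
 (.leaf f38) 
 (.leaf f166)) 
 (.leaf f102))) (.node (.node (.node 
 (.leaf f22) 
 (.leaf f150)) 
 (.leaf f86)) (.node (.node 
 (.leaf f54) 
 (.leaf f182)) 
 (.leaf f118)))) (.node (.node (.node (.node 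
 (.leaf f14) 
 (.leaf f142)) 
 (.leaf f78)) (.node (.node 
 (.leaf f46) 
 (.leaf f174)) 
 (.leaf f110))) (.node (.node (.node 
 (.leaf f30) 
 (.leaf f158)) 
 (.leaf f94)) (.node (.node 
 (.leaf f62) 
 (.leaf f190)) 
 (.leaf f126))))))) (.node (.node (.node (.node (.node (.node (.node 
 (.leaf f1) 
 (.leaf f129)) (.node 
 (.leaf f65) 
 (.leaf f193))) (.node (.node 
 (.leaf f33) 
 (.leaf f161)) 
 (.leaf f97))) (.node (.node (.node 
 (.leaf f17) 
 (.leaf f145)) 
 (.leaf f81)) (.node (.node 
 (.leaf f49) 
 (.leaf f177)) 
 (.leaf f113)))) (.node (.node (.node (.node 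
 (.leaf f9) 
 (.leaf f137)) 
 (.leaf f73)) (.node (.node 
 (.leaf f41) 
 (.leaf f169)) 
 (.leaf f105))) (.node (.node (.node 
 (.leaf f25) 
 (.leaf f153)) 
 (.leaf f89)) (.node (.node 
 (.leaf f57) 
 (.leaf f185)) 
 (.leaf f121))))) (.node (.node (.node (.node (.node 
 (.leaf f5) 
 (.leaf f133)) 
 (.leaf f69)) (.node (.node 
 (.leaf f37) 
 (.leaf f165)) 
 (.leaf f101))) (.node (.node (.node 
 (.leaf f21) 
 (.leaf f149)) 
 (.leaf f85)) (.node (.node 
 (.leaf f53) 
 (.leaf f181)) 
 (.leaf f117)))) (.node (.node (.node (.node 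
 (.leaf f13) 
 (.leaf f141)) 
 (.leaf f77)) (.node (.node 
 (.leaf f45) 
 (.leaf f173)) 
 (.leaf f109))) (.node (.node (.node 
 (.leaf f29) 
 (.leaf f157)) 
 (.leaf f93)) (.node (.node 
 (.leaf f61) 
 (.leaf f189)) 
 (.leaf f125)))))) (.node (.node (.node (.node (.node (.node 
 (.leaf f3) 
 (.leaf f131)) 
 (.leaf f67)) (.node (.node 
 (.leaf f35) 
 (.leaf f163)) 
 (.leaf f99))) (.node (.node (.node 
 (.leaf f19) 
 (.leaf f147)) 
 (.leaf f83)) (.node (.node 
 (.leaf f51) 
 (.leaf f179)) 
 (.leaf f115)))) (.node (.node (.node (.node 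
 (.leaf f11) 
 (.leaf f139)) 
 (.leaf f75)) (.node (.node 
 (.leaf f43) 
 (.leaf f171)) 
 (.leaf f107))) (.node (.node (.node 
 (.leaf f27) 
 (.leaf f155)) 
 (.leaf f91)) (.node (.node 
 (.leaf f59) 
 (.leaf f187)) 
 (.leaf f123))))) (.node (.node (.node (.node (.node 
 (.leaf f7) 
 (.leaf f135)) 
 (.leaf f71)) (.node (.node 
 (.leaf f39) 
 (.leaf f167)) 
 (.leaf f103))) (.node (.node (.node 
 (.leaf f23) 
 (.leaf f151)) 
 (.leaf f87)) (.node (.node 
 (.leaf f55) 
 (.leaf f183)) 
 (.leaf f119)))) (.node (.node (.node (.node 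
 (.leaf f15) 
 (.leaf f143)) 
 (.leaf f79)) (.node (.node 
 (.leaf f47) 
 (.leaf f175)) 
 (.leaf f111))) (.node (.node (.node 
 (.leaf f31) 
 (.leaf f159)) 
 (.leaf f95)) (.node (.node 
 (.leaf f63) 
 (.leaf f191)) 
 (.leaf f127))))))))
noncomputable def D : List (ℕ × List ℕ) := [((nat_lit 0), []), ((nat_lit 0), []), ((nat_lit 1), [nat_lit 6, nat_lit 5, nat_lit 7, nat_lit 6]), ((nat_lit 1), [nat_lit 8, nat_lit 3, nat_lit 1, nat_lit 6, nat_lit 7, nat_lit 8, nat_lit 6, nat_lit 3, nat_lit 7, nat_lit 5, nat_lit 6]), ((nat_lit 2), [nat_lit 8, nat_lit 5, nat_lit 7, nat_lit 8, nat_lit 6, nat_lit 5, nat_lit 7, nat_lit 6]), ((nat_lit 3), [nat_lit 7, nat_lit 8, nat_lit 0, nat_lit 7, nat_lit 8, nat_lit 6, nat_lit 7, nat_lit 8, nat_lit 7, nat_lit 1, nat_lit 6])]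
noncomputable def R : List (List ℕ × ℕ) := [([a0, a0], nat_lit 0), ([nat_lit 0x100000000000010000000000001000000000100100000000000010000000000001000000100000100000000000010000000000001000000000000100000000000010000000000001, nat_lit 0x100000000000010000000000001000000000100100000000000010000000000001000000100000100000000000010000000000001000000000000100000000000010000000000001, nat_lit 0x100000000000010000000000001000000000100100000000000010000000000001000000000000100000000000010000100000001000100000000100100000000010100000000001], nat_lit 0), ([nat_lit 0x100000000000010000101011010101110010011001011001001000110111000111111101000111101111000110101101000111101100010110011000000111001101000111100101, nat_lit 0x100000000000011110110100000100000000010111000110000010000000001001001111000000000001011101101000000000000010000000000100001010111001011011100011, nat_lit 0x100000000000010010011111001000000000010111000110000010000000001001001111000000001000000000010000000000100000010001110101011011100011001010111001], nat_lit 0)]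
noncomputable def Ds : List (List (List ℕ) × Ce) := [([[],
  []], [([], (nat_lit 0), false)]), ([[nat_lit 6, nat_lit 5, nat_lit 7, nat_lit 6, nat_lit 11, nat_lit 6, nat_lit 7, nat_lit 5, nat_lit 6],
  [nat_lit 6, nat_lit 5, nat_lit 7, nat_lit 6, nat_lit 11, nat_lit 6, nat_lit 7, nat_lit 5, nat_lit 6],
  [nat_lit 6, nat_lit 5, nat_lit 7, nat_lit 6, nat_lit 11, nat_lit 9, nat_lit 6, nat_lit 7, nat_lit 5, nat_lit 6]], [([], (nat_lit 13), false)]), ([[nat_lit 6],
  [nat_lit 1, nat_lit 6],
  [nat_lit 7, nat_lit 1, nat_lit 6, nat_lit 7, nat_lit 6, nat_lit 7, nat_lit 1]], [([], (nat_lit 14), false)])]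
noncomputable def P194 : List Pf := [.kb [nat_lit 0] [nat_lit 0, nat_lit 9] [([], (nat_lit 1), false), ([], (nat_lit 0), true)],
  .kb [nat_lit 1] [nat_lit 1] [([], (nat_lit 2), false), ([], (nat_lit 0), true)],
  .kb [nat_lit 2] [nat_lit 2] [([], (nat_lit 3), false), ([], (nat_lit 0), true)],
  .kb [nat_lit 3] [nat_lit 3, nat_lit 9] [([], (nat_lit 4), false), ([], (nat_lit 0), true)],
  .kb [nat_lit 4] [nat_lit 4] [([], (nat_lit 5), false), ([], (nat_lit 0), true)],
  .kb [nat_lit 5] [nat_lit 5, nat_lit 9] [([], (nat_lit 6), false), ([], (nat_lit 0), true)],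
  .kb [nat_lit 7] [nat_lit 7, nat_lit 9] [([], (nat_lit 7), false), ([], (nat_lit 0), true)],
  .kb [nat_lit 8] [nat_lit 4, nat_lit 10, nat_lit 11, nat_lit 4, nat_lit 8] [([], (nat_lit 8), false), ([], (nat_lit 0), true)],
  .kb [nat_lit 9] [nat_lit 9] [([], (nat_lit 9), false), ([], (nat_lit 0), true)],
  .kb [nat_lit 10] [nat_lit 10] [([], (nat_lit 10), false), ([], (nat_lit 0), true)],
  .kb [nat_lit 11] [nat_lit 11] [([], (nat_lit 11), false), ([], (nat_lit 0), true)],
  .kb [nat_lit 6, nat_lit 11, nat_lit 6] [nat_lit 5, nat_lit 6, nat_lit 3, nat_lit 5, nat_lit 6, nat_lit 11, nat_lit 5, nat_lit 6] [([], (nat_lit 12), false), ([], (nat_lit 0), true)],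
  .ki (nat_lit 0),
  .ki (nat_lit 1),
  .ki (nat_lit 2),
  .kp [nat_lit 2, nat_lit 1, nat_lit 2, nat_lit 12, nat_lit 0, nat_lit 1],
  .ki (nat_lit 15),
  .kp [nat_lit 12, nat_lit 13, nat_lit 12, nat_lit 0, nat_lit 1, nat_lit 14, nat_lit 14, nat_lit 16, nat_lit 0, nat_lit 1, nat_lit 14, nat_lit 15, nat_lit 1],
  .ki (nat_lit 17),
  .kp [nat_lit 12, nat_lit 3],
  .ki (nat_lit 19),
  .kp [nat_lit 18, nat_lit 13, nat_lit 20, nat_lit 1, nat_lit 19, nat_lit 14, nat_lit 19, nat_lit 16, nat_lit 20],
  .ki (nat_lit 21),
  .kp [nat_lit 14, nat_lit 20, nat_lit 12, nat_lit 13, nat_lit 19, nat_lit 15, nat_lit 1, nat_lit 0, nat_lit 13, nat_lit 18],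
  .ki (nat_lit 23),
  .ki (nat_lit 4),
  .ki (nat_lit 5),
  .kp [nat_lit 22, nat_lit 24, nat_lit 14, nat_lit 13, nat_lit 26, nat_lit 20, nat_lit 6],
  .ki (nat_lit 27),
  .ki (nat_lit 7),
  .kp [nat_lit 13, nat_lit 12, nat_lit 29, nat_lit 27, nat_lit 14, nat_lit 18, nat_lit 27, nat_lit 26, nat_lit 21, nat_lit 29, nat_lit 13, nat_lit 14, nat_lit 19, nat_lit 12],
  .ki (nat_lit 30),
  .kp [nat_lit 25, nat_lit 28, nat_lit 13, nat_lit 20, nat_lit 29, nat_lit 27, nat_lit 27, nat_lit 2, nat_lit 31, nat_lit 16, nat_lit 14, nat_lit 5],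
  .ki (nat_lit 32),
  .ki (nat_lit 8),
  .kp [nat_lit 22, nat_lit 24, nat_lit 16, nat_lit 27, nat_lit 34, nat_lit 20, nat_lit 29, nat_lit 25, nat_lit 25, nat_lit 18, nat_lit 8, nat_lit 29, nat_lit 8, nat_lit 17, nat_lit 1, nat_lit 14, nat_lit 7, nat_lit 29, nat_lit 16, nat_lit 12],
  .ki (nat_lit 35),
  .kp [nat_lit 28, nat_lit 35, nat_lit 33, nat_lit 28, nat_lit 35, nat_lit 14, nat_lit 16, nat_lit 13, nat_lit 36, nat_lit 15, nat_lit 32, nat_lit 36, nat_lit 4, nat_lit 13],
  .ki (nat_lit 37),
  .ki (nat_lit 11),
  .kp [nat_lit 36, nat_lit 22, nat_lit 33, nat_lit 28, nat_lit 35, nat_lit 33, nat_lit 16, nat_lit 27, nat_lit 39, nat_lit 16, nat_lit 36, nat_lit 11, nat_lit 37, nat_lit 30, nat_lit 36, nat_lit 15, nat_lit 31],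
  .ki (nat_lit 40),
  .kp [nat_lit 35, nat_lit 22, nat_lit 41, nat_lit 28, nat_lit 25, nat_lit 36, nat_lit 20, nat_lit 39, nat_lit 12, nat_lit 13, nat_lit 41, nat_lit 32, nat_lit 23, nat_lit 40, nat_lit 32, nat_lit 17, nat_lit 21, nat_lit 28, nat_lit 37, nat_lit 4, nat_lit 20, nat_lit 26, nat_lit 34],
  .ki (nat_lit 42),
  .kp [nat_lit 41, nat_lit 38, nat_lit 36, nat_lit 14, nat_lit 28, nat_lit 41, nat_lit 2, nat_lit 34, nat_lit 28, nat_lit 2],
  .ki (nat_lit 44),
  .kp [nat_lit 43, nat_lit 22, nat_lit 41, nat_lit 22, nat_lit 14, nat_lit 34, nat_lit 20, nat_lit 26, nat_lit 8, nat_lit 34, nat_lit 26, nat_lit 41, nat_lit 2, nat_lit 19],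
  .kp [nat_lit 46, nat_lit 27, nat_lit 32],
  .ki (nat_lit 47),
  .kp [nat_lit 37, nat_lit 7, nat_lit 45],
  .ki (nat_lit 49),
  .kp [nat_lit 50, nat_lit 42, nat_lit 14],
  .ki (nat_lit 51),
  .kp [nat_lit 32, nat_lit 49, nat_lit 5, nat_lit 19, nat_lit 1, nat_lit 8, nat_lit 28, nat_lit 15, nat_lit 32, nat_lit 23, nat_lit 27, nat_lit 37, nat_lit 42, nat_lit 46],
  .ki (nat_lit 53),
  .kp [nat_lit 32, nat_lit 5, nat_lit 19, nat_lit 1, nat_lit 8, nat_lit 4, nat_lit 28, nat_lit 32, nat_lit 36, nat_lit 37, nat_lit 40, nat_lit 46],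
  .ki (nat_lit 55),
  .kp [nat_lit 7, nat_lit 5, nat_lit 1, nat_lit 32, nat_lit 36, nat_lit 17, nat_lit 28, nat_lit 32, nat_lit 21, nat_lit 28, nat_lit 37, nat_lit 44],
  .kp [nat_lit 27, nat_lit 0, nat_lit 28, nat_lit 15, nat_lit 36, nat_lit 32, nat_lit 21, nat_lit 28, nat_lit 37, nat_lit 44],
  .ki (nat_lit 58),
  .kp [nat_lit 32, nat_lit 1, nat_lit 52, nat_lit 11, nat_lit 36, nat_lit 4, nat_lit 2, nat_lit 47, nat_lit 21, nat_lit 36, nat_lit 27, nat_lit 42, nat_lit 44, nat_lit 46],
  .ki (nat_lit 60),
  .kp [nat_lit 4, nat_lit 52, nat_lit 11, nat_lit 23, nat_lit 30, nat_lit 35, nat_lit 48, nat_lit 21, nat_lit 27, nat_lit 37, nat_lit 42, nat_lit 44, nat_lit 46],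
  .ki (nat_lit 62),
  .kp [nat_lit 32, nat_lit 52, nat_lit 1, nat_lit 17, nat_lit 2, nat_lit 44, nat_lit 23, nat_lit 28, nat_lit 40, nat_lit 42, nat_lit 44],
  .ki (nat_lit 64),
  .kp [nat_lit 5, nat_lit 0, nat_lit 19, nat_lit 1, nat_lit 8, nat_lit 17, nat_lit 47, nat_lit 23, nat_lit 36, nat_lit 37, nat_lit 40, nat_lit 42],
  .ki (nat_lit 66),
  .sb (nat_lit 0),
  .ss (nat_lit 0) [(nat_lit 68)] [],
  .sb (nat_lit 2),
  .ss (nat_lit 0) [(nat_lit 70)] [],
  .sb (nat_lit 3),
  .ss (nat_lit 0) [(nat_lit 72)] [],
  .ss (nat_lit 0) [] [nat_lit 73, nat_lit 70, nat_lit 70],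
  .ss (nat_lit 0) [(nat_lit 74)] [],
  .ss (nat_lit 0) [] [nat_lit 75, nat_lit 70, nat_lit 72],
  .ss (nat_lit 0) [] [nat_lit 68, nat_lit 71, nat_lit 72],
  .sb (nat_lit 4),
  .ss (nat_lit 0) [(nat_lit 78)] [],
  .sb (nat_lit 5),
  .sb (nat_lit 6),
  .ss (nat_lit 0) [(nat_lit 81)] [],
  .sb (nat_lit 7),
  .ss (nat_lit 0) [(nat_lit 83)] [],
  .sb (nat_lit 8),
  .ss (nat_lit 0) [] [nat_lit 77, nat_lit 72, nat_lit 70],
  .ss (nat_lit 0) [(nat_lit 86)] [],
  .ss (nat_lit 0) [] [nat_lit 81, nat_lit 71, nat_lit 83],
  .ss (nat_lit 0) [(nat_lit 88)] [],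
  .ss (nat_lit 0) [] [nat_lit 80, nat_lit 89, nat_lit 82],
  .ss (nat_lit 0) [(nat_lit 90)] [],
  .sb (nat_lit 9),
  .ss (nat_lit 0) [(nat_lit 92)] [],
  .ss (nat_lit 0) [] [nat_lit 83, nat_lit 89, nat_lit 85],
  .ss (nat_lit 0) [(nat_lit 94)] [],
  .ss (nat_lit 0) [] [nat_lit 77, nat_lit 91, nat_lit 86],
  .ss (nat_lit 0) [(nat_lit 96)] [],
  .ss (nat_lit 0) [] [nat_lit 69, nat_lit 76, nat_lit 92],
  .ss (nat_lit 0) [(nat_lit 98)] [],
  .df,
  .cy (nat_lit 0) [] [] [] (nat_lit 100) [],
  .tr (nat_lit 100) [] [] [⟨[nat_lit 97, nat_lit 94, nat_lit 71, nat_lit 87, nat_lit 81], [nat_lit 32, nat_lit 7, nat_lit 5, nat_lit 4, nat_lit 17, nat_lit 32], (nat_lit 100)⟩],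
  .ss (nat_lit 1) [(nat_lit 102)] [],
  .tr (nat_lit 100) [] [] [⟨[nat_lit 91, nat_lit 84, nat_lit 99, nat_lit 99], [nat_lit 28, nat_lit 0, nat_lit 32, nat_lit 2, nat_lit 28, nat_lit 32, nat_lit 21], (nat_lit 100)⟩],
  .ss (nat_lit 1) [(nat_lit 104)] [],
  .ss (nat_lit 1) [] [nat_lit 103, nat_lit 104, nat_lit 102],
  .ss (nat_lit 1) [(nat_lit 106)] [],
  .tr (nat_lit 100) [] [] [⟨[nat_lit 80, nat_lit 77, nat_lit 97], [nat_lit 0, nat_lit 5, nat_lit 19, nat_lit 1, nat_lit 21, nat_lit 28], (nat_lit 100)⟩],
  .ss (nat_lit 1) [(nat_lit 108)] [],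
  .tr (nat_lit 100) [] [] [⟨[nat_lit 95, nat_lit 69, nat_lit 70, nat_lit 98, nat_lit 81], [nat_lit 7, nat_lit 8, nat_lit 15], (nat_lit 100)⟩],
  .ss (nat_lit 1) [(nat_lit 110)] [],
  .tr (nat_lit 100) [] [] [⟨[nat_lit 70, nat_lit 78, nat_lit 94, nat_lit 89, nat_lit 69, nat_lit 73, nat_lit 85, nat_lit 79, nat_lit 79, nat_lit 93, nat_lit 94, nat_lit 89], [nat_lit 31, nat_lit 0, nat_lit 15, nat_lit 2, nat_lit 47, nat_lit 36, nat_lit 37], (nat_lit 100)⟩],
  .ss (nat_lit 1) [(nat_lit 112)] [],
  .cy (nat_lit 1) [] [] [] (nat_lit 101) [⟨[nat_lit 88, nat_lit 80, nat_lit 94, nat_lit 83, nat_lit 85, nat_lit 92, nat_lit 85, nat_lit 89, nat_lit 85, nat_lit 90, nat_lit 81], [nat_lit 0, nat_lit 11, nat_lit 1, nat_lit 8, nat_lit 4, nat_lit 23, nat_lit 21, nat_lit 36, nat_lit 27], (nat_lit 100)⟩],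
  .cy (nat_lit 2) [] [] [nat_lit 53, nat_lit 63, nat_lit 60] (nat_lit 101) [⟨[nat_lit 90, nat_lit 88, nat_lit 94, nat_lit 92, nat_lit 85, nat_lit 91, nat_lit 94, nat_lit 90, nat_lit 81], [nat_lit 28, nat_lit 5, nat_lit 19, nat_lit 1, nat_lit 8, nat_lit 15, nat_lit 44, nat_lit 23, nat_lit 36, nat_lit 27, nat_lit 42, nat_lit 46], (nat_lit 100)⟩],
  .df,
  .cy (nat_lit 0) [] [] [] (nat_lit 116) [],
  .tr (nat_lit 116) [] [] [⟨[nat_lit 108, nat_lit 110, nat_lit 109, nat_lit 105, nat_lit 109, nat_lit 111], [nat_lit 0, nat_lit 1, nat_lit 8, nat_lit 17, nat_lit 23, nat_lit 21, nat_lit 28], (nat_lit 116)⟩],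
  .ss (nat_lit 2) [(nat_lit 118)] [],
  .tr (nat_lit 116) [] [] [⟨[nat_lit 105, nat_lit 110, nat_lit 105, nat_lit 111, nat_lit 110, nat_lit 106], [nat_lit 19, nat_lit 1, nat_lit 28, nat_lit 2, nat_lit 21, nat_lit 27, nat_lit 37, nat_lit 42, nat_lit 44, nat_lit 46], (nat_lit 116)⟩],
  .tr (nat_lit 116) [] [] [⟨[nat_lit 102, nat_lit 112, nat_lit 108, nat_lit 109, nat_lit 112, nat_lit 103], [nat_lit 8, nat_lit 17, nat_lit 36, nat_lit 27, nat_lit 42, nat_lit 44, nat_lit 46], (nat_lit 116)⟩],
  .tr (nat_lit 116) [] [] [⟨[nat_lit 112, nat_lit 111, nat_lit 105, nat_lit 112, nat_lit 112, nat_lit 110, nat_lit 104], [nat_lit 0, nat_lit 11, nat_lit 19, nat_lit 8, nat_lit 15, nat_lit 2, nat_lit 36, nat_lit 27, nat_lit 42], (nat_lit 116)⟩],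
  .ss (nat_lit 2) [(nat_lit 122)] [],
  .cy (nat_lit 2) [] [] [nat_lit 67, nat_lit 65] (nat_lit 115) [⟨[nat_lit 103], [nat_lit 32, nat_lit 1, nat_lit 52, nat_lit 15, nat_lit 21, nat_lit 47, nat_lit 36, nat_lit 27, nat_lit 40, nat_lit 42, nat_lit 44], (nat_lit 116)⟩],
  .cy (nat_lit 0) [] [] [] (nat_lit 124) [⟨[nat_lit 111, nat_lit 112, nat_lit 103], [nat_lit 32, nat_lit 1, nat_lit 52, nat_lit 36, nat_lit 4, nat_lit 2, nat_lit 35, nat_lit 32, nat_lit 21, nat_lit 28, nat_lit 37, nat_lit 40], (nat_lit 116)⟩],
  .cy (nat_lit 1) [] [] [] (nat_lit 117) [⟨[nat_lit 106, nat_lit 104, nat_lit 112, nat_lit 106, nat_lit 103], [nat_lit 40, nat_lit 0, nat_lit 19, nat_lit 8, nat_lit 27, nat_lit 2, nat_lit 36, nat_lit 27, nat_lit 40, nat_lit 44, nat_lit 46], (nat_lit 116)⟩],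
  .df,
  .cy (nat_lit 0) [] [] [] (nat_lit 127) [],
  .tr (nat_lit 127) [] [] [⟨[nat_lit 111, nat_lit 107, nat_lit 102, nat_lit 112, nat_lit 111, nat_lit 113, nat_lit 105, nat_lit 103], [nat_lit 40, nat_lit 0, nat_lit 19, nat_lit 21, nat_lit 2, nat_lit 21, nat_lit 37, nat_lit 42, nat_lit 44], (nat_lit 127)⟩],
  .ss (nat_lit 3) [(nat_lit 129)] [],
  .tr (nat_lit 127) [] [] [⟨[nat_lit 110, nat_lit 105, nat_lit 113, nat_lit 108, nat_lit 111, nat_lit 110, nat_lit 112, nat_lit 108, nat_lit 108], [nat_lit 4, nat_lit 7, nat_lit 19, nat_lit 35, nat_lit 4, nat_lit 48, nat_lit 40, nat_lit 21, nat_lit 36, nat_lit 27, nat_lit 44], (nat_lit 127)⟩],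
  .ss (nat_lit 3) [(nat_lit 131)] [],
  .ss (nat_lit 3) [] [nat_lit 130, nat_lit 129, nat_lit 130],
  .ss (nat_lit 3) [(nat_lit 133)] [],
  .ss (nat_lit 3) [] [nat_lit 133, nat_lit 131, nat_lit 134],
  .ss (nat_lit 3) [(nat_lit 135)] [],
  .tr (nat_lit 127) [] [] [⟨[nat_lit 108, nat_lit 112, nat_lit 111, nat_lit 107, nat_lit 113, nat_lit 107, nat_lit 102, nat_lit 112, nat_lit 104], [nat_lit 0, nat_lit 1, nat_lit 8, nat_lit 21, nat_lit 2, nat_lit 23, nat_lit 36, nat_lit 27, nat_lit 44], (nat_lit 127)⟩],
  .ss (nat_lit 3) [(nat_lit 137)] [],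
  .tr (nat_lit 127) [] [] [⟨[nat_lit 105, nat_lit 110, nat_lit 107, nat_lit 113, nat_lit 102, nat_lit 103, nat_lit 110, nat_lit 105, nat_lit 106], [nat_lit 40, nat_lit 0, nat_lit 11, nat_lit 19, nat_lit 8, nat_lit 28, nat_lit 15, nat_lit 27, nat_lit 40, nat_lit 44], (nat_lit 127)⟩],
  .ss (nat_lit 3) [(nat_lit 139)] [],
  .cy (nat_lit 2) [] [] [nat_lit 62, nat_lit 64] (nat_lit 115) [⟨[nat_lit 109, nat_lit 102, nat_lit 109, nat_lit 102], [nat_lit 30, nat_lit 0, nat_lit 11, nat_lit 1, nat_lit 17, nat_lit 2, nat_lit 35, nat_lit 32, nat_lit 21, nat_lit 28, nat_lit 37, nat_lit 42], (nat_lit 127)⟩],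
  .cy (nat_lit 0) [] [] [] (nat_lit 141) [⟨[nat_lit 103, nat_lit 107, nat_lit 103, nat_lit 103], [nat_lit 51, nat_lit 7, nat_lit 0, nat_lit 11, nat_lit 19, nat_lit 1, nat_lit 8, nat_lit 17, nat_lit 21, nat_lit 47, nat_lit 28, nat_lit 42, nat_lit 44, nat_lit 46], (nat_lit 127)⟩],
  .ss (nat_lit 3) [(nat_lit 142)] [],
  .cy (nat_lit 2) [] [] [nat_lit 53, nat_lit 61, nat_lit 66] (nat_lit 117) [⟨[nat_lit 113, nat_lit 111, nat_lit 107, nat_lit 103], [nat_lit 28, nat_lit 4, nat_lit 52, nat_lit 11, nat_lit 19, nat_lit 8, nat_lit 15, nat_lit 2, nat_lit 47, nat_lit 23, nat_lit 36, nat_lit 27, nat_lit 37, nat_lit 42, nat_lit 44, nat_lit 46], (nat_lit 127)⟩],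
  .cy (nat_lit 0) [] [] [] (nat_lit 144) [],
  .cy (nat_lit 1) [] [] [] (nat_lit 128) [⟨[nat_lit 106, nat_lit 104, nat_lit 110, nat_lit 105], [nat_lit 19, nat_lit 1, nat_lit 2, nat_lit 23, nat_lit 21, nat_lit 37, nat_lit 42, nat_lit 44, nat_lit 46], (nat_lit 127)⟩],
  .cy (nat_lit 2) [] [] [nat_lit 67] (nat_lit 128) [⟨[nat_lit 111, nat_lit 109, nat_lit 112, nat_lit 103], [nat_lit 49, nat_lit 27, nat_lit 0, nat_lit 11, nat_lit 19, nat_lit 32, nat_lit 36, nat_lit 17, nat_lit 32, nat_lit 23, nat_lit 27, nat_lit 37, nat_lit 40], (nat_lit 127)⟩],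
  .cy (nat_lit 2) [] [] [nat_lit 62, nat_lit 59] (nat_lit 128) [⟨[nat_lit 106, nat_lit 109, nat_lit 102], [nat_lit 52, nat_lit 0, nat_lit 1, nat_lit 17, nat_lit 36, nat_lit 48, nat_lit 21, nat_lit 36, nat_lit 27, nat_lit 37, nat_lit 42, nat_lit 46], (nat_lit 127)⟩],
  .cy (nat_lit 2) [] [] [nat_lit 53, nat_lit 53, nat_lit 61] (nat_lit 128) [⟨[nat_lit 110, nat_lit 105, nat_lit 108, nat_lit 102], [nat_lit 30, nat_lit 7, nat_lit 36, nat_lit 4, nat_lit 2, nat_lit 27, nat_lit 37, nat_lit 40, nat_lit 46], (nat_lit 127)⟩],
  .df,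
  .cy (nat_lit 0) [] [] [] (nat_lit 150) [],
  .tr (nat_lit 150) [] [] [⟨[nat_lit 122, nat_lit 123, nat_lit 125, nat_lit 122, nat_lit 122, nat_lit 120, nat_lit 123, nat_lit 119, nat_lit 125, nat_lit 120], [nat_lit 0, nat_lit 5, nat_lit 19, nat_lit 27, nat_lit 4, nat_lit 32, nat_lit 35, nat_lit 37, nat_lit 40, nat_lit 44, nat_lit 46], (nat_lit 150)⟩],
  .cy (nat_lit 2) [] [] [nat_lit 63] (nat_lit 144) [⟨[nat_lit 119, nat_lit 123, nat_lit 125, nat_lit 121, nat_lit 118], [nat_lit 28, nat_lit 7, nat_lit 11, nat_lit 19, nat_lit 28, nat_lit 2, nat_lit 48, nat_lit 23, nat_lit 36, nat_lit 37, nat_lit 40, nat_lit 42, nat_lit 44], (nat_lit 150)⟩],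
  .cy (nat_lit 0) [] [] [] (nat_lit 153) [],
  .cy (nat_lit 2) [] [] [nat_lit 64, nat_lit 53] (nat_lit 149) [⟨[nat_lit 139, nat_lit 143, nat_lit 137, nat_lit 130], [nat_lit 28, nat_lit 5, nat_lit 11, nat_lit 40, nat_lit 31, nat_lit 44, nat_lit 23, nat_lit 28, nat_lit 37, nat_lit 40, nat_lit 42], (nat_lit 154)⟩],
  .cy (nat_lit 0) [] [] [] (nat_lit 155) [⟨[nat_lit 138, nat_lit 135, nat_lit 131, nat_lit 143], [nat_lit 32, nat_lit 28, nat_lit 0, nat_lit 1, nat_lit 4, nat_lit 2, nat_lit 32, nat_lit 21, nat_lit 28, nat_lit 37, nat_lit 44], (nat_lit 154)⟩],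
  .cy (nat_lit 1) [] [] [] (nat_lit 151) [⟨[nat_lit 122, nat_lit 122], [nat_lit 11, nat_lit 8, nat_lit 36, nat_lit 27, nat_lit 37, nat_lit 42], (nat_lit 150)⟩],
  .cy (nat_lit 2) [] [] [nat_lit 53, nat_lit 53, nat_lit 61] (nat_lit 151) [⟨[nat_lit 118, nat_lit 122, nat_lit 118, nat_lit 118], [nat_lit 17, nat_lit 7, nat_lit 11, nat_lit 1, nat_lit 27, nat_lit 2, nat_lit 23, nat_lit 21, nat_lit 37, nat_lit 42, nat_lit 46], (nat_lit 150)⟩],
  .cy (nat_lit 2) [] [] [nat_lit 53, nat_lit 61, nat_lit 56] (nat_lit 153) [⟨[nat_lit 138, nat_lit 142, nat_lit 132, nat_lit 129], [nat_lit 11, nat_lit 0, nat_lit 5, nat_lit 11, nat_lit 23, nat_lit 30, nat_lit 40, nat_lit 23, nat_lit 21, nat_lit 36, nat_lit 37, nat_lit 44, nat_lit 46], (nat_lit 154)⟩],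
  .df,
  .cy (nat_lit 0) [] [] [] (nat_lit 160) [],
  .tr (nat_lit 160) [] [] [⟨[nat_lit 135, nat_lit 133, nat_lit 130, nat_lit 132, nat_lit 132, nat_lit 132, nat_lit 142, nat_lit 138], [nat_lit 28, nat_lit 7, nat_lit 21, nat_lit 2, nat_lit 28, nat_lit 32, nat_lit 35, nat_lit 37, nat_lit 40, nat_lit 42], (nat_lit 160)⟩],
  .cy (nat_lit 2) [] [] [nat_lit 54, nat_lit 56, nat_lit 61] (nat_lit 148) [⟨[nat_lit 137, nat_lit 136, nat_lit 137], [nat_lit 30, nat_lit 5, nat_lit 19, nat_lit 1, nat_lit 40, nat_lit 31, nat_lit 40, nat_lit 23, nat_lit 21, nat_lit 28, nat_lit 37, nat_lit 40, nat_lit 42, nat_lit 44], (nat_lit 160)⟩],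
  .cy (nat_lit 0) [] [] [] (nat_lit 163) [⟨[nat_lit 135, nat_lit 143, nat_lit 140, nat_lit 129], [nat_lit 11, nat_lit 5, nat_lit 0, nat_lit 11, nat_lit 19, nat_lit 36, nat_lit 15, nat_lit 2, nat_lit 36, nat_lit 32, nat_lit 21, nat_lit 36, nat_lit 27, nat_lit 37, nat_lit 40, nat_lit 46], (nat_lit 160)⟩],
  .cy (nat_lit 2) [] [] [nat_lit 57, nat_lit 55] (nat_lit 153) [⟨[nat_lit 132, nat_lit 136, nat_lit 137, nat_lit 129], [nat_lit 32, nat_lit 5, nat_lit 1, nat_lit 32, nat_lit 47, nat_lit 21, nat_lit 35], (nat_lit 160)⟩],
  .cy (nat_lit 0) [] [] [] (nat_lit 165) [],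
  .cy (nat_lit 1) [] [] [] (nat_lit 161) [⟨[nat_lit 143, nat_lit 129, nat_lit 143, nat_lit 129], [nat_lit 51, nat_lit 7, nat_lit 0, nat_lit 11, nat_lit 19, nat_lit 37, nat_lit 40], (nat_lit 160)⟩],
  .cy (nat_lit 2) [] [] [nat_lit 67, nat_lit 65] (nat_lit 161) [⟨[nat_lit 138, nat_lit 143, nat_lit 129], [nat_lit 4, nat_lit 7, nat_lit 11, nat_lit 48, nat_lit 23, nat_lit 21, nat_lit 36, nat_lit 27, nat_lit 37, nat_lit 40, nat_lit 42, nat_lit 44, nat_lit 46], (nat_lit 160)⟩],
  .ki (nat_lit 0),
  .ki (nat_lit 1),
  .ki (nat_lit 2),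
  .ki (nat_lit 3),
  .ki (nat_lit 4),
  .ki (nat_lit 5),
  .ki (nat_lit 6),
  .ki (nat_lit 7),
  .ki (nat_lit 8),
  .ki (nat_lit 9),
  .ki (nat_lit 10),
  .ki (nat_lit 11),
  .ss (nat_lit 1) [] [nat_lit 112, nat_lit 112],
  .ss (nat_lit 1) [] [nat_lit 102, nat_lit 102],
  .ss (nat_lit 2) [] [nat_lit 118, nat_lit 118, nat_lit 118, nat_lit 118],
  .ss (nat_lit 2) [] [nat_lit 118, nat_lit 118],
  .ss (nat_lit 2) [] [nat_lit 125, nat_lit 125, nat_lit 125],
  .ss (nat_lit 2) [] [nat_lit 118, nat_lit 125, nat_lit 125, nat_lit 118, nat_lit 125, nat_lit 118],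
  .ss (nat_lit 3) [] [nat_lit 142, nat_lit 142, nat_lit 135, nat_lit 135, nat_lit 135],
  .ss (nat_lit 3) [] [nat_lit 142, nat_lit 135, nat_lit 135, nat_lit 135, nat_lit 135, nat_lit 142],
  .ss (nat_lit 4) [] [nat_lit 156, nat_lit 156],
  .ss (nat_lit 4) [] [nat_lit 152, nat_lit 152],
  .ss (nat_lit 4) [] [nat_lit 156, nat_lit 152, nat_lit 156],
  .ss (nat_lit 5) [] [nat_lit 162, nat_lit 162],
  .ss (nat_lit 5) [] [nat_lit 162, nat_lit 164]]
noncomputable def Rt : List (List ℕ) := [[nat_lit 12, nat_lit 12],
  [nat_lit 0, nat_lit 12, nat_lit 9, nat_lit 0, nat_lit 12],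
  [nat_lit 1, nat_lit 12, nat_lit 1, nat_lit 12],
  [nat_lit 2, nat_lit 12, nat_lit 2, nat_lit 12],
  [nat_lit 3, nat_lit 12, nat_lit 9, nat_lit 3, nat_lit 12],
  [nat_lit 4, nat_lit 12, nat_lit 4, nat_lit 12],
  [nat_lit 5, nat_lit 12, nat_lit 9, nat_lit 5, nat_lit 12],
  [nat_lit 7, nat_lit 12, nat_lit 9, nat_lit 7, nat_lit 12],
  [nat_lit 8, nat_lit 12, nat_lit 8, nat_lit 4, nat_lit 11, nat_lit 10, nat_lit 4, nat_lit 12],
  [nat_lit 9, nat_lit 12, nat_lit 9, nat_lit 12],
  [nat_lit 10, nat_lit 12, nat_lit 10, nat_lit 12],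
  [nat_lit 11, nat_lit 12, nat_lit 11, nat_lit 12],
  [nat_lit 6, nat_lit 11, nat_lit 6, nat_lit 12, nat_lit 6, nat_lit 5, nat_lit 11, nat_lit 6, nat_lit 5, nat_lit 3, nat_lit 6, nat_lit 5, nat_lit 12],
  [nat_lit 12, nat_lit 6, nat_lit 5, nat_lit 7, nat_lit 6, nat_lit 11, nat_lit 6, nat_lit 7, nat_lit 5, nat_lit 6, nat_lit 12, nat_lit 6, nat_lit 5, nat_lit 7, nat_lit 6, nat_lit 11, nat_lit 6, nat_lit 7, nat_lit 5, nat_lit 6, nat_lit 12, nat_lit 6, nat_lit 5, nat_lit 7, nat_lit 6, nat_lit 11, nat_lit 9, nat_lit 6, nat_lit 7, nat_lit 5, nat_lit 6],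
  [nat_lit 12, nat_lit 6, nat_lit 12, nat_lit 1, nat_lit 6, nat_lit 12, nat_lit 7, nat_lit 1, nat_lit 6, nat_lit 7, nat_lit 6, nat_lit 7, nat_lit 1]]
noncomputable def dt : Dt := ⟨(nat_lit 24), (nat_lit 0), (nat_lit 0), (nat_lit 0), (nat_lit 12), C, [nat_lit 0, nat_lit 1, nat_lit 2, nat_lit 3, nat_lit 4, nat_lit 5, nat_lit 6, nat_lit 7, nat_lit 8, nat_lit 9, nat_lit 10, nat_lit 11, nat_lit 13], Rt, [[nat_lit 0],
  [nat_lit 1],
  [nat_lit 2],
  [nat_lit 3],
  [nat_lit 4],
  [nat_lit 5],
  [nat_lit 6],
  [nat_lit 7],
  [nat_lit 8],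
  [nat_lit 9],
  [nat_lit 10],
  [nat_lit 11]], D, R, F⟩
noncomputable def PL : List ℕ := [nat_lit 0, nat_lit 1, nat_lit 2, nat_lit 3, nat_lit 4, nat_lit 5]
noncomputable def aL : List (List ℕ) := [[nat_lit 0, nat_lit 3542, nat_lit 0, nat_lit 0, nat_lit 0, nat_lit 0],
  [nat_lit 1, nat_lit 181, nat_lit 480, nat_lit 2880, nat_lit 0, nat_lit 0],
  [nat_lit 0, nat_lit 35, nat_lit 35, nat_lit 1680, nat_lit 1792, nat_lit 0],
  [nat_lit 0, nat_lit 7, nat_lit 56, nat_lit 791, nat_lit 1792, nat_lit 896],
  [nat_lit 0, nat_lit 0, nat_lit 21, nat_lit 630, nat_lit 1771, nat_lit 1120],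
  [nat_lit 0, nat_lit 0, nat_lit 0, nat_lit 495, nat_lit 1760, nat_lit 1287]]
noncomputable def S0 : List (ℕ × List ℕ) := [((nat_lit 92), [nat_lit 9]), ((nat_lit 88), [nat_lit 7, nat_lit 2, nat_lit 6]), ((nat_lit 94), [nat_lit 6, nat_lit 3, nat_lit 8])]
noncomputable def S1 : List (ℕ × List ℕ) := [((nat_lit 181), [nat_lit 10, nat_lit 9, nat_lit 6, nat_lit 11, nat_lit 6, nat_lit 3]), ((nat_lit 112), [nat_lit 4, nat_lit 8, nat_lit 11, nat_lit 6, nat_lit 11, nat_lit 8, nat_lit 6, nat_lit 9, nat_lit 11, nat_lit 2, nat_lit 9, nat_lit 0, nat_lit 8, nat_lit 4]), ((nat_lit 182), [nat_lit 9, nat_lit 7, nat_lit 1, nat_lit 2, nat_lit 3, nat_lit 5, nat_lit 0, nat_lit 7, nat_lit 1, nat_lit 0, nat_lit 8, nat_lit 7, nat_lit 8, nat_lit 0]), ((nat_lit 102), [nat_lit 11, nat_lit 1, nat_lit 8, nat_lit 2, nat_lit 5, nat_lit 1, nat_lit 3, nat_lit 1, nat_lit 0, nat_lit 7, nat_lit 11, nat_lit 4, nat_lit 9, nat_lit 1, nat_lit 5])]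
noncomputable def S2 : List (ℕ × List ℕ) := [((nat_lit 183), [nat_lit 2, nat_lit 3, nat_lit 7]), ((nat_lit 184), [nat_lit 7, nat_lit 0, nat_lit 1, nat_lit 2, nat_lit 1, nat_lit 0, nat_lit 3]), ((nat_lit 118), [nat_lit 1, nat_lit 2, nat_lit 5, nat_lit 1, nat_lit 3, nat_lit 1, nat_lit 0, nat_lit 7, nat_lit 2, nat_lit 0]), ((nat_lit 185), [nat_lit 8, nat_lit 11, nat_lit 6, nat_lit 11, nat_lit 8, nat_lit 6, nat_lit 5, nat_lit 6, nat_lit 2, nat_lit 6, nat_lit 5, nat_lit 10]), ((nat_lit 186), [nat_lit 3, nat_lit 0, nat_lit 7, nat_lit 10, nat_lit 7, nat_lit 9, nat_lit 5, nat_lit 7, nat_lit 5, nat_lit 6, nat_lit 1, nat_lit 0, nat_lit 5, nat_lit 6, nat_lit 7, nat_lit 6, nat_lit 2, nat_lit 1, nat_lit 0, nat_lit 11, nat_lit 4, nat_lit 3, nat_lit 0, nat_lit 5, nat_lit 6])]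
noncomputable def S3 : List (ℕ × List ℕ) := [((nat_lit 135), [nat_lit 5, nat_lit 8, nat_lit 7, nat_lit 8, nat_lit 5, nat_lit 0, nat_lit 6, nat_lit 11, nat_lit 7, nat_lit 6, nat_lit 7, nat_lit 6, nat_lit 7]), ((nat_lit 187), [nat_lit 11, nat_lit 1, nat_lit 2, nat_lit 9, nat_lit 1, nat_lit 6, nat_lit 1, nat_lit 11, nat_lit 0, nat_lit 7, nat_lit 6, nat_lit 11, nat_lit 7, nat_lit 6, nat_lit 7, nat_lit 10, nat_lit 3]), ((nat_lit 188), [nat_lit 0, nat_lit 8, nat_lit 7, nat_lit 8, nat_lit 0, nat_lit 6, nat_lit 1, nat_lit 3, nat_lit 11, nat_lit 0, nat_lit 7, nat_lit 6, nat_lit 11, nat_lit 6, nat_lit 5, nat_lit 0, nat_lit 7, nat_lit 0, nat_lit 5])]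
noncomputable def S4 : List (ℕ × List ℕ) := [((nat_lit 189), [nat_lit 1, nat_lit 6, nat_lit 1, nat_lit 10, nat_lit 9, nat_lit 7, nat_lit 0, nat_lit 1, nat_lit 3, nat_lit 1, nat_lit 5, nat_lit 2, nat_lit 4, nat_lit 9, nat_lit 6, nat_lit 1, nat_lit 3, nat_lit 0]), ((nat_lit 190), [nat_lit 0, nat_lit 8, nat_lit 7, nat_lit 10, nat_lit 7, nat_lit 9, nat_lit 8, nat_lit 5, nat_lit 7, nat_lit 6, nat_lit 11, nat_lit 8, nat_lit 6, nat_lit 8, nat_lit 7, nat_lit 8, nat_lit 5, nat_lit 4, nat_lit 1, nat_lit 6, nat_lit 11, nat_lit 6, nat_lit 0, nat_lit 7, nat_lit 8]), ((nat_lit 152), [nat_lit 11, nat_lit 0, nat_lit 5, nat_lit 3, nat_lit 8, nat_lit 11, nat_lit 6, nat_lit 11, nat_lit 8, nat_lit 6, nat_lit 9, nat_lit 0, nat_lit 2, nat_lit 8, nat_lit 7, nat_lit 8, nat_lit 0, nat_lit 2, nat_lit 11, nat_lit 3, nat_lit 5, nat_lit 7, nat_lit 1, nat_lit 3, nat_lit 6, nat_lit 11, nat_lit 6, nat_lit 8, nat_lit 5, nat_lit 0]), ((nat_lit 191), [nat_lit 10, nat_lit 9, nat_lit 7, nat_lit 0, nat_lit 1, nat_lit 3, nat_lit 1, nat_lit 8, nat_lit 7, nat_lit 8, nat_lit 5,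 nat_lit 2, nat_lit 6, nat_lit 3, nat_lit 7, nat_lit 2, nat_lit 0, nat_lit 5, nat_lit 1, nat_lit 6, nat_lit 3, nat_lit 7, nat_lit 2, nat_lit 7, nat_lit 0, nat_lit 6, nat_lit 11, nat_lit 0, nat_lit 5, nat_lit 6, nat_lit 8, nat_lit 7, nat_lit 8, nat_lit 4, nat_lit 3])]
noncomputable def S5 : List (ℕ × List ℕ) := [((nat_lit 192), [nat_lit 4, nat_lit 3, nat_lit 8, nat_lit 7, nat_lit 8, nat_lit 4, nat_lit 3, nat_lit 11, nat_lit 6, nat_lit 11, nat_lit 6, nat_lit 8, nat_lit 5, nat_lit 0, nat_lit 7, nat_lit 6, nat_lit 11, nat_lit 3, nat_lit 9, nat_lit 6, nat_lit 8]), ((nat_lit 162), [nat_lit 10, nat_lit 8, nat_lit 3, nat_lit 2, nat_lit 1, nat_lit 3, nat_lit 5, nat_lit 0, nat_lit 7, nat_lit 11, nat_lit 6, nat_lit 2, nat_lit 9, nat_lit 6, nat_lit 5, nat_lit 6, nat_lit 11, nat_lit 6, nat_lit 8, nat_lit 4, nat_lit 5, nat_lit 8]), ((nat_lit 193), [nat_lit 10, nat_lit 9, nat_lit 7, nat_lit 0, nat_lit 1, nat_lit 3, nat_lit 1, nat_lit 8, nat_lit 7, nat_lit 8, nat_lit 5, nat_lit 2, nat_lit 11, nat_lit 9, nat_lit 3, nat_lit 1, nat_lit 7, nat_lit 5, nat_lit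 0, nat_lit 1, nat_lit 6, nat_lit 11, nat_lit 1, nat_lit 3, nat_lit 7, nat_lit 6, nat_lit 8, nat_lit 7, nat_lit 0, nat_lit 3, nat_lit 2, nat_lit 5])]
noncomputable def KG : List (ℕ × List ℕ) := [((nat_lit 0), [nat_lit 0]), ((nat_lit 169), [nat_lit 0]), ((nat_lit 1), [nat_lit 1]), ((nat_lit 170), [nat_lit 1]), ((nat_lit 2), [nat_lit 2]), ((nat_lit 171), [nat_lit 2]), ((nat_lit 3), [nat_lit 3]), ((nat_lit 172), [nat_lit 3]), ((nat_lit 4), [nat_lit 4]), ((nat_lit 173), [nat_lit 4]), ((nat_lit 5), [nat_lit 5]), ((nat_lit 174), [nat_lit 5]), ((nat_lit 6), [nat_lit 7]), ((nat_lit 175), [nat_lit 7]), ((nat_lit 7), [nat_lit 8]), ((nat_lit 176), [nat_lit 8]), ((nat_lit 8), [nat_lit 9]), ((nat_lit 177), [nat_lit 9]), ((nat_lit 9), [nat_lit 10]), ((nat_lit 178), [nat_lit 10]), ((nat_lit 10), [nat_lit 11]), ((nat_lit 179), [nat_lit 11]), ((nat_lit 11), [nat_lit 6, nat_lit 11, nat_lit 6]), ((nat_lit 180), [nat_lit 6, nat_lit 11, nat_lit 6])]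
noncomputable def RA : List (List ℕ) := [[nat_lit 12, nat_lit 13],
  [nat_lit 0, nat_lit 0],
  [nat_lit 1, nat_lit 1],
  [nat_lit 2, nat_lit 2],
  [nat_lit 3, nat_lit 3],
  [nat_lit 4, nat_lit 4],
  [nat_lit 5, nat_lit 5],
  [nat_lit 6, nat_lit 6],
  [nat_lit 7, nat_lit 7],
  [nat_lit 8, nat_lit 8],
  [nat_lit 9, nat_lit 9],
  [nat_lit 10, nat_lit 10],
  [nat_lit 11, nat_lit 11],
  [nat_lit 0, nat_lit 2, nat_lit 0, nat_lit 2],
  [nat_lit 0, nat_lit 3, nat_lit 0, nat_lit 3],
  [nat_lit 0, nat_lit 4, nat_lit 0, nat_lit 4],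
  [nat_lit 1, nat_lit 4, nat_lit 1, nat_lit 4],
  [nat_lit 1, nat_lit 7, nat_lit 1, nat_lit 7],
  [nat_lit 2, nat_lit 3, nat_lit 2, nat_lit 3],
  [nat_lit 2, nat_lit 4, nat_lit 2, nat_lit 4],
  [nat_lit 2, nat_lit 5, nat_lit 2, nat_lit 5],
  [nat_lit 3, nat_lit 5, nat_lit 3, nat_lit 5],
  [nat_lit 4, nat_lit 5, nat_lit 4, nat_lit 5],
  [nat_lit 4, nat_lit 6, nat_lit 4, nat_lit 6],
  [nat_lit 4, nat_lit 7, nat_lit 4, nat_lit 7],
  [nat_lit 2, nat_lit 3, nat_lit 4, nat_lit 3, nat_lit 4],
  [nat_lit 0, nat_lit 5, nat_lit 0, nat_lit 5, nat_lit 0, nat_lit 5],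
  [nat_lit 0, nat_lit 6, nat_lit 5, nat_lit 1, nat_lit 5, nat_lit 6],
  [nat_lit 1, nat_lit 6, nat_lit 1, nat_lit 6, nat_lit 1, nat_lit 6],
  [nat_lit 3, nat_lit 7, nat_lit 3, nat_lit 7, nat_lit 3, nat_lit 7],
  [nat_lit 5, nat_lit 6, nat_lit 5, nat_lit 6, nat_lit 5, nat_lit 6],
  [nat_lit 0, nat_lit 1, nat_lit 0, nat_lit 1, nat_lit 5, nat_lit 1, nat_lit 5],
  [nat_lit 1, nat_lit 2, nat_lit 1, nat_lit 2, nat_lit 6, nat_lit 2, nat_lit 6],
  [nat_lit 1, nat_lit 2, nat_lit 1, nat_lit 4, nat_lit 7, nat_lit 2, nat_lit 7],
  [nat_lit 1, nat_lit 3, nat_lit 1, nat_lit 3, nat_lit 6, nat_lit 3, nat_lit 6],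
  [nat_lit 1, nat_lit 4, nat_lit 5, nat_lit 1, nat_lit 7, nat_lit 5, nat_lit 7],
  [nat_lit 0, nat_lit 1, nat_lit 0, nat_lit 4, nat_lit 5, nat_lit 7, nat_lit 5, nat_lit 7],
  [nat_lit 0, nat_lit 1, nat_lit 0, nat_lit 7, nat_lit 0, nat_lit 1, nat_lit 0, nat_lit 7],
  [nat_lit 0, nat_lit 1, nat_lit 2, nat_lit 7, nat_lit 0, nat_lit 1, nat_lit 2, nat_lit 7],
  [nat_lit 0, nat_lit 1, nat_lit 5, nat_lit 0, nat_lit 5, nat_lit 1, nat_lit 0, nat_lit 5],
  [nat_lit 0, nat_lit 1, nat_lit 6, nat_lit 1, nat_lit 0, nat_lit 1, nat_lit 6, nat_lit 1],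
  [nat_lit 0, nat_lit 6, nat_lit 7, nat_lit 5, nat_lit 1, nat_lit 5, nat_lit 7, nat_lit 6],
  [nat_lit 0, nat_lit 7, nat_lit 0, nat_lit 7, nat_lit 0, nat_lit 7, nat_lit 0, nat_lit 7],
  [nat_lit 0, nat_lit 7, nat_lit 6, nat_lit 7, nat_lit 0, nat_lit 7, nat_lit 6, nat_lit 7],
  [nat_lit 1, nat_lit 2, nat_lit 1, nat_lit 3, nat_lit 1, nat_lit 2, nat_lit 1, nat_lit 3],
  [nat_lit 1, nat_lit 2, nat_lit 5, nat_lit 1, nat_lit 7, nat_lit 2, nat_lit 5, nat_lit 7],
  [nat_lit 1, nat_lit 2, nat_lit 6, nat_lit 1, nat_lit 6, nat_lit 2, nat_lit 1, nat_lit 6],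
  [nat_lit 1, nat_lit 2, nat_lit 7, nat_lit 2, nat_lit 1, nat_lit 2, nat_lit 7, nat_lit 2],
  [nat_lit 1, nat_lit 3, nat_lit 6, nat_lit 1, nat_lit 6, nat_lit 3, nat_lit 1, nat_lit 6],
  [nat_lit 2, nat_lit 4, nat_lit 6, nat_lit 2, nat_lit 6, nat_lit 7, nat_lit 2, nat_lit 7],
  [nat_lit 2, nat_lit 6, nat_lit 3, nat_lit 6, nat_lit 2, nat_lit 6, nat_lit 3, nat_lit 6],
  [nat_lit 2, nat_lit 6, nat_lit 7, nat_lit 6, nat_lit 2, nat_lit 6, nat_lit 7, nat_lit 6],
  [nat_lit 2, nat_lit 7, nat_lit 2, nat_lit 7, nat_lit 2, nat_lit 7, nat_lit 2, nat_lit 7],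
  [nat_lit 2, nat_lit 7, nat_lit 6, nat_lit 7, nat_lit 2, nat_lit 7, nat_lit 6, nat_lit 7],
  [nat_lit 0, nat_lit 4, nat_lit 6, nat_lit 1, nat_lit 5, nat_lit 7, nat_lit 5, nat_lit 7, nat_lit 6],
  [nat_lit 0, nat_lit 4, nat_lit 6, nat_lit 7, nat_lit 1, nat_lit 5, nat_lit 7, nat_lit 5, nat_lit 6],
  [nat_lit 2, nat_lit 3, nat_lit 7, nat_lit 2, nat_lit 3, nat_lit 7, nat_lit 3, nat_lit 2, nat_lit 7],
  [nat_lit 2, nat_lit 3, nat_lit 7, nat_lit 4, nat_lit 3, nat_lit 7, nat_lit 3, nat_lit 4, nat_lit 7],
  [nat_lit 2, nat_lit 4, nat_lit 6, nat_lit 3, nat_lit 7, nat_lit 2, nat_lit 7, nat_lit 3, nat_lit 6],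
  [nat_lit 0, nat_lit 1, nat_lit 0, nat_lit 2, nat_lit 1, nat_lit 0, nat_lit 7, nat_lit 0, nat_lit 2, nat_lit 7],
  [nat_lit 0, nat_lit 1, nat_lit 2, nat_lit 0, nat_lit 1, nat_lit 2, nat_lit 6, nat_lit 0, nat_lit 2, nat_lit 6],
  [nat_lit 0, nat_lit 1, nat_lit 2, nat_lit 5, nat_lit 7, nat_lit 2, nat_lit 5, nat_lit 0, nat_lit 7, nat_lit 4],
  [nat_lit 0, nat_lit 1, nat_lit 2, nat_lit 5, nat_lit 7, nat_lit 5, nat_lit 2, nat_lit 0, nat_lit 4, nat_lit 7],
  [nat_lit 0, nat_lit 1, nat_lit 3, nat_lit 0, nat_lit 1, nat_lit 3, nat_lit 6, nat_lit 0, nat_lit 3, nat_lit 6],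
  [nat_lit 0, nat_lit 1, nat_lit 3, nat_lit 0, nat_lit 5, nat_lit 3, nat_lit 7, nat_lit 5, nat_lit 4, nat_lit 7],
  [nat_lit 0, nat_lit 1, nat_lit 4, nat_lit 6, nat_lit 1, nat_lit 0, nat_lit 6, nat_lit 1, nat_lit 6, nat_lit 4],
  [nat_lit 0, nat_lit 1, nat_lit 5, nat_lit 2, nat_lit 4, nat_lit 7, nat_lit 2, nat_lit 5, nat_lit 0, nat_lit 7],
  [nat_lit 0, nat_lit 1, nat_lit 5, nat_lit 2, nat_lit 7, nat_lit 2, nat_lit 5, nat_lit 0, nat_lit 4, nat_lit 7],
  [nat_lit 0, nat_lit 1, nat_lit 7, nat_lit 0, nat_lit 2, nat_lit 5, nat_lit 1, nat_lit 2, nat_lit 7, nat_lit 5],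
  [nat_lit 0, nat_lit 2, nat_lit 4, nat_lit 5, nat_lit 1, nat_lit 2, nat_lit 5, nat_lit 7, nat_lit 0, nat_lit 7],
  [nat_lit 0, nat_lit 2, nat_lit 5, nat_lit 0, nat_lit 7, nat_lit 0, nat_lit 5, nat_lit 0, nat_lit 2, nat_lit 7],
  [nat_lit 0, nat_lit 2, nat_lit 5, nat_lit 1, nat_lit 5, nat_lit 2, nat_lit 7, nat_lit 4, nat_lit 0, nat_lit 7],
  [nat_lit 0, nat_lit 2, nat_lit 5, nat_lit 7, nat_lit 5, nat_lit 0, nat_lit 5, nat_lit 2, nat_lit 7, nat_lit 5],
  [nat_lit 0, nat_lit 2, nat_lit 6, nat_lit 0, nat_lit 2, nat_lit 6, nat_lit 7, nat_lit 2, nat_lit 0, nat_lit 7],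
  [nat_lit 0, nat_lit 2, nat_lit 6, nat_lit 0, nat_lit 6, nat_lit 2, nat_lit 7, nat_lit 0, nat_lit 4, nat_lit 7],
  [nat_lit 0, nat_lit 2, nat_lit 6, nat_lit 5, nat_lit 0, nat_lit 7, nat_lit 0, nat_lit 5, nat_lit 7, nat_lit 6],
  [nat_lit 0, nat_lit 2, nat_lit 7, nat_lit 0, nat_lit 7, nat_lit 4, nat_lit 5, nat_lit 2, nat_lit 1, nat_lit 5],
  [nat_lit 0, nat_lit 4, nat_lit 6, nat_lit 0, nat_lit 7, nat_lit 0, nat_lit 6, nat_lit 7, nat_lit 6, nat_lit 7],
  [nat_lit 0, nat_lit 4, nat_lit 6, nat_lit 7, nat_lit 6, nat_lit 7, nat_lit 0, nat_lit 6, nat_lit 0, nat_lit 7],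
  [nat_lit 0, nat_lit 6, nat_lit 2, nat_lit 7, nat_lit 6, nat_lit 0, nat_lit 7, nat_lit 2, nat_lit 6, nat_lit 7],
  [nat_lit 1, nat_lit 2, nat_lit 3, nat_lit 1, nat_lit 2, nat_lit 6, nat_lit 3, nat_lit 2, nat_lit 6, nat_lit 3],
  [nat_lit 1, nat_lit 2, nat_lit 3, nat_lit 1, nat_lit 6, nat_lit 2, nat_lit 3, nat_lit 6, nat_lit 3, nat_lit 2],
  [nat_lit 1, nat_lit 2, nat_lit 3, nat_lit 1, nat_lit 6, nat_lit 4, nat_lit 3, nat_lit 6, nat_lit 3, nat_lit 4],
  [nat_lit 1, nat_lit 2, nat_lit 4, nat_lit 1, nat_lit 3, nat_lit 2, nat_lit 7, nat_lit 2, nat_lit 7, nat_lit 3],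
  [nat_lit 1, nat_lit 2, nat_lit 6, nat_lit 1, nat_lit 3, nat_lit 6, nat_lit 2, nat_lit 1, nat_lit 6, nat_lit 3],
  [nat_lit 1, nat_lit 2, nat_lit 6, nat_lit 3, nat_lit 4, nat_lit 6, nat_lit 3, nat_lit 4, nat_lit 1, nat_lit 3],
  [nat_lit 1, nat_lit 2, nat_lit 6, nat_lit 3, nat_lit 6, nat_lit 4, nat_lit 3, nat_lit 1, nat_lit 4, nat_lit 3],
  [nat_lit 1, nat_lit 5, nat_lit 1, nat_lit 7, nat_lit 2, nat_lit 3, nat_lit 5, nat_lit 4, nat_lit 3, nat_lit 7],
  [nat_lit 1, nat_lit 6, nat_lit 2, nat_lit 3, nat_lit 7, nat_lit 6, nat_lit 7, nat_lit 3, nat_lit 6, nat_lit 7],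
  [nat_lit 1, nat_lit 6, nat_lit 3, nat_lit 7, nat_lit 6, nat_lit 7, nat_lit 2, nat_lit 3, nat_lit 6, nat_lit 7],
  [nat_lit 0, nat_lit 1, nat_lit 3, nat_lit 2, nat_lit 0, nat_lit 4, nat_lit 3, nat_lit 7, nat_lit 5, nat_lit 7, nat_lit 5],
  [nat_lit 0, nat_lit 1, nat_lit 4, nat_lit 6, nat_lit 7, nat_lit 6, nat_lit 7, nat_lit 6, nat_lit 0, nat_lit 1, nat_lit 7],
  [nat_lit 0, nat_lit 1, nat_lit 4, nat_lit 7, nat_lit 0, nat_lit 5, nat_lit 1, nat_lit 2, nat_lit 7, nat_lit 2, nat_lit 5],
  [nat_lit 0, nat_lit 1, nat_lit 6, nat_lit 7, nat_lit 0, nat_lit 6, nat_lit 4, nat_lit 7, nat_lit 6, nat_lit 1, nat_lit 7],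
  [nat_lit 0, nat_lit 1, nat_lit 6, nat_lit 7, nat_lit 4, nat_lit 0, nat_lit 6, nat_lit 7, nat_lit 6, nat_lit 7, nat_lit 1],
  [nat_lit 0, nat_lit 1, nat_lit 7, nat_lit 0, nat_lit 5, nat_lit 1, nat_lit 2, nat_lit 4, nat_lit 7, nat_lit 5, nat_lit 2],
  [nat_lit 0, nat_lit 4, nat_lit 1, nat_lit 6, nat_lit 7, nat_lit 0, nat_lit 6, nat_lit 7, nat_lit 6, nat_lit 1, nat_lit 7],
  [nat_lit 0, nat_lit 5, nat_lit 1, nat_lit 4, nat_lit 6, nat_lit 2, nat_lit 6, nat_lit 5, nat_lit 7, nat_lit 0, nat_lit 7],
  [nat_lit 0, nat_lit 5, nat_lit 6, nat_lit 2, nat_lit 5, nat_lit 6, nat_lit 2, nat_lit 1, nat_lit 5, nat_lit 2, nat_lit 6],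
  [nat_lit 1, nat_lit 2, nat_lit 7, nat_lit 6, nat_lit 3, nat_lit 7, nat_lit 2, nat_lit 6, nat_lit 7, nat_lit 3, nat_lit 6],
  [nat_lit 1, nat_lit 4, nat_lit 6, nat_lit 3, nat_lit 7, nat_lit 6, nat_lit 4, nat_lit 7, nat_lit 3, nat_lit 6, nat_lit 7],
  [nat_lit 1, nat_lit 6, nat_lit 3, nat_lit 4, nat_lit 7, nat_lit 6, nat_lit 7, nat_lit 3, nat_lit 4, nat_lit 6, nat_lit 7],
  [nat_lit 0, nat_lit 1, nat_lit 0, nat_lit 2, nat_lit 1, nat_lit 4, nat_lit 6, nat_lit 7, nat_lit 2, nat_lit 7, nat_lit 0, nat_lit 6],
  [nat_lit 0, nat_lit 1, nat_lit 2, nat_lit 4, nat_lit 7, nat_lit 0, nat_lit 6, nat_lit 2, nat_lit 6, nat_lit 7, nat_lit 1, nat_lit 2],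
  [nat_lit 0, nat_lit 1, nat_lit 3, nat_lit 5, nat_lit 6, nat_lit 2, nat_lit 6, nat_lit 3, nat_lit 7, nat_lit 5, nat_lit 0, nat_lit 7],
  [nat_lit 0, nat_lit 1, nat_lit 6, nat_lit 0, nat_lit 6, nat_lit 0, nat_lit 2, nat_lit 1, nat_lit 7, nat_lit 4, nat_lit 2, nat_lit 7],
  [nat_lit 0, nat_lit 1, nat_lit 6, nat_lit 7, nat_lit 2, nat_lit 6, nat_lit 7, nat_lit 6, nat_lit 0, nat_lit 7, nat_lit 1, nat_lit 2],
  [nat_lit 0, nat_lit 1, nat_lit 6, nat_lit 7, nat_lit 6, nat_lit 5, nat_lit 7, nat_lit 5, nat_lit 6, nat_lit 1, nat_lit 6, nat_lit 7],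
  [nat_lit 0, nat_lit 1, nat_lit 7, nat_lit 0, nat_lit 3, nat_lit 7, nat_lit 1, nat_lit 3, nat_lit 1, nat_lit 2, nat_lit 7, nat_lit 3],
  [nat_lit 0, nat_lit 1, nat_lit 7, nat_lit 0, nat_lit 5, nat_lit 6, nat_lit 4, nat_lit 0, nat_lit 2, nat_lit 6, nat_lit 5, nat_lit 7],
  [nat_lit 0, nat_lit 1, nat_lit 7, nat_lit 0, nat_lit 6, nat_lit 3, nat_lit 4, nat_lit 6, nat_lit 7, nat_lit 6, nat_lit 3, nat_lit 6],
  [nat_lit 0, nat_lit 3, nat_lit 1, nat_lit 3, nat_lit 4, nat_lit 7, nat_lit 6, nat_lit 3, nat_lit 0, nat_lit 6, nat_lit 0, nat_lit 7],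
  [nat_lit 0, nat_lit 3, nat_lit 1, nat_lit 7, nat_lit 3, nat_lit 0, nat_lit 7, nat_lit 2, nat_lit 1, nat_lit 3, nat_lit 1, nat_lit 7],
  [nat_lit 0, nat_lit 3, nat_lit 6, nat_lit 5, nat_lit 7, nat_lit 5, nat_lit 6, nat_lit 3, nat_lit 7, nat_lit 6, nat_lit 7, nat_lit 4],
  [nat_lit 1, nat_lit 2, nat_lit 3, nat_lit 6, nat_lit 7, nat_lit 6, nat_lit 3, nat_lit 7, nat_lit 6, nat_lit 1, nat_lit 7, nat_lit 6],
  [nat_lit 1, nat_lit 2, nat_lit 7, nat_lit 3, nat_lit 1, nat_lit 4, nat_lit 3, nat_lit 6, nat_lit 3, nat_lit 2, nat_lit 6, nat_lit 7],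
  [nat_lit 1, nat_lit 3, nat_lit 6, nat_lit 7, nat_lit 6, nat_lit 7, nat_lit 3, nat_lit 6, nat_lit 2, nat_lit 7, nat_lit 3, nat_lit 4],
  [nat_lit 1, nat_lit 6, nat_lit 1, nat_lit 7, nat_lit 6, nat_lit 1, nat_lit 7, nat_lit 6, nat_lit 1, nat_lit 7, nat_lit 6, nat_lit 7],
  [nat_lit 0, nat_lit 1, nat_lit 3, nat_lit 1, nat_lit 5, nat_lit 3, nat_lit 7, nat_lit 5, nat_lit 6, nat_lit 3, nat_lit 6, nat_lit 0, nat_lit 7],
  [nat_lit 0, nat_lit 2, nat_lit 4, nat_lit 5, nat_lit 0, nat_lit 7, nat_lit 5, nat_lit 3, nat_lit 0, nat_lit 4, nat_lit 3, nat_lit 5, nat_lit 7],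
  [nat_lit 0, nat_lit 3, nat_lit 6, nat_lit 2, nat_lit 7, nat_lit 6, nat_lit 3, nat_lit 0, nat_lit 6, nat_lit 7, nat_lit 2, nat_lit 1, nat_lit 6],
  [nat_lit 0, nat_lit 5, nat_lit 1, nat_lit 7, nat_lit 6, nat_lit 5, nat_lit 2, nat_lit 6, nat_lit 1, nat_lit 5, nat_lit 6, nat_lit 1, nat_lit 7],
  [nat_lit 0, nat_lit 5, nat_lit 6, nat_lit 1, nat_lit 5, nat_lit 7, nat_lit 0, nat_lit 6, nat_lit 7, nat_lit 6, nat_lit 5, nat_lit 7, nat_lit 6],
  [nat_lit 0, nat_lit 5, nat_lit 6, nat_lit 5, nat_lit 7, nat_lit 4, nat_lit 2, nat_lit 7, nat_lit 6, nat_lit 1, nat_lit 2, nat_lit 5, nat_lit 6],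
  [nat_lit 1, nat_lit 2, nat_lit 7, nat_lit 6, nat_lit 1, nat_lit 3, nat_lit 6, nat_lit 7, nat_lit 6, nat_lit 3, nat_lit 4, nat_lit 7, nat_lit 6],
  [nat_lit 1, nat_lit 3, nat_lit 6, nat_lit 7, nat_lit 4, nat_lit 1, nat_lit 6, nat_lit 3, nat_lit 7, nat_lit 6, nat_lit 1, nat_lit 4, nat_lit 7],
  [nat_lit 2, nat_lit 4, nat_lit 7, nat_lit 5, nat_lit 6, nat_lit 7, nat_lit 6, nat_lit 2, nat_lit 7, nat_lit 6, nat_lit 7, nat_lit 5, nat_lit 7],
  [nat_lit 0, nat_lit 1, nat_lit 3, nat_lit 0, nat_lit 7, nat_lit 0, nat_lit 6, nat_lit 3, nat_lit 7, nat_lit 6, nat_lit 0, nat_lit 7, nat_lit 6, nat_lit 3],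
  [nat_lit 0, nat_lit 1, nat_lit 6, nat_lit 7, nat_lit 2, nat_lit 6, nat_lit 0, nat_lit 6, nat_lit 7, nat_lit 0, nat_lit 6, nat_lit 1, nat_lit 2, nat_lit 4],
  [nat_lit 0, nat_lit 1, nat_lit 7, nat_lit 0, nat_lit 3, nat_lit 7, nat_lit 3, nat_lit 6, nat_lit 2, nat_lit 3, nat_lit 6, nat_lit 7, nat_lit 3, nat_lit 4],
  [nat_lit 0, nat_lit 2, nat_lit 6, nat_lit 3, nat_lit 5, nat_lit 7, nat_lit 6, nat_lit 2, nat_lit 3, nat_lit 6, nat_lit 7, nat_lit 5, nat_lit 3, nat_lit 6],
  [nat_lit 0, nat_lit 3, nat_lit 1, nat_lit 7, nat_lit 4, nat_lit 3, nat_lit 0, nat_lit 7, nat_lit 3, nat_lit 6, nat_lit 2, nat_lit 3, nat_lit 6, nat_lit 7],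
  [nat_lit 1, nat_lit 2, nat_lit 3, nat_lit 7, nat_lit 1, nat_lit 6, nat_lit 2, nat_lit 7, nat_lit 3, nat_lit 6, nat_lit 1, nat_lit 7, nat_lit 3, nat_lit 6],
  [nat_lit 1, nat_lit 2, nat_lit 4, nat_lit 7, nat_lit 3, nat_lit 5, nat_lit 7, nat_lit 2, nat_lit 1, nat_lit 5, nat_lit 3, nat_lit 7, nat_lit 1, nat_lit 3],
  [nat_lit 1, nat_lit 2, nat_lit 6, nat_lit 7, nat_lit 3, nat_lit 1, nat_lit 7, nat_lit 3, nat_lit 6, nat_lit 7, nat_lit 6, nat_lit 7, nat_lit 1, nat_lit 3],
  [nat_lit 1, nat_lit 2, nat_lit 6, nat_lit 7, nat_lit 3, nat_lit 7, nat_lit 1, nat_lit 3, nat_lit 6, nat_lit 7, nat_lit 6, nat_lit 1, nat_lit 7, nat_lit 3],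
  [nat_lit 1, nat_lit 5, nat_lit 7, nat_lit 1, nat_lit 6, nat_lit 5, nat_lit 2, nat_lit 6, nat_lit 4, nat_lit 5, nat_lit 7, nat_lit 6, nat_lit 7, nat_lit 6],
  [nat_lit 0, nat_lit 1, nat_lit 3, nat_lit 5, nat_lit 6, nat_lit 5, nat_lit 0, nat_lit 5, nat_lit 6, nat_lit 3, nat_lit 7, nat_lit 5, nat_lit 7, nat_lit 4, nat_lit 6],
  [nat_lit 0, nat_lit 1, nat_lit 3, nat_lit 6, nat_lit 7, nat_lit 6, nat_lit 2, nat_lit 3, nat_lit 7, nat_lit 6, nat_lit 5, nat_lit 7, nat_lit 5, nat_lit 6, nat_lit 4],
  [nat_lit 0, nat_lit 1, nat_lit 6, nat_lit 7, nat_lit 2, nat_lit 1, nat_lit 6, nat_lit 0, nat_lit 7, nat_lit 6, nat_lit 0, nat_lit 1, nat_lit 7, nat_lit 6, nat_lit 2],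
  [nat_lit 0, nat_lit 1, nat_lit 7, nat_lit 2, nat_lit 4, nat_lit 1, nat_lit 2, nat_lit 0, nat_lit 7, nat_lit 6, nat_lit 3, nat_lit 0, nat_lit 2, nat_lit 3, nat_lit 6],
  [nat_lit 0, nat_lit 3, nat_lit 6, nat_lit 2, nat_lit 5, nat_lit 4, nat_lit 7, nat_lit 5, nat_lit 6, nat_lit 3, nat_lit 2, nat_lit 6, nat_lit 7, nat_lit 2, nat_lit 6],
  [nat_lit 0, nat_lit 5, nat_lit 4, nat_lit 3, nat_lit 6, nat_lit 5, nat_lit 0, nat_lit 6, nat_lit 1, nat_lit 3, nat_lit 5, nat_lit 1, nat_lit 3, nat_lit 4, nat_lit 6],
  [nat_lit 1, nat_lit 3, nat_lit 1, nat_lit 4, nat_lit 6, nat_lit 3, nat_lit 1, nat_lit 7, nat_lit 6, nat_lit 3, nat_lit 4, nat_lit 7, nat_lit 2, nat_lit 6, nat_lit 7],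
  [nat_lit 0, nat_lit 2, nat_lit 1, nat_lit 3, nat_lit 7, nat_lit 3, nat_lit 6, nat_lit 7, nat_lit 2, nat_lit 0, nat_lit 6, nat_lit 7, nat_lit 6, nat_lit 3, nat_lit 1, nat_lit 7],
  [nat_lit 0, nat_lit 2, nat_lit 4, nat_lit 5, nat_lit 6, nat_lit 2, nat_lit 5, nat_lit 7, nat_lit 6, nat_lit 7, nat_lit 2, nat_lit 6, nat_lit 5, nat_lit 7, nat_lit 1, nat_lit 6],
  [nat_lit 0, nat_lit 3, nat_lit 1, nat_lit 2, nat_lit 7, nat_lit 6, nat_lit 7, nat_lit 6, nat_lit 7, nat_lit 1, nat_lit 3, nat_lit 0, nat_lit 6, nat_lit 2, nat_lit 1, nat_lit 6],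
  [nat_lit 0, nat_lit 5, nat_lit 7, nat_lit 1, nat_lit 6, nat_lit 5, nat_lit 6, nat_lit 1, nat_lit 2, nat_lit 3, nat_lit 5, nat_lit 6, nat_lit 7, nat_lit 6, nat_lit 3, nat_lit 6],
  [nat_lit 0, nat_lit 6, nat_lit 2, nat_lit 3, nat_lit 6, nat_lit 7, nat_lit 3, nat_lit 5, nat_lit 1, nat_lit 5, nat_lit 3, nat_lit 7, nat_lit 0, nat_lit 6, nat_lit 3, nat_lit 6],
  [nat_lit 1, nat_lit 2, nat_lit 1, nat_lit 2, nat_lit 1, nat_lit 2, nat_lit 1, nat_lit 2],
  [nat_lit 1, nat_lit 3, nat_lit 1, nat_lit 3, nat_lit 1, nat_lit 3, nat_lit 1, nat_lit 3],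
  [nat_lit 1, nat_lit 5, nat_lit 7, nat_lit 5, nat_lit 1, nat_lit 5, nat_lit 7, nat_lit 5],
  [nat_lit 0, nat_lit 1, nat_lit 0, nat_lit 2, nat_lit 3, nat_lit 1, nat_lit 0, nat_lit 2, nat_lit 3, nat_lit 1, nat_lit 0, nat_lit 3, nat_lit 2, nat_lit 1, nat_lit 3, nat_lit 2],
  [nat_lit 0, nat_lit 1, nat_lit 3, nat_lit 1, nat_lit 5, nat_lit 4, nat_lit 3, nat_lit 1, nat_lit 4, nat_lit 3, nat_lit 5, nat_lit 1, nat_lit 0, nat_lit 3, nat_lit 1, nat_lit 2],
  [nat_lit 0, nat_lit 1, nat_lit 0, nat_lit 1, nat_lit 0, nat_lit 1, nat_lit 0, nat_lit 1],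
  [nat_lit 0, nat_lit 1, nat_lit 0, nat_lit 2, nat_lit 1, nat_lit 0, nat_lit 2, nat_lit 1, nat_lit 0, nat_lit 2, nat_lit 1, nat_lit 2],
  [nat_lit 0, nat_lit 9, nat_lit 0, nat_lit 9],
  [nat_lit 0, nat_lit 10, nat_lit 0, nat_lit 10],
  [nat_lit 1, nat_lit 9, nat_lit 1, nat_lit 9],
  [nat_lit 1, nat_lit 10, nat_lit 1, nat_lit 10],
  [nat_lit 1, nat_lit 11, nat_lit 1, nat_lit 11],
  [nat_lit 2, nat_lit 9, nat_lit 2, nat_lit 9],
  [nat_lit 2, nat_lit 10, nat_lit 2, nat_lit 10],
  [nat_lit 3, nat_lit 9, nat_lit 3, nat_lit 9],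
  [nat_lit 3, nat_lit 10, nat_lit 3, nat_lit 10],
  [nat_lit 4, nat_lit 9, nat_lit 4, nat_lit 9],
  [nat_lit 5, nat_lit 9, nat_lit 5, nat_lit 9],
  [nat_lit 5, nat_lit 10, nat_lit 5, nat_lit 10],
  [nat_lit 6, nat_lit 9, nat_lit 6, nat_lit 9],
  [nat_lit 6, nat_lit 10, nat_lit 6, nat_lit 10],
  [nat_lit 7, nat_lit 9, nat_lit 7, nat_lit 9],
  [nat_lit 9, nat_lit 10, nat_lit 9, nat_lit 10],
  [nat_lit 9, nat_lit 11, nat_lit 9, nat_lit 11],
  [nat_lit 10, nat_lit 11, nat_lit 10, nat_lit 11],
  [nat_lit 2, nat_lit 10, nat_lit 11, nat_lit 2, nat_lit 11],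
  [nat_lit 4, nat_lit 9, nat_lit 10, nat_lit 4, nat_lit 10],
  [nat_lit 7, nat_lit 9, nat_lit 11, nat_lit 7, nat_lit 11],
  [nat_lit 0, nat_lit 3, nat_lit 11, nat_lit 0, nat_lit 3, nat_lit 11],
  [nat_lit 0, nat_lit 5, nat_lit 11, nat_lit 5, nat_lit 0, nat_lit 11],
  [nat_lit 0, nat_lit 9, nat_lit 10, nat_lit 11, nat_lit 0, nat_lit 11],
  [nat_lit 3, nat_lit 5, nat_lit 11, nat_lit 3, nat_lit 5, nat_lit 11],
  [nat_lit 3, nat_lit 9, nat_lit 10, nat_lit 11, nat_lit 3, nat_lit 11],
  [nat_lit 5, nat_lit 9, nat_lit 10, nat_lit 11, nat_lit 5, nat_lit 11],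
  [nat_lit 0, nat_lit 4, nat_lit 11, nat_lit 0, nat_lit 11, nat_lit 4, nat_lit 10],
  [nat_lit 2, nat_lit 5, nat_lit 9, nat_lit 11, nat_lit 2, nat_lit 5, nat_lit 11],
  [nat_lit 4, nat_lit 5, nat_lit 10, nat_lit 4, nat_lit 11, nat_lit 5, nat_lit 11],
  [nat_lit 0, nat_lit 6, nat_lit 11, nat_lit 5, nat_lit 1, nat_lit 5, nat_lit 11, nat_lit 6],
  [nat_lit 1, nat_lit 3, nat_lit 11, nat_lit 3, nat_lit 1, nat_lit 3, nat_lit 11, nat_lit 3],
  [nat_lit 2, nat_lit 6, nat_lit 11, nat_lit 6, nat_lit 2, nat_lit 6, nat_lit 11, nat_lit 6],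
  [nat_lit 4, nat_lit 7, nat_lit 10, nat_lit 4, nat_lit 11, nat_lit 10, nat_lit 7, nat_lit 11],
  [nat_lit 4, nat_lit 7, nat_lit 10, nat_lit 7, nat_lit 11, nat_lit 4, nat_lit 10, nat_lit 11],
  [nat_lit 4, nat_lit 7, nat_lit 10, nat_lit 11, nat_lit 4, nat_lit 11, nat_lit 7, nat_lit 10],
  [nat_lit 4, nat_lit 7, nat_lit 10, nat_lit 11, nat_lit 7, nat_lit 10, nat_lit 4, nat_lit 11],
  [nat_lit 4, nat_lit 11, nat_lit 4, nat_lit 11, nat_lit 4, nat_lit 11, nat_lit 4, nat_lit 11],
  [nat_lit 6, nat_lit 11, nat_lit 6, nat_lit 11, nat_lit 6, nat_lit 11, nat_lit 6, nat_lit 11],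
  [nat_lit 1, nat_lit 2, nat_lit 1, nat_lit 10, nat_lit 7, nat_lit 2, nat_lit 4, nat_lit 7, nat_lit 10],
  [nat_lit 1, nat_lit 4, nat_lit 7, nat_lit 10, nat_lit 5, nat_lit 1, nat_lit 10, nat_lit 7, nat_lit 5],
  [nat_lit 2, nat_lit 3, nat_lit 7, nat_lit 11, nat_lit 4, nat_lit 7, nat_lit 3, nat_lit 4, nat_lit 11],
  [nat_lit 2, nat_lit 4, nat_lit 11, nat_lit 2, nat_lit 7, nat_lit 10, nat_lit 4, nat_lit 11, nat_lit 7],
  [nat_lit 2, nat_lit 4, nat_lit 11, nat_lit 4, nat_lit 2, nat_lit 7, nat_lit 10, nat_lit 7, nat_lit 11],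
  [nat_lit 4, nat_lit 5, nat_lit 7, nat_lit 10, nat_lit 11, nat_lit 7, nat_lit 5, nat_lit 4, nat_lit 11],
  [nat_lit 0, nat_lit 1, nat_lit 2, nat_lit 7, nat_lit 11, nat_lit 0, nat_lit 1, nat_lit 2, nat_lit 7, nat_lit 11],
  [nat_lit 0, nat_lit 4, nat_lit 7, nat_lit 10, nat_lit 7, nat_lit 10, nat_lit 0, nat_lit 11, nat_lit 4, nat_lit 11],
  [nat_lit 1, nat_lit 2, nat_lit 1, nat_lit 10, nat_lit 11, nat_lit 7, nat_lit 2, nat_lit 4, nat_lit 7, nat_lit 11],
  [nat_lit 1, nat_lit 2, nat_lit 10, nat_lit 7, nat_lit 11, nat_lit 1, nat_lit 4, nat_lit 2, nat_lit 11, nat_lit 7],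
  [nat_lit 1, nat_lit 2, nat_lit 11, nat_lit 9, nat_lit 1, nat_lit 7, nat_lit 11, nat_lit 2, nat_lit 4, nat_lit 7],
  [nat_lit 1, nat_lit 5, nat_lit 4, nat_lit 11, nat_lit 1, nat_lit 7, nat_lit 11, nat_lit 5, nat_lit 7, nat_lit 9],
  [nat_lit 1, nat_lit 5, nat_lit 11, nat_lit 1, nat_lit 7, nat_lit 11, nat_lit 4, nat_lit 5, nat_lit 9, nat_lit 7],
  [nat_lit 1, nat_lit 6, nat_lit 1, nat_lit 9, nat_lit 11, nat_lit 6, nat_lit 1, nat_lit 11, nat_lit 6, nat_lit 11],
  [nat_lit 1, nat_lit 6, nat_lit 1, nat_lit 11, nat_lit 6, nat_lit 1, nat_lit 11, nat_lit 9, nat_lit 6, nat_lit 11],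
  [nat_lit 1, nat_lit 6, nat_lit 11, nat_lit 6, nat_lit 1, nat_lit 6, nat_lit 11, nat_lit 6, nat_lit 11, nat_lit 9],
  [nat_lit 2, nat_lit 3, nat_lit 11, nat_lit 4, nat_lit 11, nat_lit 3, nat_lit 4, nat_lit 7, nat_lit 10, nat_lit 7],
  [nat_lit 2, nat_lit 4, nat_lit 10, nat_lit 2, nat_lit 7, nat_lit 11, nat_lit 10, nat_lit 4, nat_lit 7, nat_lit 11],
  [nat_lit 3, nat_lit 4, nat_lit 7, nat_lit 9, nat_lit 10, nat_lit 7, nat_lit 11, nat_lit 4, nat_lit 3, nat_lit 11],
  [nat_lit 0, nat_lit 1, nat_lit 6, nat_lit 11, nat_lit 0, nat_lit 10, nat_lit 11, nat_lit 6, nat_lit 0, nat_lit 1, nat_lit 9],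
  [nat_lit 0, nat_lit 1, nat_lit 11, nat_lit 0, nat_lit 4, nat_lit 11, nat_lit 5, nat_lit 7, nat_lit 5, nat_lit 10, nat_lit 7],
  [nat_lit 0, nat_lit 6, nat_lit 4, nat_lit 11, nat_lit 5, nat_lit 1, nat_lit 11, nat_lit 4, nat_lit 5, nat_lit 6, nat_lit 10],
  [nat_lit 0, nat_lit 7, nat_lit 3, nat_lit 4, nat_lit 11, nat_lit 4, nat_lit 10, nat_lit 3, nat_lit 7, nat_lit 0, nat_lit 11],
  [nat_lit 0, nat_lit 7, nat_lit 3, nat_lit 11, nat_lit 3, nat_lit 10, nat_lit 7, nat_lit 0, nat_lit 10, nat_lit 9, nat_lit 11],
  [nat_lit 1, nat_lit 3, nat_lit 1, nat_lit 9, nat_lit 11, nat_lit 6, nat_lit 3, nat_lit 10, nat_lit 6, nat_lit 3, nat_lit 11],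
  [nat_lit 1, nat_lit 3, nat_lit 6, nat_lit 11, nat_lit 3, nat_lit 9, nat_lit 11, nat_lit 6, nat_lit 1, nat_lit 3, nat_lit 10],
  [nat_lit 1, nat_lit 3, nat_lit 6, nat_lit 11, nat_lit 3, nat_lit 10, nat_lit 11, nat_lit 6, nat_lit 1, nat_lit 3, nat_lit 9],
  [nat_lit 2, nat_lit 3, nat_lit 6, nat_lit 11, nat_lit 4, nat_lit 6, nat_lit 3, nat_lit 6, nat_lit 4, nat_lit 11, nat_lit 6],
  [nat_lit 2, nat_lit 4, nat_lit 5, nat_lit 7, nat_lit 10, nat_lit 7, nat_lit 2, nat_lit 11, nat_lit 5, nat_lit 4, nat_lit 11],
  [nat_lit 2, nat_lit 4, nat_lit 6, nat_lit 2, nat_lit 10, nat_lit 7, nat_lit 9, nat_lit 2, nat_lit 7, nat_lit 10, nat_lit 6],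
  [nat_lit 2, nat_lit 4, nat_lit 6, nat_lit 2, nat_lit 11, nat_lit 7, nat_lit 2, nat_lit 10, nat_lit 7, nat_lit 11, nat_lit 6],
  [nat_lit 2, nat_lit 4, nat_lit 7, nat_lit 2, nat_lit 11, nat_lit 7, nat_lit 6, nat_lit 2, nat_lit 6, nat_lit 9, nat_lit 11],
  [nat_lit 0, nat_lit 1, nat_lit 0, nat_lit 6, nat_lit 0, nat_lit 2, nat_lit 6, nat_lit 11, nat_lit 2, nat_lit 1, nat_lit 2, nat_lit 11],
  [nat_lit 0, nat_lit 1, nat_lit 2, nat_lit 4, nat_lit 10, nat_lit 7, nat_lit 0, nat_lit 7, nat_lit 2, nat_lit 10, nat_lit 9, nat_lit 1],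
  [nat_lit 0, nat_lit 1, nat_lit 5, nat_lit 2, nat_lit 11, nat_lit 7, nat_lit 2, nat_lit 5, nat_lit 11, nat_lit 0, nat_lit 7, nat_lit 4],
  [nat_lit 0, nat_lit 1, nat_lit 6, nat_lit 10, nat_lit 11, nat_lit 1, nat_lit 0, nat_lit 6, nat_lit 11, nat_lit 1, nat_lit 6, nat_lit 11],
  [nat_lit 0, nat_lit 2, nat_lit 6, nat_lit 4, nat_lit 11, nat_lit 6, nat_lit 2, nat_lit 0, nat_lit 6, nat_lit 11, nat_lit 4, nat_lit 6],
  [nat_lit 1, nat_lit 2, nat_lit 6, nat_lit 1, nat_lit 9, nat_lit 11, nat_lit 6, nat_lit 2, nat_lit 1, nat_lit 11, nat_lit 6, nat_lit 11],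
  [nat_lit 2, nat_lit 6, nat_lit 2, nat_lit 10, nat_lit 6, nat_lit 7, nat_lit 10, nat_lit 2, nat_lit 7, nat_lit 11, nat_lit 4, nat_lit 11],
  [nat_lit 2, nat_lit 6, nat_lit 3, nat_lit 11, nat_lit 6, nat_lit 2, nat_lit 11, nat_lit 6, nat_lit 11, nat_lit 3, nat_lit 6, nat_lit 11],
  [nat_lit 4, nat_lit 6, nat_lit 11, nat_lit 4, nat_lit 6, nat_lit 11, nat_lit 4, nat_lit 6, nat_lit 11, nat_lit 6, nat_lit 4, nat_lit 11],
  [nat_lit 6, nat_lit 7, nat_lit 10, nat_lit 7, nat_lit 6, nat_lit 11, nat_lit 6, nat_lit 7, nat_lit 10, nat_lit 7, nat_lit 6, nat_lit 11],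
  [nat_lit 8, nat_lit 0, nat_lit 8, nat_lit 0],
  [nat_lit 8, nat_lit 1, nat_lit 8, nat_lit 1],
  [nat_lit 8, nat_lit 5, nat_lit 8, nat_lit 5],
  [nat_lit 8, nat_lit 6, nat_lit 8, nat_lit 6],
  [nat_lit 8, nat_lit 2, nat_lit 8, nat_lit 3],
  [nat_lit 8, nat_lit 9, nat_lit 8, nat_lit 10, nat_lit 9],
  [nat_lit 8, nat_lit 10, nat_lit 8, nat_lit 10],
  [nat_lit 8, nat_lit 7, nat_lit 10, nat_lit 7, nat_lit 8, nat_lit 11],
  [nat_lit 4, nat_lit 8, nat_lit 4, nat_lit 8, nat_lit 4, nat_lit 8],
  [nat_lit 7, nat_lit 8, nat_lit 7, nat_lit 8, nat_lit 7, nat_lit 8, nat_lit 7, nat_lit 8, nat_lit 7, nat_lit 8],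
  [nat_lit 8, nat_lit 3, nat_lit 7, nat_lit 8, nat_lit 7, nat_lit 8, nat_lit 3, nat_lit 7, nat_lit 8, nat_lit 7, nat_lit 8, nat_lit 3, nat_lit 7, nat_lit 8, nat_lit 7, nat_lit 8, nat_lit 3, nat_lit 7, nat_lit 8, nat_lit 7, nat_lit 8, nat_lit 3, nat_lit 7, nat_lit 8, nat_lit 7, nat_lit 2, nat_lit 3, nat_lit 5, nat_lit 1, nat_lit 2, nat_lit 3, nat_lit 1, nat_lit 0],
  [nat_lit 12, nat_lit 12],
  [nat_lit 0, nat_lit 12, nat_lit 9, nat_lit 0, nat_lit 12],
  [nat_lit 1, nat_lit 12, nat_lit 1, nat_lit 12],
  [nat_lit 2, nat_lit 12, nat_lit 2, nat_lit 12],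
  [nat_lit 3, nat_lit 12, nat_lit 9, nat_lit 3, nat_lit 12],
  [nat_lit 4, nat_lit 12, nat_lit 4, nat_lit 12],
  [nat_lit 5, nat_lit 12, nat_lit 9, nat_lit 5, nat_lit 12],
  [nat_lit 7, nat_lit 12, nat_lit 9, nat_lit 7, nat_lit 12],
  [nat_lit 8, nat_lit 12, nat_lit 8, nat_lit 4, nat_lit 11, nat_lit 10, nat_lit 4, nat_lit 12],
  [nat_lit 9, nat_lit 12, nat_lit 9, nat_lit 12],
  [nat_lit 10, nat_lit 12, nat_lit 10, nat_lit 12],
  [nat_lit 11, nat_lit 12, nat_lit 11, nat_lit 12],
  [nat_lit 6, nat_lit 11, nat_lit 6, nat_lit 12, nat_lit 6, nat_lit 5, nat_lit 11, nat_lit 6, nat_lit 5, nat_lit 3, nat_lit 6, nat_lit 5, nat_lit 12],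
  [nat_lit 12, nat_lit 6, nat_lit 5, nat_lit 7, nat_lit 6, nat_lit 11, nat_lit 6, nat_lit 7, nat_lit 5, nat_lit 6, nat_lit 12, nat_lit 6, nat_lit 5, nat_lit 7, nat_lit 6, nat_lit 11, nat_lit 6, nat_lit 7, nat_lit 5, nat_lit 6, nat_lit 12, nat_lit 6, nat_lit 5, nat_lit 7, nat_lit 6, nat_lit 11, nat_lit 9, nat_lit 6, nat_lit 7, nat_lit 5, nat_lit 6],
  [nat_lit 12, nat_lit 6, nat_lit 12, nat_lit 1, nat_lit 6, nat_lit 12, nat_lit 7, nat_lit 1, nat_lit 6, nat_lit 7, nat_lit 6, nat_lit 7, nat_lit 1]]

theorem pe_0 : q.prChk C (nat_lit 12) (CoN.Rl.map fun r => (r, [])) (nat_lit 0) (nat_lit 247) = true := by decide +kernel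
theorem vi : ∀ i < 2048, q.red (V i) = V i ∧ H0.Co.colI q.w 12 (q.red (V i)) - 2048 = i := by decide +kernel
theorem ve0_0 : allZ (H0.Co.vEnt q C V H0.CoL.P 2048 0) (nat_lit 0) (nat_lit 2048) = true := by decide +kernel
theorem ve1_0 : allZ (H0.Co.vEnt q C V H0.CoL.P 2048 1) (nat_lit 0) (nat_lit 2048) = true := by decide +kernel
theorem ve2_0 : allZ (H0.Co.vEnt q C V H0.CoL.P 2048 2) (nat_lit 0) (nat_lit 2048) = true := by decide +kernel
theorem ve3_0 : allZ (H0.Co.vEnt q C V H0.CoL.P 2048 3) (nat_lit 0) (nat_lit 2048) = true := by decide +kernel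
theorem ve4_0 : allZ (H0.Co.vEnt q C V H0.CoL.P 2048 4) (nat_lit 0) (nat_lit 2048) = true := by decide +kernel
theorem ve5_0 : allZ (H0.Co.vEnt q C V H0.CoL.P 2048 5) (nat_lit 0) (nat_lit 2048) = true := by decide +kernel
theorem ve6_0 : allZ (H0.Co.vEnt q C V H0.CoL.P 2048 6) (nat_lit 0) (nat_lit 2048) = true := by decide +kernel
theorem ve7_0 : allZ (H0.Co.vEnt q C V H0.CoL.P 2048 7) (nat_lit 0) (nat_lit 2048) = true := by decide +kernel
theorem ve8_0 : allZ (H0.Co.vEnt q C V H0.CoL.P 2048 8) (nat_lit 0) (nat_lit 2048) = true := by decide +kernel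
theorem ve9_0 : allZ (H0.Co.vEnt q C V H0.CoL.P 2048 9) (nat_lit 0) (nat_lit 2048) = true := by decide +kernel
theorem ve10_0 : allZ (H0.Co.vEnt q C V H0.CoL.P 2048 10) (nat_lit 0) (nat_lit 2048) = true := by decide +kernel
theorem ve11_0 : allZ (H0.Co.vEnt q C V H0.CoL.P 2048 11) (nat_lit 0) (nat_lit 2048) = true := by decide +kernel
theorem rtc : dt.run q (fun c => allZ (c.ruleEnt Ds) 0 c.R.length) = true := by decide +kernel
theorem v194c : dt.run q (fun c => Nat.add (c.chkL P194 (nat_lit 0)) (Nat.xor ((nat_lit 0) + List.length P194) (nat_lit 194))) = 0 := by decide +kernel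
theorem st0c : dt.run q (fun c => sumL (c.sgen (nat_lit 194) (nat_lit 0)) S0) = 0 := by decide +kernel
theorem e0_1_1 : dt.run q (fun c => c.edges (SP CoN.T CoN.Rl (nat_lit 12)) (nat_lit 194) CoN.T.n (nat_lit 0) (nat_lit 1)
  [((nat_lit 100), [], [], (nat_lit 0))] (nat_lit 0) m0_1_1) = 0 := by decide +kernel
theorem e0_1_2 : reachX CoN.T (nat_lit 687756983328548692) (S0.map Prod.snd) [nat_lit 1, nat_lit 2, nat_lit 1, nat_lit 2, nat_lit 1, nat_lit 2, nat_lit 1, nat_lit 2, nat_lit 0, nat_lit 1, nat_lit 2, nat_lit 0, nat_lit 1, nat_lit 2, nat_lit 0, nat_lit 1, nat_lit 2, nat_lit 0, nat_lit 1, nat_lit 2, nat_lit 0, nat_lit 1, nat_lit 2, nat_lit 1, nat_lit 2, nat_lit 1, nat_lit 2, nat_lit 1, nat_lit 2] m0_1_1 = m0_1_2 := by decide +kernel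
theorem pc0 : partChk CoN.T.n (nat_lit 178) [(nat_lit 0), m0_1_2, (nat_lit 0), (nat_lit 0), (nat_lit 0), (nat_lit 0)] (nth [] aL (nat_lit 0)) = true ∧ nth 0 PL (nat_lit 0) = (nat_lit 0) := by decide +kernel
theorem st1c : dt.run q (fun c => sumL (c.sgen (nat_lit 194) (nat_lit 1)) S1) = 0 := by decide +kernel
theorem e1_0_1 : dt.run q (fun c => c.edges (SP CoN.T CoN.Rl (nat_lit 12)) (nat_lit 194) CoN.T.n (nat_lit 1) (nat_lit 0)
  [((nat_lit 101), [], [], (nat_lit 0))] (nat_lit 0) m1_0_1) = 0 := by decide +kernel
theorem e1_1_1 : dt.run q (fun c => c.edges (SP CoN.T CoN.Rl (nat_lit 12)) (nat_lit 194) CoN.T.n (nat_lit 1) (nat_lit 1)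
  [((nat_lit 114), [nat_lit 6, nat_lit 5, nat_lit 7, nat_lit 6, nat_lit 11, nat_lit 6, nat_lit 7, nat_lit 5, nat_lit 6], [nat_lit 0, nat_lit 32, nat_lit 2, nat_lit 28, nat_lit 32, nat_lit 21, nat_lit 36, nat_lit 37], (nat_lit 1)), ((nat_lit 115), [nat_lit 7, nat_lit 1, nat_lit 6], [nat_lit 11, nat_lit 1, nat_lit 36, nat_lit 2, nat_lit 21, nat_lit 27, nat_lit 37], (nat_lit 1800))] (nat_lit 0) m1_1_1) = 0 := by decide +kernel
theorem e1_1_2 : reachX CoN.T (nat_lit 2829896460561598364) (S1.map Prod.snd) [nat_lit 0, nat_lit 1, nat_lit 3, nat_lit 0, nat_lit 1, nat_lit 2, nat_lit 0, nat_lit 1, nat_lit 3, nat_lit 0, nat_lit 2, nat_lit 1, nat_lit 3] m1_1_1 = m1_1_2 := by decide +kernel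
theorem e1_2_1 : dt.run q (fun c => c.edges (SP CoN.T CoN.Rl (nat_lit 12)) (nat_lit 194) CoN.T.n (nat_lit 1) (nat_lit 2)
  [((nat_lit 116), [nat_lit 6, nat_lit 5, nat_lit 7, nat_lit 6], [], (nat_lit 2))] (nat_lit 0) m1_2_1) = 0 := by decide +kernel
theorem e1_2_2 : reachX CoN.T (nat_lit 3239193986967509404) (S1.map Prod.snd) [nat_lit 1, nat_lit 3, nat_lit 0, nat_lit 2, nat_lit 0, nat_lit 1, nat_lit 3, nat_lit 0, nat_lit 1, nat_lit 3, nat_lit 0, nat_lit 1, nat_lit 2, nat_lit 0, nat_lit 3, nat_lit 0] m1_2_1 = m1_2_2 := by decide +kernel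
theorem e1_3_1 : dt.run q (fun c => c.edges (SP CoN.T CoN.Rl (nat_lit 12)) (nat_lit 194) CoN.T.n (nat_lit 1) (nat_lit 3)
  [((nat_lit 127), [nat_lit 8, nat_lit 3, nat_lit 1, nat_lit 6, nat_lit 7, nat_lit 8, nat_lit 6, nat_lit 3, nat_lit 7, nat_lit 5, nat_lit 6], [], (nat_lit 6))] (nat_lit 0) m1_3_1) = 0 := by decide +kernel
theorem e1_3_2 : reachX CoN.T (nat_lit 770720771050952943) (S1.map Prod.snd) [nat_lit 0, nat_lit 1, nat_lit 3, nat_lit 0, nat_lit 1, nat_lit 2, nat_lit 0, nat_lit 1, nat_lit 3, nat_lit 0, nat_lit 1, nat_lit 2, nat_lit 0, nat_lit 1, nat_lit 3, nat_lit 0, nat_lit 2, nat_lit 0, nat_lit 1] m1_3_1 = m1_3_2 := by decide +kernel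
theorem pc1 : partChk CoN.T.n (nat_lit 178) [m1_0_1, m1_1_2, m1_2_2, m1_3_2, (nat_lit 0), (nat_lit 0)] (nth [] aL (nat_lit 1)) = true ∧ nth 0 PL (nat_lit 1) = (nat_lit 1) := by decide +kernel
theorem st2c : dt.run q (fun c => sumL (c.sgen (nat_lit 194) (nat_lit 2)) S2) = 0 := by decide +kernel
theorem e2_1_1 : dt.run q (fun c => c.edges (SP CoN.T CoN.Rl (nat_lit 12)) (nat_lit 194) CoN.T.n (nat_lit 2) (nat_lit 1)
  [((nat_lit 117), [], [], (nat_lit 0))] (nat_lit 0) m2_1_1) = 0 := by decide +kernel
theorem e2_1_2 : reachX CoN.T (nat_lit 1188014327409370013) (S2.map Prod.snd) [nat_lit 4, nat_lit 0, nat_lit 0, nat_lit 4, nat_lit 0, nat_lit 2, nat_lit 0, nat_lit 4, nat_lit 0, nat_lit 2, nat_lit 4] m2_1_1 = m2_1_2 := by decide +kernel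
theorem e2_2_1 : dt.run q (fun c => c.edges (SP CoN.T CoN.Rl (nat_lit 12)) (nat_lit 194) CoN.T.n (nat_lit 2) (nat_lit 2)
  [((nat_lit 126), [nat_lit 6, nat_lit 5, nat_lit 7, nat_lit 6, nat_lit 11, nat_lit 6, nat_lit 7, nat_lit 5, nat_lit 6], [nat_lit 1, nat_lit 0, nat_lit 19, nat_lit 32, nat_lit 2, nat_lit 28, nat_lit 32, nat_lit 36, nat_lit 27, nat_lit 40, nat_lit 44, nat_lit 46], (nat_lit 1))] (nat_lit 0) m2_2_1) = 0 := by decide +kernel
theorem e2_2_2 : reachX CoN.T (nat_lit 3427299224422092763) (S2.map Prod.snd) [nat_lit 4, nat_lit 0, nat_lit 0, nat_lit 4, nat_lit 0, nat_lit 2, nat_lit 0, nat_lit 4, nat_lit 0, nat_lit 2, nat_lit 4] m2_2_1 = m2_2_2 := by decide +kernel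
theorem e2_3_1 : dt.run q (fun c => c.edges (SP CoN.T CoN.Rl (nat_lit 12)) (nat_lit 194) CoN.T.n (nat_lit 2) (nat_lit 3)
  [((nat_lit 145), [nat_lit 6, nat_lit 11, nat_lit 4, nat_lit 8, nat_lit 6, nat_lit 3, nat_lit 7, nat_lit 5, nat_lit 6], [nat_lit 4, nat_lit 7, nat_lit 11, nat_lit 1, nat_lit 4, nat_lit 21, nat_lit 40, nat_lit 21, nat_lit 37, nat_lit 40], (nat_lit 777))] (nat_lit 0) m2_3_1) = 0 := by decide +kernel
theorem e2_3_2 : reachX CoN.T (nat_lit 4312614727727481695) (S2.map Prod.snd) [nat_lit 0, nat_lit 0, nat_lit 1, nat_lit 3, nat_lit 2, nat_lit 4, nat_lit 0, nat_lit 0, nat_lit 1, nat_lit 3, nat_lit 4, nat_lit 0, nat_lit 0, nat_lit 2, nat_lit 4, nat_lit 0, nat_lit 0] m2_3_1 = m2_3_2 := by decide +kernel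
theorem e2_4_1 : dt.run q (fun c => c.edges (SP CoN.T CoN.Rl (nat_lit 12)) (nat_lit 194) CoN.T.n (nat_lit 2) (nat_lit 4)
  [((nat_lit 150), [nat_lit 8, nat_lit 5, nat_lit 7, nat_lit 8, nat_lit 6, nat_lit 5, nat_lit 7, nat_lit 6], [], (nat_lit 4))] (nat_lit 0) m2_4_1) = 0 := by decide +kernel
theorem e2_4_2 : reachX CoN.T (nat_lit 2475163904321778593) (S2.map Prod.snd) [nat_lit 0, nat_lit 0, nat_lit 1, nat_lit 3, nat_lit 2, nat_lit 1, nat_lit 3, nat_lit 4, nat_lit 0, nat_lit 0, nat_lit 1, nat_lit 3, nat_lit 2, nat_lit 4, nat_lit 0, nat_lit 0, nat_lit 4] m2_4_1 = m2_4_2 := by decide +kernel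
theorem pc2 : partChk CoN.T.n (nat_lit 178) [(nat_lit 0), m2_1_2, m2_2_2, m2_3_2, m2_4_2, (nat_lit 0)] (nth [] aL (nat_lit 2)) = true ∧ nth 0 PL (nat_lit 2) = (nat_lit 2) := by decide +kernel
theorem st3c : dt.run q (fun c => sumL (c.sgen (nat_lit 194) (nat_lit 3)) S3) = 0 := by decide +kernel
theorem e3_1_1 : dt.run q (fun c => c.edges (SP CoN.T CoN.Rl (nat_lit 12)) (nat_lit 194) CoN.T.n (nat_lit 3) (nat_lit 1)
  [((nat_lit 128), [], [], (nat_lit 0))] (nat_lit 0) m3_1_1) = 0 := by decide +kernel
theorem e3_1_2 : reachX CoN.T (nat_lit 4007236790856528816) (S3.map Prod.snd) [nat_lit 1, nat_lit 0, nat_lit 1, nat_lit 2, nat_lit 1] m3_1_1 = m3_1_2 := by decide +kernel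
theorem e3_2_1 : dt.run q (fun c => c.edges (SP CoN.T CoN.Rl (nat_lit 12)) (nat_lit 194) CoN.T.n (nat_lit 3) (nat_lit 2)
  [((nat_lit 144), [nat_lit 7, nat_lit 8, nat_lit 6, nat_lit 11, nat_lit 5, nat_lit 6, nat_lit 7, nat_lit 5, nat_lit 6], [nat_lit 11, nat_lit 0, nat_lit 5, nat_lit 11, nat_lit 19, nat_lit 4, nat_lit 17, nat_lit 23, nat_lit 28, nat_lit 40, nat_lit 46], (nat_lit 3337))] (nat_lit 0) m3_2_1) = 0 := by decide +kernel
theorem e3_2_2 : reachX CoN.T (nat_lit 2922251653884342612) (S3.map Prod.snd) [nat_lit 0, nat_lit 1, nat_lit 0, nat_lit 1, nat_lit 0, nat_lit 1, nat_lit 0, nat_lit 2, nat_lit 1] m3_2_1 = m3_2_2 := by decide +kernel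
theorem e3_3_1 : dt.run q (fun c => c.edges (SP CoN.T CoN.Rl (nat_lit 12)) (nat_lit 194) CoN.T.n (nat_lit 3) (nat_lit 3)
  [((nat_lit 146), [nat_lit 6, nat_lit 5, nat_lit 7, nat_lit 6, nat_lit 11, nat_lit 6, nat_lit 7, nat_lit 5, nat_lit 6], [nat_lit 19, nat_lit 1, nat_lit 21, nat_lit 2, nat_lit 23], (nat_lit 1)), ((nat_lit 148), [nat_lit 3, nat_lit 7, nat_lit 8, nat_lit 7, nat_lit 5, nat_lit 6], [nat_lit 4, nat_lit 52, nat_lit 0, nat_lit 19, nat_lit 15, nat_lit 36, nat_lit 27, nat_lit 44], (nat_lit 3250)), ((nat_lit 147), [nat_lit 8, nat_lit 6, nat_lit 11, nat_lit 6, nat_lit 5, nat_lit 7, nat_lit 6], [nat_lit 40, nat_lit 30, nat_lit 0, nat_lit 19, nat_lit 1, nat_lit 21, nat_lit 2, nat_lit 48, nat_lit 32, nat_lit 21, nat_lit 35, nat_lit 37, nat_lit 44], (nat_lit 2611)), ((nat_lit 149), [nat_lit 5, nat_lit 6, nat_lit 11, nat_lit 6, nat_lit 7, nat_lit 5, nat_lit 6], [nat_lit 7, nat_lit 0, nat_lit 19, nat_lit 1, nat_lit 36, nat_lit 17, nat_lit 21, nat_lit 27, nat_lit 42, nat_lit 46], (nat_lit 1801))] (nat_lit 0) m3_3_1) = 0 := by decide +kernel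
theorem e3_3_2 : reachX CoN.T (nat_lit 3736399600339062458) (S3.map Prod.snd) [nat_lit 1, nat_lit 0, nat_lit 1, nat_lit 0, nat_lit 1, nat_lit 0, nat_lit 1, nat_lit 0, nat_lit 1, nat_lit 0, nat_lit 1, nat_lit 0, nat_lit 1, nat_lit 0, nat_lit 1, nat_lit 0, nat_lit 2] m3_3_1 = m3_3_2 := by decide +kernel
theorem e3_4_1 : dt.run q (fun c => c.edges (SP CoN.T CoN.Rl (nat_lit 12)) (nat_lit 194) CoN.T.n (nat_lit 3) (nat_lit 4)
  [((nat_lit 154), [nat_lit 9, nat_lit 3, nat_lit 7, nat_lit 8, nat_lit 7, nat_lit 6, nat_lit 5, nat_lit 7, nat_lit 8, nat_lit 7, nat_lit 1, nat_lit 6], [nat_lit 0, nat_lit 11, nat_lit 19, nat_lit 15, nat_lit 48, nat_lit 40, nat_lit 21, nat_lit 28, nat_lit 37], (nat_lit 3453))] (nat_lit 0) m3_4_1) = 0 := by decide +kernel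
theorem e3_4_2 : reachX CoN.T (nat_lit 4210654728087386800) (S3.map Prod.snd) [nat_lit 0, nat_lit 1, nat_lit 0, nat_lit 1, nat_lit 0, nat_lit 1, nat_lit 0, nat_lit 1, nat_lit 0, nat_lit 1, nat_lit 0, nat_lit 1, nat_lit 0, nat_lit 1, nat_lit 0, nat_lit 1, nat_lit 0, nat_lit 1, nat_lit 0, nat_lit 1, nat_lit 0] m3_4_1 = m3_4_2 := by decide +kernel
theorem e3_5_1 : dt.run q (fun c => c.edges (SP CoN.T CoN.Rl (nat_lit 12)) (nat_lit 194) CoN.T.n (nat_lit 3) (nat_lit 5)
  [((nat_lit 160), [nat_lit 7, nat_lit 8, nat_lit 0, nat_lit 7, nat_lit 8, nat_lit 6, nat_lit 7, nat_lit 8, nat_lit 7, nat_lit 1, nat_lit 6], [], (nat_lit 8))] (nat_lit 0) m3_5_1) = 0 := by decide +kernel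
theorem e3_5_2 : reachX CoN.T (nat_lit 3637290534117157100) (S3.map Prod.snd) [nat_lit 0, nat_lit 1, nat_lit 0, nat_lit 1, nat_lit 0, nat_lit 1, nat_lit 0, nat_lit 1, nat_lit 0, nat_lit 1, nat_lit 0, nat_lit 1, nat_lit 0, nat_lit 1, nat_lit 0, nat_lit 1, nat_lit 0, nat_lit 0] m3_5_1 = m3_5_2 := by decide +kernel
theorem pc3 : partChk CoN.T.n (nat_lit 178) [(nat_lit 0), m3_1_2, m3_2_2, m3_3_2, m3_4_2, m3_5_2] (nth [] aL (nat_lit 3)) = true ∧ nth 0 PL (nat_lit 3) = (nat_lit 3) := by decide +kernel
theorem st4c : dt.run q (fun c => sumL (c.sgen (nat_lit 194) (nat_lit 4)) S4) = 0 := by decide +kernel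
theorem e4_2_1 : dt.run q (fun c => c.edges (SP CoN.T CoN.Rl (nat_lit 12)) (nat_lit 194) CoN.T.n (nat_lit 4) (nat_lit 2)
  [((nat_lit 151), [], [], (nat_lit 0))] (nat_lit 0) m4_2_1) = 0 := by decide +kernel
theorem e4_2_2 : reachX CoN.T (nat_lit 2875647884026002098) (S4.map Prod.snd) [nat_lit 0, nat_lit 3, nat_lit 0, nat_lit 2, nat_lit 0, nat_lit 2, nat_lit 0] m4_2_1 = m4_2_2 := by decide +kernel
theorem e4_3_1 : dt.run q (fun c => c.edges (SP CoN.T CoN.Rl (nat_lit 12)) (nat_lit 194) CoN.T.n (nat_lit 4) (nat_lit 3)
  [((nat_lit 153), [nat_lit 5, nat_lit 7, nat_lit 6], [nat_lit 17, nat_lit 52, nat_lit 11, nat_lit 8, nat_lit 17, nat_lit 2, nat_lit 21, nat_lit 40, nat_lit 21, nat_lit 37, nat_lit 40], (nat_lit 3316))] (nat_lit 0) m4_3_1) = 0 := by decide +kernel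
theorem e4_3_2 : reachX CoN.T (nat_lit 3970883062590045161) (S4.map Prod.snd) [nat_lit 1, nat_lit 2, nat_lit 0, nat_lit 0, nat_lit 3, nat_lit 0, nat_lit 2, nat_lit 0, nat_lit 1, nat_lit 0, nat_lit 2, nat_lit 0, nat_lit 3, nat_lit 1, nat_lit 0] m4_3_1 = m4_3_2 := by decide +kernel
theorem e4_4_1 : dt.run q (fun c => c.edges (SP CoN.T CoN.Rl (nat_lit 12)) (nat_lit 194) CoN.T.n (nat_lit 4) (nat_lit 4)
  [((nat_lit 157), [nat_lit 6, nat_lit 5, nat_lit 7, nat_lit 6, nat_lit 11, nat_lit 6, nat_lit 7, nat_lit 5, nat_lit 6], [nat_lit 1, nat_lit 8, nat_lit 23, nat_lit 21], (nat_lit 1)), ((nat_lit 158), [nat_lit 6, nat_lit 11, nat_lit 6, nat_lit 0, nat_lit 7, nat_lit 5, nat_lit 6], [nat_lit 7, nat_lit 0, nat_lit 19, nat_lit 8, nat_lit 21, nat_lit 2, nat_lit 40, nat_lit 21, nat_lit 40, nat_lit 46], (nat_lit 645)), ((nat_lit 159), [nat_lit 11, nat_lit 5, nat_lit 6, nat_lit 2, nat_lit 7, nat_lit 8, nat_lit 7, nat_lit 1, nat_lit 6], [nat_lit 5, nat_lit 0, nat_lit 1, nat_lit 8, nat_lit 23, nat_lit 21, nat_lit 36, nat_lit 40, nat_lit 44], (nat_lit 3369))]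 (nat_lit 0) m4_4_1) = 0 := by decide +kernel
theorem e4_4_2 : reachX CoN.T (nat_lit 474355367286460700) (S4.map Prod.snd) [nat_lit 0, nat_lit 1, nat_lit 0, nat_lit 2, nat_lit 0, nat_lit 1, nat_lit 0, nat_lit 2, nat_lit 0, nat_lit 1, nat_lit 0, nat_lit 3, nat_lit 0, nat_lit 2, nat_lit 0, nat_lit 2] m4_4_1 = m4_4_2 := by decide +kernel
theorem e4_5_1 : dt.run q (fun c => c.edges (SP CoN.T CoN.Rl (nat_lit 12)) (nat_lit 194) CoN.T.n (nat_lit 4) (nat_lit 5)
  [((nat_lit 166), [nat_lit 5, nat_lit 7, nat_lit 6, nat_lit 5, nat_lit 7, nat_lit 8, nat_lit 7, nat_lit 1, nat_lit 6], [nat_lit 1, nat_lit 0, nat_lit 11, nat_lit 35, nat_lit 4, nat_lit 28, nat_lit 44], (nat_lit 2906))] (nat_lit 0) m4_5_1) = 0 := by decide +kernel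
theorem e4_5_2 : reachX CoN.T (nat_lit 3494625635353042154) (S4.map Prod.snd) [nat_lit 0, nat_lit 1, nat_lit 0, nat_lit 2, nat_lit 0, nat_lit 1, nat_lit 0, nat_lit 2, nat_lit 0, nat_lit 1, nat_lit 0, nat_lit 2, nat_lit 0, nat_lit 3, nat_lit 0, nat_lit 1, nat_lit 0] m4_5_1 = m4_5_2 := by decide +kernel
theorem pc4 : partChk CoN.T.n (nat_lit 178) [(nat_lit 0), (nat_lit 0), m4_2_2, m4_3_2, m4_4_2, m4_5_2] (nth [] aL (nat_lit 4)) = true ∧ nth 0 PL (nat_lit 4) = (nat_lit 4) := by decide +kernel
theorem st5c : dt.run q (fun c => sumL (c.sgen (nat_lit 194) (nat_lit 5)) S5) = 0 := by decide +kernel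
theorem e5_3_1 : dt.run q (fun c => c.edges (SP CoN.T CoN.Rl (nat_lit 12)) (nat_lit 194) CoN.T.n (nat_lit 5) (nat_lit 3)
  [((nat_lit 161), [], [], (nat_lit 0))] (nat_lit 0) m5_3_1) = 0 := by decide +kernel
theorem e5_3_2 : reachX CoN.T (nat_lit 3363221785157628323) (S5.map Prod.snd) [nat_lit 2, nat_lit 0, nat_lit 1, nat_lit 2, nat_lit 0, nat_lit 1, nat_lit 2, nat_lit 0, nat_lit 1, nat_lit 2, nat_lit 0, nat_lit 1, nat_lit 2, nat_lit 1, nat_lit 0, nat_lit 2, nat_lit 0, nat_lit 2, nat_lit 1] m5_3_1 = m5_3_2 := by decide +kernel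
theorem e5_4_1 : dt.run q (fun c => c.edges (SP CoN.T CoN.Rl (nat_lit 12)) (nat_lit 194) CoN.T.n (nat_lit 5) (nat_lit 4)
  [((nat_lit 165), [nat_lit 7, nat_lit 8, nat_lit 5, nat_lit 3, nat_lit 7, nat_lit 6], [nat_lit 4, nat_lit 52, nat_lit 0, nat_lit 11, nat_lit 2, nat_lit 36, nat_lit 27, nat_lit 37, nat_lit 42, nat_lit 44, nat_lit 46], (nat_lit 3336))] (nat_lit 0) m5_4_1) = 0 := by decide +kernel
theorem e5_4_2 : reachX CoN.T (nat_lit 1599695163884808227) (S5.map Prod.snd) [nat_lit 0, nat_lit 1, nat_lit 2, nat_lit 0, nat_lit 1, nat_lit 2, nat_lit 0, nat_lit 1, nat_lit 2, nat_lit 0, nat_lit 1, nat_lit 2, nat_lit 0, nat_lit 1, nat_lit 2, nat_lit 0, nat_lit 1, nat_lit 2, nat_lit 2] m5_4_1 = m5_4_2 := by decide +kernel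
theorem e5_5_1 : dt.run q (fun c => c.edges (SP CoN.T CoN.Rl (nat_lit 12)) (nat_lit 194) CoN.T.n (nat_lit 5) (nat_lit 5)
  [((nat_lit 167), [nat_lit 6, nat_lit 5, nat_lit 7, nat_lit 6, nat_lit 11, nat_lit 6, nat_lit 7, nat_lit 5, nat_lit 6], [nat_lit 0, nat_lit 1, nat_lit 0, nat_lit 1, nat_lit 8, nat_lit 28, nat_lit 15, nat_lit 40, nat_lit 23, nat_lit 21, nat_lit 35, nat_lit 46], (nat_lit 1)), ((nat_lit 168), [nat_lit 0, nat_lit 7, nat_lit 8, nat_lit 7, nat_lit 5, nat_lit 6], [nat_lit 15, nat_lit 7, nat_lit 11, nat_lit 19, nat_lit 8, nat_lit 21, nat_lit 2, nat_lit 21, nat_lit 36, nat_lit 27, nat_lit 37], (nat_lit 112))] (nat_lit 0) m5_5_1) = 0 := by decide +kernel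
theorem e5_5_2 : reachX CoN.T (nat_lit 4082079682512687645) (S5.map Prod.snd) [nat_lit 2, nat_lit 1, nat_lit 0, nat_lit 2, nat_lit 0, nat_lit 1, nat_lit 2, nat_lit 0, nat_lit 1, nat_lit 2, nat_lit 0, nat_lit 1, nat_lit 2, nat_lit 0, nat_lit 1, nat_lit 2, nat_lit 0, nat_lit 2, nat_lit 1] m5_5_1 = m5_5_2 := by decide +kernel
theorem pc5 : partChk CoN.T.n (nat_lit 178) [(nat_lit 0), (nat_lit 0), (nat_lit 0), m5_3_2, m5_4_2, m5_5_2] (nth [] aL (nat_lit 5)) = true ∧ nth 0 PL (nat_lit 5) = (nat_lit 5) := by decide +kernel
theorem kgc : dt.run q (fun c => sumL (c.kgen (nat_lit 194)) KG) = 0 := by decide +kernel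
theorem num : Num (dt.ck q) PL [nat_lit 1, nat_lit 3542, nat_lit 48576, nat_lit 1457280, nat_lit 4145152, nat_lit 2637824] aL 8292375 ∧ KG.map Prod.snd = CoN.U ∧ PL.length = 6 := by decide +kernel
theorem ivc : dt.run q (fun c => c.ivc) = true := by decide +kernel
theorem par : Par (dt.ck q) CoN.Rl 501397585920 8292375 RA 12 14 4157776806543360000 := by decide +kernel

theorem pe : FP.Prs g (CoN.Rl.map fun r => (r, [])) 247 :=
  FP.Prs.step qok rp (FP.Prs.zero g (CoN.Rl.map fun r => (r, []))) pe_0
theorem ve0 : ∀ i < 2048, (H0.Co.vEnt q C V H0.CoL.P 2048 0) i = 0 := allZ_sound0 ve0_0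
theorem ve1 : ∀ i < 2048, (H0.Co.vEnt q C V H0.CoL.P 2048 1) i = 0 := allZ_sound0 ve1_0
theorem ve2 : ∀ i < 2048, (H0.Co.vEnt q C V H0.CoL.P 2048 2) i = 0 := allZ_sound0 ve2_0
theorem ve3 : ∀ i < 2048, (H0.Co.vEnt q C V H0.CoL.P 2048 3) i = 0 := allZ_sound0 ve3_0
theorem ve4 : ∀ i < 2048, (H0.Co.vEnt q C V H0.CoL.P 2048 4) i = 0 := allZ_sound0 ve4_0
theorem ve5 : ∀ i < 2048, (H0.Co.vEnt q C V H0.CoL.P 2048 5) i = 0 := allZ_sound0 ve5_0
theorem ve6 : ∀ i < 2048, (H0.Co.vEnt q C V H0.CoL.P 2048 6) i = 0 := allZ_sound0 ve6_0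
theorem ve7 : ∀ i < 2048, (H0.Co.vEnt q C V H0.CoL.P 2048 7) i = 0 := allZ_sound0 ve7_0
theorem ve8 : ∀ i < 2048, (H0.Co.vEnt q C V H0.CoL.P 2048 8) i = 0 := allZ_sound0 ve8_0
theorem ve9 : ∀ i < 2048, (H0.Co.vEnt q C V H0.CoL.P 2048 9) i = 0 := allZ_sound0 ve9_0
theorem ve10 : ∀ i < 2048, (H0.Co.vEnt q C V H0.CoL.P 2048 10) i = 0 := allZ_sound0 ve10_0
theorem ve11 : ∀ i < 2048, (H0.Co.vEnt q C V H0.CoL.P 2048 11) i = 0 := allZ_sound0 ve11_0
theorem rels : Rels g CoN.Rl := pe.rels (by decide +kernel)
theorem low : 501397585920 ≤ Nat.card (gen g 12) :=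
  H0.CoL.low (H0.Co.am_fm qok rp (I := fun A => H0.Co.colI q.w 12 A - 2048) vi (fun k hk => match k, hk with
    | 0, _ => ve0 | 1, _ => ve1 | 2, _ => ve2 | 3, _ => ve3 | 4, _ => ve4 | 5, _ => ve5 | 6, _ => ve6 | 7, _ => ve7 | 8, _ => ve8 | 9, _ => ve9 | 10, _ => ve10 | 11, _ => ve11)
    fun _ _ h => congrArg (· - 2048) (H0.Co.colI_congr _ _ _ _ h))
theorem rt : RT (dt.ck q) := RT.of (Dt.of rtc :)
theorem v194 : VT (dt.ck q) (nat_lit 194) := VT.step rt (VT.zero _) (Dt.of v194c :)
theorem actc : Act CoN.T.π id (SP CoN.T CoN.Rl (nat_lit 12)) CoN.T.n (dt.ck q).K := Act.mono CoN.act (by decide +kernel)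
theorem st0 : ST (dt.ck q) (nat_lit 0) (S0.map Prod.snd) := ST.of v194 (Dt.of st0c :)
theorem l0_1_1 : LT (dt.ck q) CoN.T (nat_lit 0) (nat_lit 1) m0_1_1 := LT.edges v194 actc LT.zero (Dt.of e0_1_1 :)
theorem l0_1_2 : LT (dt.ck q) CoN.T (nat_lit 0) (nat_lit 1) m0_1_2 := LT.reach st0 l0_1_1 e0_1_2
theorem row0 : RowT (dt.ck q) CoN.T PL 0 aL := RowT.of (ms := [(nat_lit 0), m0_1_2, (nat_lit 0), (nat_lit 0), (nat_lit 0), (nat_lit 0)]) (.cons LT.zero (.cons l0_1_2 (.cons LT.zero (.cons LT.zero (.cons LT.zero (.cons LT.zero .nil)))))) pc0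
theorem st1 : ST (dt.ck q) (nat_lit 1) (S1.map Prod.snd) := ST.of v194 (Dt.of st1c :)
theorem l1_0_1 : LT (dt.ck q) CoN.T (nat_lit 1) (nat_lit 0) m1_0_1 := LT.edges v194 actc LT.zero (Dt.of e1_0_1 :)
theorem l1_1_1 : LT (dt.ck q) CoN.T (nat_lit 1) (nat_lit 1) m1_1_1 := LT.edges v194 actc LT.zero (Dt.of e1_1_1 :)
theorem l1_1_2 : LT (dt.ck q) CoN.T (nat_lit 1) (nat_lit 1) m1_1_2 := LT.reach st1 l1_1_1 e1_1_2
theorem l1_2_1 : LT (dt.ck q) CoN.T (nat_lit 1) (nat_lit 2) m1_2_1 := LT.edges v194 actc LT.zero (Dt.of e1_2_1 :)
theorem l1_2_2 : LT (dt.ck q) CoN.T (nat_lit 1) (nat_lit 2) m1_2_2 := LT.reach st1 l1_2_1 e1_2_2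
theorem l1_3_1 : LT (dt.ck q) CoN.T (nat_lit 1) (nat_lit 3) m1_3_1 := LT.edges v194 actc LT.zero (Dt.of e1_3_1 :)
theorem l1_3_2 : LT (dt.ck q) CoN.T (nat_lit 1) (nat_lit 3) m1_3_2 := LT.reach st1 l1_3_1 e1_3_2
theorem row1 : RowT (dt.ck q) CoN.T PL 1 aL := RowT.of (ms := [m1_0_1, m1_1_2, m1_2_2, m1_3_2, (nat_lit 0), (nat_lit 0)]) (.cons l1_0_1 (.cons l1_1_2 (.cons l1_2_2 (.cons l1_3_2 (.cons LT.zero (.cons LT.zero .nil)))))) pc1
theorem st2 : ST (dt.ck q) (nat_lit 2) (S2.map Prod.snd) := ST.of v194 (Dt.of st2c :)
theorem l2_1_1 : LT (dt.ck q) CoN.T (nat_lit 2) (nat_lit 1) m2_1_1 := LT.edges v194 actc LT.zero (Dt.of e2_1_1 :)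
theorem l2_1_2 : LT (dt.ck q) CoN.T (nat_lit 2) (nat_lit 1) m2_1_2 := LT.reach st2 l2_1_1 e2_1_2
theorem l2_2_1 : LT (dt.ck q) CoN.T (nat_lit 2) (nat_lit 2) m2_2_1 := LT.edges v194 actc LT.zero (Dt.of e2_2_1 :)
theorem l2_2_2 : LT (dt.ck q) CoN.T (nat_lit 2) (nat_lit 2) m2_2_2 := LT.reach st2 l2_2_1 e2_2_2
theorem l2_3_1 : LT (dt.ck q) CoN.T (nat_lit 2) (nat_lit 3) m2_3_1 := LT.edges v194 actc LT.zero (Dt.of e2_3_1 :)
theorem l2_3_2 : LT (dt.ck q) CoN.T (nat_lit 2) (nat_lit 3) m2_3_2 := LT.reach st2 l2_3_1 e2_3_2
theorem l2_4_1 : LT (dt.ck q) CoN.T (nat_lit 2) (nat_lit 4) m2_4_1 := LT.edges v194 actc LT.zero (Dt.of e2_4_1 :)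
theorem l2_4_2 : LT (dt.ck q) CoN.T (nat_lit 2) (nat_lit 4) m2_4_2 := LT.reach st2 l2_4_1 e2_4_2
theorem row2 : RowT (dt.ck q) CoN.T PL 2 aL := RowT.of (ms := [(nat_lit 0), m2_1_2, m2_2_2, m2_3_2, m2_4_2, (nat_lit 0)]) (.cons LT.zero (.cons l2_1_2 (.cons l2_2_2 (.cons l2_3_2 (.cons l2_4_2 (.cons LT.zero .nil)))))) pc2
theorem st3 : ST (dt.ck q) (nat_lit 3) (S3.map Prod.snd) := ST.of v194 (Dt.of st3c :)
theorem l3_1_1 : LT (dt.ck q) CoN.T (nat_lit 3) (nat_lit 1) m3_1_1 := LT.edges v194 actc LT.zero (Dt.of e3_1_1 :)
theorem l3_1_2 : LT (dt.ck q) CoN.T (nat_lit 3) (nat_lit 1) m3_1_2 := LT.reach st3 l3_1_1 e3_1_2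
theorem l3_2_1 : LT (dt.ck q) CoN.T (nat_lit 3) (nat_lit 2) m3_2_1 := LT.edges v194 actc LT.zero (Dt.of e3_2_1 :)
theorem l3_2_2 : LT (dt.ck q) CoN.T (nat_lit 3) (nat_lit 2) m3_2_2 := LT.reach st3 l3_2_1 e3_2_2
theorem l3_3_1 : LT (dt.ck q) CoN.T (nat_lit 3) (nat_lit 3) m3_3_1 := LT.edges v194 actc LT.zero (Dt.of e3_3_1 :)
theorem l3_3_2 : LT (dt.ck q) CoN.T (nat_lit 3) (nat_lit 3) m3_3_2 := LT.reach st3 l3_3_1 e3_3_2
theorem l3_4_1 : LT (dt.ck q) CoN.T (nat_lit 3) (nat_lit 4) m3_4_1 := LT.edges v194 actc LT.zero (Dt.of e3_4_1 :)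
theorem l3_4_2 : LT (dt.ck q) CoN.T (nat_lit 3) (nat_lit 4) m3_4_2 := LT.reach st3 l3_4_1 e3_4_2
theorem l3_5_1 : LT (dt.ck q) CoN.T (nat_lit 3) (nat_lit 5) m3_5_1 := LT.edges v194 actc LT.zero (Dt.of e3_5_1 :)
theorem l3_5_2 : LT (dt.ck q) CoN.T (nat_lit 3) (nat_lit 5) m3_5_2 := LT.reach st3 l3_5_1 e3_5_2
theorem row3 : RowT (dt.ck q) CoN.T PL 3 aL := RowT.of (ms := [(nat_lit 0), m3_1_2, m3_2_2, m3_3_2, m3_4_2, m3_5_2]) (.cons LT.zero (.cons l3_1_2 (.cons l3_2_2 (.cons l3_3_2 (.cons l3_4_2 (.cons l3_5_2 .nil)))))) pc3
theorem st4 : ST (dt.ck q) (nat_lit 4) (S4.map Prod.snd) := ST.of v194 (Dt.of st4c :)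
theorem l4_2_1 : LT (dt.ck q) CoN.T (nat_lit 4) (nat_lit 2) m4_2_1 := LT.edges v194 actc LT.zero (Dt.of e4_2_1 :)
theorem l4_2_2 : LT (dt.ck q) CoN.T (nat_lit 4) (nat_lit 2) m4_2_2 := LT.reach st4 l4_2_1 e4_2_2
theorem l4_3_1 : LT (dt.ck q) CoN.T (nat_lit 4) (nat_lit 3) m4_3_1 := LT.edges v194 actc LT.zero (Dt.of e4_3_1 :)
theorem l4_3_2 : LT (dt.ck q) CoN.T (nat_lit 4) (nat_lit 3) m4_3_2 := LT.reach st4 l4_3_1 e4_3_2
theorem l4_4_1 : LT (dt.ck q) CoN.T (nat_lit 4) (nat_lit 4) m4_4_1 := LT.edges v194 actc LT.zero (Dt.of e4_4_1 :)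
theorem l4_4_2 : LT (dt.ck q) CoN.T (nat_lit 4) (nat_lit 4) m4_4_2 := LT.reach st4 l4_4_1 e4_4_2
theorem l4_5_1 : LT (dt.ck q) CoN.T (nat_lit 4) (nat_lit 5) m4_5_1 := LT.edges v194 actc LT.zero (Dt.of e4_5_1 :)
theorem l4_5_2 : LT (dt.ck q) CoN.T (nat_lit 4) (nat_lit 5) m4_5_2 := LT.reach st4 l4_5_1 e4_5_2
theorem row4 : RowT (dt.ck q) CoN.T PL 4 aL := RowT.of (ms := [(nat_lit 0), (nat_lit 0), m4_2_2, m4_3_2, m4_4_2, m4_5_2]) (.cons LT.zero (.cons LT.zero (.cons l4_2_2 (.cons l4_3_2 (.cons l4_4_2 (.cons l4_5_2 .nil)))))) pc4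
theorem st5 : ST (dt.ck q) (nat_lit 5) (S5.map Prod.snd) := ST.of v194 (Dt.of st5c :)
theorem l5_3_1 : LT (dt.ck q) CoN.T (nat_lit 5) (nat_lit 3) m5_3_1 := LT.edges v194 actc LT.zero (Dt.of e5_3_1 :)
theorem l5_3_2 : LT (dt.ck q) CoN.T (nat_lit 5) (nat_lit 3) m5_3_2 := LT.reach st5 l5_3_1 e5_3_2
theorem l5_4_1 : LT (dt.ck q) CoN.T (nat_lit 5) (nat_lit 4) m5_4_1 := LT.edges v194 actc LT.zero (Dt.of e5_4_1 :)
theorem l5_4_2 : LT (dt.ck q) CoN.T (nat_lit 5) (nat_lit 4) m5_4_2 := LT.reach st5 l5_4_1 e5_4_2
theorem l5_5_1 : LT (dt.ck q) CoN.T (nat_lit 5) (nat_lit 5) m5_5_1 := LT.edges v194 actc LT.zero (Dt.of e5_5_1 :)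
theorem l5_5_2 : LT (dt.ck q) CoN.T (nat_lit 5) (nat_lit 5) m5_5_2 := LT.reach st5 l5_5_1 e5_5_2
theorem row5 : RowT (dt.ck q) CoN.T PL 5 aL := RowT.of (ms := [(nat_lit 0), (nat_lit 0), (nat_lit 0), m5_3_2, m5_4_2, m5_5_2]) (.cons LT.zero (.cons LT.zero (.cons LT.zero (.cons l5_3_2 (.cons l5_4_2 (.cons l5_5_2 .nil)))))) pc5
theorem done : Done (dt.ck q) CoN.T CoN.U 8292375 := Done.of rt v194 (Dt.of kgc :) (all_succ (all_succ (all_succ (all_succ (all_succ (all_succ all_zero row0) row1) row2) row3) row4) row5) num
theorem fin : Fin (dt.ck q) CoN.T CoN.Rl CoN.U 501397585920 8292375 :=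
  Fin.of qok done CoN.mod rp rels low (Dt.of ivc :) (by decide +kernel)
theorem bound : Bound RA 14 4157776806543360000 := fin.bound par

end H16.CoC
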