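import Cfsg.Agent.H0.Co.D.C0
import Cfsg.Agent.H0.Co.D.C1
import Cfsg.Agent.H0.Co.D.C2
import Cfsg.Agent.H0.Co.D.C3
import Cfsg.Agent.H0.Co.D.C4
import Cfsg.Agent.H0.Co.D.C5

/-! Generated by tools/h0/co1/genD.py. -/

set_option maxRecDepth 100000
set_option maxHeartbeats 0

namespace H0.Co
open H16 H0.TR H0.Am H0.Fi
open scoped commutatorElement

theorem mlx : H15.ML hx Cx 41 := H15.ml_of mlc
theorem lk : ∀ i < 40, (fun k => force k fun k => H15.nz (H15.eqV Cx 41 [9, k] [k, 9])) i = 0 := allZ_sound0 lk_0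
theorem acte_0 : ∀ i < 4560, (H15.actEnt Cx H15.XCo1C.Z F_P (nat_lit 4560) (nat_lit 0)) i = 0 := allZ_sound0 acte_0_0
theorem acte_1 : ∀ i < 4560, (H15.actEnt Cx H15.XCo1C.Z F_P (nat_lit 4560) (nat_lit 1)) i = 0 := allZ_sound0 acte_1_0
theorem acte_2 : ∀ i < 4560, (H15.actEnt Cx H15.XCo1C.Z F_P (nat_lit 4560) (nat_lit 2)) i = 0 := allZ_sound0 acte_2_0
theorem acte_3 : ∀ i < 4560, (H15.actEnt Cx H15.XCo1C.Z F_P (nat_lit 4560) (nat_lit 3)) i = 0 := allZ_sound0 acte_3_0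
theorem acte_4 : ∀ i < 4560, (H15.actEnt Cx H15.XCo1C.Z F_P (nat_lit 4560) (nat_lit 4)) i = 0 := allZ_sound0 acte_4_0
theorem acte_5 : ∀ i < 4560, (H15.actEnt Cx H15.XCo1C.Z F_P (nat_lit 4560) (nat_lit 5)) i = 0 := allZ_sound0 acte_5_0
theorem acte_6 : ∀ i < 4560, (H15.actEnt Cx H15.XCo1C.Z F_P (nat_lit 4560) (nat_lit 6)) i = 0 := allZ_sound0 acte_6_0
theorem acte_7 : ∀ i < 4560, (H15.actEnt Cx H15.XCo1C.Z F_P (nat_lit 4560) (nat_lit 7)) i = 0 := allZ_sound0 acte_7_0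
theorem acte_8 : ∀ i < 4560, (H15.actEnt Cx H15.XCo1C.Z F_P (nat_lit 4560) (nat_lit 8)) i = 0 := allZ_sound0 acte_8_0
theorem acte_9 : ∀ i < 4560, (H15.actEnt Cx H15.XCo1C.Z F_P (nat_lit 4560) (nat_lit 9)) i = 0 := allZ_sound0 acte_9_0
theorem acte_10 : ∀ i < 4560, (H15.actEnt Cx H15.XCo1C.Z F_P (nat_lit 4560) (nat_lit 10)) i = 0 := allZ_sound0 acte_10_0
theorem acte_11 : ∀ i < 4560, (H15.actEnt Cx H15.XCo1C.Z F_P (nat_lit 4560) (nat_lit 11)) i = 0 := allZ_sound0 acte_11_0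
theorem acte_12 : ∀ i < 4560, (H15.actEnt Cx H15.XCo1C.Z F_P (nat_lit 4560) (nat_lit 12)) i = 0 := allZ_sound0 acte_12_0
theorem acte_13 : ∀ i < 4560, (H15.actEnt Cx H15.XCo1C.Z F_P (nat_lit 4560) (nat_lit 13)) i = 0 := allZ_sound0 acte_13_0
theorem acte_14 : ∀ i < 4560, (H15.actEnt Cx H15.XCo1C.Z F_P (nat_lit 4560) (nat_lit 14)) i = 0 := allZ_sound0 acte_14_0
theorem acte_15 : ∀ i < 4560, (H15.actEnt Cx H15.XCo1C.Z F_P (nat_lit 4560) (nat_lit 15)) i = 0 := allZ_sound0 acte_15_0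
theorem acte_16 : ∀ i < 4560, (H15.actEnt Cx H15.XCo1C.Z F_P (nat_lit 4560) (nat_lit 16)) i = 0 := allZ_sound0 acte_16_0
theorem acte_17 : ∀ i < 4560, (H15.actEnt Cx H15.XCo1C.Z F_P (nat_lit 4560) (nat_lit 17)) i = 0 := allZ_sound0 acte_17_0
theorem acte_18 : ∀ i < 4560, (H15.actEnt Cx H15.XCo1C.Z F_P (nat_lit 4560) (nat_lit 18)) i = 0 := allZ_sound0 acte_18_0
theorem acte_19 : ∀ i < 4560, (H15.actEnt Cx H15.XCo1C.Z F_P (nat_lit 4560) (nat_lit 19)) i = 0 := allZ_sound0 acte_19_0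
theorem acte_20 : ∀ i < 4560, (H15.actEnt Cx H15.XCo1C.Z F_P (nat_lit 4560) (nat_lit 20)) i = 0 := allZ_sound0 acte_20_0
theorem acte_21 : ∀ i < 4560, (H15.actEnt Cx H15.XCo1C.Z F_P (nat_lit 4560) (nat_lit 21)) i = 0 := allZ_sound0 acte_21_0
theorem acte_22 : ∀ i < 4560, (H15.actEnt Cx H15.XCo1C.Z F_P (nat_lit 4560) (nat_lit 22)) i = 0 := allZ_sound0 acte_22_0
theorem acte_23 : ∀ i < 4560, (H15.actEnt Cx H15.XCo1C.Z F_P (nat_lit 4560) (nat_lit 23)) i = 0 := allZ_sound0 acte_23_0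
theorem acte_24 : ∀ i < 4560, (H15.actEnt Cx H15.XCo1C.Z F_P (nat_lit 4560) (nat_lit 24)) i = 0 := allZ_sound0 acte_24_0
theorem acte_25 : ∀ i < 4560, (H15.actEnt Cx H15.XCo1C.Z F_P (nat_lit 4560) (nat_lit 25)) i = 0 := allZ_sound0 acte_25_0
theorem acte_26 : ∀ i < 4560, (H15.actEnt Cx H15.XCo1C.Z F_P (nat_lit 4560) (nat_lit 26)) i = 0 := allZ_sound0 acte_26_0
theorem acte_27 : ∀ i < 4560, (H15.actEnt Cx H15.XCo1C.Z F_P (nat_lit 4560) (nat_lit 27)) i = 0 := allZ_sound0 acte_27_0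
theorem acte_28 : ∀ i < 4560, (H15.actEnt Cx H15.XCo1C.Z F_P (nat_lit 4560) (nat_lit 28)) i = 0 := allZ_sound0 acte_28_0
theorem acte_29 : ∀ i < 4560, (H15.actEnt Cx H15.XCo1C.Z F_P (nat_lit 4560) (nat_lit 29)) i = 0 := allZ_sound0 acte_29_0
theorem acte_30 : ∀ i < 4560, (H15.actEnt Cx H15.XCo1C.Z F_P (nat_lit 4560) (nat_lit 30)) i = 0 := allZ_sound0 acte_30_0
theorem acte_31 : ∀ i < 4560, (H15.actEnt Cx H15.XCo1C.Z F_P (nat_lit 4560) (nat_lit 31)) i = 0 := allZ_sound0 acte_31_0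
theorem acte_32 : ∀ i < 4560, (H15.actEnt Cx H15.XCo1C.Z F_P (nat_lit 4560) (nat_lit 32)) i = 0 := allZ_sound0 acte_32_0
theorem acte_33 : ∀ i < 4560, (H15.actEnt Cx H15.XCo1C.Z F_P (nat_lit 4560) (nat_lit 33)) i = 0 := allZ_sound0 acte_33_0
theorem acte_34 : ∀ i < 4560, (H15.actEnt Cx H15.XCo1C.Z F_P (nat_lit 4560) (nat_lit 34)) i = 0 := allZ_sound0 acte_34_0
theorem acte_35 : ∀ i < 4560, (H15.actEnt Cx H15.XCo1C.Z F_P (nat_lit 4560) (nat_lit 35)) i = 0 := allZ_sound0 acte_35_0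
theorem acte_36 : ∀ i < 4560, (H15.actEnt Cx H15.XCo1C.Z F_P (nat_lit 4560) (nat_lit 36)) i = 0 := allZ_sound0 acte_36_0
theorem acte_37 : ∀ i < 4560, (H15.actEnt Cx H15.XCo1C.Z F_P (nat_lit 4560) (nat_lit 37)) i = 0 := allZ_sound0 acte_37_0
theorem acte_38 : ∀ i < 4560, (H15.actEnt Cx H15.XCo1C.Z F_P (nat_lit 4560) (nat_lit 38)) i = 0 := allZ_sound0 acte_38_0
theorem acte_39 : ∀ i < 4560, (H15.actEnt Cx H15.XCo1C.Z F_P (nat_lit 4560) (nat_lit 39)) i = 0 := allZ_sound0 acte_39_0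
theorem acte : ∀ k < 40, ∀ i < 4560, (H15.actEnt Cx H15.XCo1C.Z F_P (nat_lit 4560)) k i = 0 :=
  letters_glue (letters_glue (letters_glue (letters_glue (letters_glue (letters_glue (letters_glue (letters_glue (letters_glue (letters_glue (letters_glue (letters_glue (letters_glue (letters_glue (letters_glue (letters_glue (letters_glue (letters_glue (letters_glue (letters_glue (letters_glue (letters_glue (letters_glue (letters_glue (letters_glue (letters_glue (letters_glue (letters_glue (letters_glue (letters_glue (letters_glue (letters_glue (letters_glue (letters_glue (letters_glue (letters_glue (letters_glue (letters_glue (letters_glue (letters_glue (letters_nil) acte_0) acte_1) acte_2) acte_3) acte_4) acte_5) acte_6) acte_7) acte_8) acte_9) acte_10) acte_11) acte_12) acte_13) acte_14) acte_15) acte_16) acte_17)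 acte_18) acte_19) acte_20) acte_21) acte_22) acte_23) acte_24) acte_25) acte_26) acte_27) acte_28) acte_29) acte_30) acte_31) acte_32) acte_33) acte_34) acte_35) acte_36) acte_37) acte_38) acte_39
theorem Q_act {G Ω : Type*} [Group G] [MulAction G Ω] {g : ℕ → G} {pt : ℕ → Ω}
    (M : Md g pt F_P 4560 40 H15.XCo1C.B 178362777600) : Act (rl [9, 10, 15, 16, 17, 18, 19, 2, 4] g) pt (rl [nat_lit 9, nat_lit 10, nat_lit 15, nat_lit 16, nat_lit 17, nat_lit 18, nat_lit 19, nat_lit 2, nat_lit 4] F_P) 4560 9 :=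
  M.act.rl (by decide)
theorem O_act {G Ω : Type*} [Group G] [MulAction G Ω] {g : ℕ → G} {pt : ℕ → Ω}
    (M : Md g pt F_P 4560 40 H15.XCo1C.B 178362777600) : Act (rl [20, 21, 22, 23, 24, 25, 26, 27, 28, 29] g) pt (rl [nat_lit 20, nat_lit 21, nat_lit 22, nat_lit 23, nat_lit 24, nat_lit 25, nat_lit 26, nat_lit 27, nat_lit 28, nat_lit 29] F_P) 4560 10 :=
  M.act.rl (by decide)
theorem O2_act {G Ω : Type*} [Group G] [MulAction G Ω] {g : ℕ → G} {pt : ℕ → Ω}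
    (M : Md g pt F_P 4560 40 H15.XCo1C.B 178362777600) : Act (rl [20, 21, 22, 23, 24, 25, 26, 27, 30, 31] g) pt (rl [nat_lit 20, nat_lit 21, nat_lit 22, nat_lit 23, nat_lit 24, nat_lit 25, nat_lit 26, nat_lit 27, nat_lit 30, nat_lit 31] F_P) 4560 10 :=
  M.act.rl (by decide)
theorem HH_act {G Ω : Type*} [Group G] [MulAction G Ω] {g : ℕ → G} {pt : ℕ → Ω}
    (M : Md g pt F_P 4560 40 H15.XCo1C.B 178362777600) : Act (rl [0, 1, 2, 3, 4, 5, 6, 7, 9, 10, 11, 12] g) pt (rl [nat_lit 0, nat_lit 1, nat_lit 2, nat_lit 3, nat_lit 4, nat_lit 5, nat_lit 6, nat_lit 7, nat_lit 9, nat_lit 10, nat_lit 11, nat_lit 12] F_P) 4560 12 :=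
  M.act.rl (by decide)
theorem pcQl0_e : ∀ i < 31, (dent pcQl0 (wdsP (rl [nat_lit 9, nat_lit 10, nat_lit 15, nat_lit 16, nat_lit 17, nat_lit 18, nat_lit 19, nat_lit 2, nat_lit 4] F_P) pcQe) (nat_lit 4560)) i = 0 := allZ_sound0 pcQl0_e_0
theorem pcQl0_ok : DOK pcQl0 (wdsP (rl [nat_lit 9, nat_lit 10, nat_lit 15, nat_lit 16, nat_lit 17, nat_lit 18, nat_lit 19, nat_lit 2, nat_lit 4] F_P) pcQe) 4560 := ⟨pcQl0_h, pcQl0_e⟩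
theorem pcQl1_e : ∀ i < 15, (dent pcQl1 (wdsP (rl [nat_lit 9, nat_lit 10, nat_lit 15, nat_lit 16, nat_lit 17, nat_lit 18, nat_lit 19, nat_lit 2, nat_lit 4] F_P) pcQe) (nat_lit 4560)) i = 0 := allZ_sound0 pcQl1_e_0
theorem pcQl1_ok : DOK pcQl1 (wdsP (rl [nat_lit 9, nat_lit 10, nat_lit 15, nat_lit 16, nat_lit 17, nat_lit 18, nat_lit 19, nat_lit 2, nat_lit 4] F_P) pcQe) 4560 := ⟨pcQl1_h, pcQl1_e⟩
theorem pcQ_low {G Ω : Type*} [Group G] [MulAction G Ω] {g : ℕ → G} {pt : ℕ → Ω}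
    (M : Md g pt F_P 4560 40 H15.XCo1C.B 178362777600) : SLow (gi (wds (rl [9, 10, 15, 16, 17, 18, 19, 2, 4] g) pcQe)) pt 4560 [pcQl0, pcQl1] :=
  ((SLow.nil).cons pcQl1_ok (((Q_act M).mono (by decide : 9 ≤ 9)).wds pcQ_e 14) pcQ_f1).cons pcQl0_ok (((Q_act M).mono (by decide : 9 ≤ 9)).wds pcQ_e 14) pcQ_f0
theorem pcQ {G Ω : Type*} [Group G] [MulAction G Ω] {g : ℕ → G} {pt : ℕ → Ω}
    (M : Md g pt F_P 4560 40 H15.XCo1C.B 178362777600) : PC0 (rl [9, 10, 15, 16, 17, 18, 19, 2, 4] g) 9 2 ∧ Nat.card (gen (rl [9, 10, 15, 16, 17, 18, 19, 2, 4] g) 9) = 2 ^ 9 :=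
  have := M.fin
  have h := (M.sm.of_act ((Q_act M).mono (by decide : 9 ≤ 9))).pc0 (by decide) pcQ_p
  ⟨h, le_antisymm (h.card_le' le_rfl) (pcQ_c ▸ ((pcQ_low M).card_ge M.inj).trans (Subgroup.card_le_of_le
    (by rw [gen_gi]; exact gen_le.2 fun k _ => evA_mem_gen _ (nth_lt pcQ_e k))))⟩
theorem esQ {G Ω : Type*} [Group G] [MulAction G Ω] {g : ℕ → G} {pt : ℕ → Ω}
    (M : Md g pt F_P 4560 40 H15.XCo1C.B 178362777600) : ∀ a < 9, ∀ b < 9, ⁅(rl [9, 10, 15, 16, 17, 18, 19, 2, 4] g) a, (rl [9, 10, 15, 16, 17, 18, 19, 2, 4] g) b⁆ ∈ Subgroup.zpowers ((rl [9, 10, 15, 16, 17, 18, 19, 2, 4] g) 0) :=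
  H0.Fi.es_sound M (Q_act M) esQ_k
theorem ZN_act {G Ω : Type*} [Group G] [MulAction G Ω] {g : ℕ → G} {pt : ℕ → Ω}
    (M : Md g pt F_P 4560 40 H15.XCo1C.B 178362777600) : Act (rl [9, 14] g) pt (rl [nat_lit 9, nat_lit 14] F_P) 4560 2 :=
  M.act.rl (by decide)
theorem cQth_act {G Ω : Type*} [Group G] [MulAction G Ω] {g : ℕ → G} {pt : ℕ → Ω}
    (M : Md g pt F_P 4560 40 H15.XCo1C.B 178362777600) : Act (wds g cQth_W) pt cQth_P 4560 53 :=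
  M.wact cQth_lt
theorem cQtl0_e : ∀ i < 4319, (dent cQtl0 cQth_P (nat_lit 4560)) i = 0 := allZ_sound0 cQtl0_e_0
theorem cQtl0_ok : DOK cQtl0 cQth_P 4560 := ⟨cQtl0_h, cQtl0_e⟩
theorem cQtl1_e : ∀ i < 29, (dent cQtl1 cQth_P (nat_lit 4560)) i = 0 := allZ_sound0 cQtl1_e_0
theorem cQtl1_ok : DOK cQtl1 cQth_P 4560 := ⟨cQtl1_h, cQtl1_e⟩
theorem cQtl2_e : ∀ i < 27, (dent cQtl2 cQth_P (nat_lit 4560)) i = 0 := allZ_sound0 cQtl2_e_0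
theorem cQtl2_ok : DOK cQtl2 cQth_P 4560 := ⟨cQtl2_h, cQtl2_e⟩
theorem cQtl3_e : ∀ i < 23, (dent cQtl3 cQth_P (nat_lit 4560)) i = 0 := allZ_sound0 cQtl3_e_0
theorem cQtl3_ok : DOK cQtl3 cQth_P 4560 := ⟨cQtl3_h, cQtl3_e⟩
theorem cQtl4_e : ∀ i < 15, (dent cQtl4 cQth_P (nat_lit 4560)) i = 0 := allZ_sound0 cQtl4_e_0
theorem cQtl4_ok : DOK cQtl4 cQth_P 4560 := ⟨cQtl4_h, cQtl4_e⟩
theorem cQtl5_e : ∀ i < 1, (dent cQtl5 cQth_P (nat_lit 4560)) i = 0 := allZ_sound0 cQtl5_e_0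
theorem cQtl5_ok : DOK cQtl5 cQth_P 4560 := ⟨cQtl5_h, cQtl5_e⟩
theorem cQtl6_e : ∀ i < 1, (dent cQtl6 cQth_P (nat_lit 4560)) i = 0 := allZ_sound0 cQtl6_e_0
theorem cQtl6_ok : DOK cQtl6 cQth_P 4560 := ⟨cQtl6_h, cQtl6_e⟩
theorem cQtl7_e : ∀ i < 1, (dent cQtl7 cQth_P (nat_lit 4560)) i = 0 := allZ_sound0 cQtl7_e_0
theorem cQtl7_ok : DOK cQtl7 cQth_P 4560 := ⟨cQtl7_h, cQtl7_e⟩
theorem cQtl8_e : ∀ i < 1, (dent cQtl8 cQth_P (nat_lit 4560)) i = 0 := allZ_sound0 cQtl8_e_0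
theorem cQtl8_ok : DOK cQtl8 cQth_P 4560 := ⟨cQtl8_h, cQtl8_e⟩
theorem cQtl9_e : ∀ i < 1, (dent cQtl9 cQth_P (nat_lit 4560)) i = 0 := allZ_sound0 cQtl9_e_0
theorem cQtl9_ok : DOK cQtl9 cQth_P 4560 := ⟨cQtl9_h, cQtl9_e⟩
theorem cQtl10_e : ∀ i < 1, (dent cQtl10 cQth_P (nat_lit 4560)) i = 0 := allZ_sound0 cQtl10_e_0
theorem cQtl10_ok : DOK cQtl10 cQth_P 4560 := ⟨cQtl10_h, cQtl10_e⟩
theorem cQtl11_e : ∀ i < 1, (dent cQtl11 cQth_P (nat_lit 4560)) i = 0 := allZ_sound0 cQtl11_e_0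
theorem cQtl11_ok : DOK cQtl11 cQth_P 4560 := ⟨cQtl11_h, cQtl11_e⟩
theorem cQt_low {G Ω : Type*} [Group G] [MulAction G Ω] {g : ℕ → G} {pt : ℕ → Ω}
    (M : Md g pt F_P 4560 40 H15.XCo1C.B 178362777600) : SLow (gi (wds g cQth_W)) pt 4560 [cQtl0, cQtl1, cQtl2, cQtl3, cQtl4, cQtl5, cQtl6, cQtl7, cQtl8, cQtl9, cQtl10, cQtl11] :=
  ((((((((((((SLow.nil).cons cQtl11_ok (cQth_act M) cQt_f11).cons cQtl10_ok (cQth_act M) cQt_f10).cons cQtl9_ok (cQth_act M) cQt_f9).cons cQtl8_ok (cQth_act M) cQt_f8).cons cQtl7_ok (cQth_act M) cQt_f7).cons cQtl6_ok (cQth_act M) cQt_f6).cons cQtl5_ok (cQth_act M) cQt_f5).cons cQtl4_ok (cQth_act M) cQt_f4).cons cQtl3_ok (cQth_act M) cQt_f3).cons cQtl2_ok (cQth_act M) cQt_f2).cons cQtl1_ok (cQth_act M) cQt_f1).cons cQtl0_ok (cQth_act M) cQt_f0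
theorem cQt_S0 {G Ω : Type*} [Group G] [MulAction G Ω] {g : ℕ → G} {pt : ℕ → Ω}
    (M : Md g pt F_P 4560 40 H15.XCo1C.B 178362777600) : Stage ⊤ (wds g cQth_W) pt 4560 [cQtl0, cQtl1, cQtl2, cQtl3, cQtl4, cQtl5, cQtl6, cQtl7, cQtl8, cQtl9, cQtl10, cQtl11] [] :=
  M.stage (cQt_low M) cQt_c
theorem cQt_S1 {G Ω : Type*} [Group G] [MulAction G Ω] {g : ℕ → G} {pt : ℕ → Ω}
    (M : Md g pt F_P 4560 40 H15.XCo1C.B 178362777600) : Stage ⊤ (wds g cQth_W) pt 4560 [cQtl1, cQtl2, cQtl3, cQtl4, cQtl5, cQtl6, cQtl7, cQtl8, cQtl9, cQtl10, cQtl11] [cQtl0.Pt 0] :=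
  (cQt_S0 M).next
theorem cQt_S2 {G Ω : Type*} [Group G] [MulAction G Ω] {g : ℕ → G} {pt : ℕ → Ω}
    (M : Md g pt F_P 4560 40 H15.XCo1C.B 178362777600) : Stage ⊤ (wds g cQth_W) pt 4560 [cQtl2, cQtl3, cQtl4, cQtl5, cQtl6, cQtl7, cQtl8, cQtl9, cQtl10, cQtl11] [cQtl1.Pt 0, cQtl0.Pt 0] :=
  (cQt_S1 M).next
theorem cQt_S3 {G Ω : Type*} [Group G] [MulAction G Ω] {g : ℕ → G} {pt : ℕ → Ω}
    (M : Md g pt F_P 4560 40 H15.XCo1C.B 178362777600) : Stage ⊤ (wds g cQth_W) pt 4560 [cQtl3, cQtl4, cQtl5, cQtl6, cQtl7, cQtl8, cQtl9, cQtl10, cQtl11] [cQtl2.Pt 0, cQtl1.Pt 0, cQtl0.Pt 0] :=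
  (cQt_S2 M).next
theorem cQt_S4 {G Ω : Type*} [Group G] [MulAction G Ω] {g : ℕ → G} {pt : ℕ → Ω}
    (M : Md g pt F_P 4560 40 H15.XCo1C.B 178362777600) : Stage ⊤ (wds g cQth_W) pt 4560 [cQtl4, cQtl5, cQtl6, cQtl7, cQtl8, cQtl9, cQtl10, cQtl11] [cQtl3.Pt 0, cQtl2.Pt 0, cQtl1.Pt 0, cQtl0.Pt 0] :=
  (cQt_S3 M).next
theorem cQt_S5 {G Ω : Type*} [Group G] [MulAction G Ω] {g : ℕ → G} {pt : ℕ → Ω}
    (M : Md g pt F_P 4560 40 H15.XCo1C.B 178362777600) : Stage ⊤ (wds g cQth_W) pt 4560 [cQtl5, cQtl6, cQtl7, cQtl8, cQtl9, cQtl10, cQtl11] [cQtl4.Pt 0, cQtl3.Pt 0, cQtl2.Pt 0, cQtl1.Pt 0, cQtl0.Pt 0] :=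
  (cQt_S4 M).next
theorem cQt_S6 {G Ω : Type*} [Group G] [MulAction G Ω] {g : ℕ → G} {pt : ℕ → Ω}
    (M : Md g pt F_P 4560 40 H15.XCo1C.B 178362777600) : Stage ⊤ (wds g cQth_W) pt 4560 [cQtl6, cQtl7, cQtl8, cQtl9, cQtl10, cQtl11] [cQtl5.Pt 0, cQtl4.Pt 0, cQtl3.Pt 0, cQtl2.Pt 0, cQtl1.Pt 0, cQtl0.Pt 0] :=
  (cQt_S5 M).next
theorem cQt_S7 {G Ω : Type*} [Group G] [MulAction G Ω] {g : ℕ → G} {pt : ℕ → Ω}
    (M : Md g pt F_P 4560 40 H15.XCo1C.B 178362777600) : Stage ⊤ (wds g cQth_W) pt 4560 [cQtl7, cQtl8, cQtl9, cQtl10, cQtl11] [cQtl6.Pt 0, cQtl5.Pt 0, cQtl4.Pt 0, cQtl3.Pt 0, cQtl2.Pt 0, cQtl1.Pt 0, cQtl0.Pt 0] :=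
  (cQt_S6 M).next
theorem cQt_S8 {G Ω : Type*} [Group G] [MulAction G Ω] {g : ℕ → G} {pt : ℕ → Ω}
    (M : Md g pt F_P 4560 40 H15.XCo1C.B 178362777600) : Stage ⊤ (wds g cQth_W) pt 4560 [cQtl8, cQtl9, cQtl10, cQtl11] [cQtl7.Pt 0, cQtl6.Pt 0, cQtl5.Pt 0, cQtl4.Pt 0, cQtl3.Pt 0, cQtl2.Pt 0, cQtl1.Pt 0, cQtl0.Pt 0] :=
  (cQt_S7 M).next
theorem cQt_S9 {G Ω : Type*} [Group G] [MulAction G Ω] {g : ℕ → G} {pt : ℕ → Ω}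
    (M : Md g pt F_P 4560 40 H15.XCo1C.B 178362777600) : Stage ⊤ (wds g cQth_W) pt 4560 [cQtl9, cQtl10, cQtl11] [cQtl8.Pt 0, cQtl7.Pt 0, cQtl6.Pt 0, cQtl5.Pt 0, cQtl4.Pt 0, cQtl3.Pt 0, cQtl2.Pt 0, cQtl1.Pt 0, cQtl0.Pt 0] :=
  (cQt_S8 M).next
theorem cQt_S10 {G Ω : Type*} [Group G] [MulAction G Ω] {g : ℕ → G} {pt : ℕ → Ω}
    (M : Md g pt F_P 4560 40 H15.XCo1C.B 178362777600) : Stage ⊤ (wds g cQth_W) pt 4560 [cQtl10, cQtl11] [cQtl9.Pt 0, cQtl8.Pt 0, cQtl7.Pt 0, cQtl6.Pt 0, cQtl5.Pt 0, cQtl4.Pt 0, cQtl3.Pt 0, cQtl2.Pt 0, cQtl1.Pt 0, cQtl0.Pt 0] :=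
  (cQt_S9 M).next
theorem cQt_S11 {G Ω : Type*} [Group G] [MulAction G Ω] {g : ℕ → G} {pt : ℕ → Ω}
    (M : Md g pt F_P 4560 40 H15.XCo1C.B 178362777600) : Stage ⊤ (wds g cQth_W) pt 4560 [cQtl11] [cQtl10.Pt 0, cQtl9.Pt 0, cQtl8.Pt 0, cQtl7.Pt 0, cQtl6.Pt 0, cQtl5.Pt 0, cQtl4.Pt 0, cQtl3.Pt 0, cQtl2.Pt 0, cQtl1.Pt 0, cQtl0.Pt 0] :=
  (cQt_S10 M).next
theorem cQt_S12 {G Ω : Type*} [Group G] [MulAction G Ω] {g : ℕ → G} {pt : ℕ → Ω}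
    (M : Md g pt F_P 4560 40 H15.XCo1C.B 178362777600) : Stage ⊤ (wds g cQth_W) pt 4560 [] [cQtl11.Pt 0, cQtl10.Pt 0, cQtl9.Pt 0, cQtl8.Pt 0, cQtl7.Pt 0, cQtl6.Pt 0, cQtl5.Pt 0, cQtl4.Pt 0, cQtl3.Pt 0, cQtl2.Pt 0, cQtl1.Pt 0, cQtl0.Pt 0] :=
  (cQt_S11 M).next
theorem cQe_act {G Ω : Type*} [Group G] [MulAction G Ω] {g : ℕ → G} {pt : ℕ → Ω}
    (M : Md g pt F_P 4560 40 H15.XCo1C.B 178362777600) : Act (wds g cQe_W) pt cQe_P 4560 2 :=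
  M.wact cQe_lt
theorem cQc11_e : ∀ i < 1, (dent cQc11 cQe_P (nat_lit 4560)) i = 0 := allZ_sound0 cQc11_e_0
theorem cQc11_ok : DOK cQc11 cQe_P 4560 := ⟨cQc11_h, cQc11_e⟩
theorem cQtn0_1 : ∀ i < 2, (cQtn0.ent F_P cQth_P (rl [nat_lit 9, nat_lit 10, nat_lit 15, nat_lit 16, nat_lit 17, nat_lit 18, nat_lit 19, nat_lit 2, nat_lit 4] F_P) (rl [nat_lit 9, nat_lit 10, nat_lit 15, nat_lit 16, nat_lit 17, nat_lit 18, nat_lit 19, nat_lit 2, nat_lit 4] F_P) cQe_P (nat_lit 40) (nat_lit 9) H15.XCo1C.B cQtl11 [] (memO cQc11)) i = 0 := allZ_sound0 cQtn0_1_0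
theorem cQtn0_t {G Ω : Type*} [Group G] [MulAction G Ω] {g : ℕ → G} {pt : ℕ → Ω}
    (M : Md g pt F_P 4560 40 H15.XCo1C.B 178362777600) : TrO (gen (wds g cQth_W) cQtl11.K) (rl [9, 10, 15, 16, 17, 18, 19, 2, 4] g) (rl [9, 10, 15, 16, 17, 18, 19, 2, 4] g) 9 pt 4560 (cQtl11.Pt 0) (memO cQc11) :=
  node M (cQt_S11 M) (cQth_act M) (Q_act M) (Q_act M) cQtn0 ((cQe_act M).mono (by decide)) (fun _ _ => trivial) cQtn0_0 cQtn0_1 (List.forall_mem_nil _)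
theorem cQc0_e : ∀ i < 1, (dent cQc0 cQe_P (nat_lit 4560)) i = 0 := allZ_sound0 cQc0_e_0
theorem cQc0_ok : DOK cQc0 cQe_P 4560 := ⟨cQc0_h, cQc0_e⟩
theorem cQtn1_1 : ∀ i < 4320, (cQtn1.ent F_P cQth_P (rl [nat_lit 9, nat_lit 10, nat_lit 15, nat_lit 16, nat_lit 17, nat_lit 18, nat_lit 19, nat_lit 2, nat_lit 4] F_P) (rl [nat_lit 9, nat_lit 10, nat_lit 15, nat_lit 16, nat_lit 17, nat_lit 18, nat_lit 19, nat_lit 2, nat_lit 4] F_P) cQe_P (nat_lit 40) (nat_lit 9) H15.XCo1C.B cQtl0 [cQtl1, cQtl2, cQtl3, cQtl4, cQtl5, cQtl6, cQtl7, cQtl8, cQtl9, cQtl10, cQtl11] (memO cQc0)) i = 0 := allZ_sound0 cQtn1_1_0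
theorem cQtn1_t {G Ω : Type*} [Group G] [MulAction G Ω] {g : ℕ → G} {pt : ℕ → Ω}
    (M : Md g pt F_P 4560 40 H15.XCo1C.B 178362777600) : TrO (gen (wds g cQth_W) cQtl0.K) (rl [9, 10, 15, 16, 17, 18, 19, 2, 4] g) (rl [9, 10, 15, 16, 17, 18, 19, 2, 4] g) 9 pt 4560 (cQtl0.Pt 0) (memO cQc0) :=
  node M (cQt_S0 M) (cQth_act M) (Q_act M) (Q_act M) cQtn1 ((cQe_act M).mono (by decide)) (fun _ _ => trivial) cQtn1_0 cQtn1_1 (List.forall_mem_nil _)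
theorem cQ {G Ω : Type*} [Group G] [MulAction G Ω] {g : ℕ → G} {pt : ℕ → Ω}
    (M : Md g pt F_P 4560 40 H15.XCo1C.B 178362777600) : Cen ⊤ (rl [9, 10, 15, 16, 17, 18, 19, 2, 4] g) 9 (wds g cQe_W) pt 4560 [cQc0, cQc11] :=
  (cQt_S0 M).top ▸ Cen.lev M (cQt_S0 M) (Cen.triv (cQt_S1 M) (Cen.triv (cQt_S2 M) (Cen.triv (cQt_S3 M) (Cen.triv (cQt_S4 M) (Cen.triv (cQt_S5 M) (Cen.triv (cQt_S6 M) (Cen.triv (cQt_S7 M) (Cen.triv (cQt_S8 M) (Cen.triv (cQt_S9 M) (Cen.triv (cQt_S10 M) (Cen.lev M (cQt_S11 M) (Cen.bot) (cQtn0_t M) (Q_act M) (cQe_act M) (fun _ _ => trivial) cQc11_ok cQ_f11) (forced (cQt_S10 M) (cQth_act M) (Q_act M) _ _ cQ_f10)) (forced (cQt_S9 M) (cQth_act M) (Q_act M) _ _ cQ_f9)) (forced (cQt_S8 M) (cQth_act M) (Q_act M) _ _ cQ_f8)) (forced (cQt_S7 M) (cQth_act M) (Q_act M) _ _ cQ_f7)) (forced (cQt_S6 M)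 (cQth_act M) (Q_act M) _ _ cQ_f6)) (forced (cQt_S5 M) (cQth_act M) (Q_act M) _ _ cQ_f5)) (forced (cQt_S4 M) (cQth_act M) (Q_act M) _ _ cQ_f4)) (forced (cQt_S3 M) (cQth_act M) (Q_act M) _ _ cQ_f3)) (forced (cQt_S2 M) (cQth_act M) (Q_act M) _ _ cQ_f2)) (forced (cQt_S1 M) (cQth_act M) (Q_act M) _ _ cQ_f1)) (cQtn1_t M) (Q_act M) (cQe_act M) (fun _ _ => trivial) cQc0_ok cQ_f0
theorem cQ_eq {G Ω : Type*} [Group G] [MulAction G Ω] {g : ℕ → G} {pt : ℕ → Ω}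
    (M : Md g pt F_P 4560 40 H15.XCo1C.B 178362777600) : Subgroup.centralizer (gen (rl [9, 10, 15, 16, 17, 18, 19, 2, 4] g) 9) = gen (wds g cQe_W) 2 ∧ Nat.card (gen (wds g cQe_W) 2) = 4 :=
  cQ_c.1 ▸ cQ_c.2 ▸ ⟨(cQ M).cent, (cQ M).card M.inj⟩
theorem cQ_le {G Ω : Type*} [Group G] [MulAction G Ω] {g : ℕ → G} {pt : ℕ → Ω}
    (M : Md g pt F_P 4560 40 H15.XCo1C.B 178362777600) : gen (wds g cQe_W) 2 ≤ gen (rl [9, 14] g) 2 :=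
  M.gen_le (ZN_act M) (cQe_act M) cQ_le_k
theorem nQ {G Ω : Type*} [Group G] [MulAction G Ω] {g : ℕ → G} {pt : ℕ → Ω}
    (M : Md g pt F_P 4560 40 H15.XCo1C.B 178362777600) : gen (rl [20, 21, 22, 23, 24, 25, 26, 27, 28, 29] g) 10 ≤ Subgroup.normalizer (gen (rl [9, 10, 15, 16, 17, 18, 19, 2, 4] g) 9 : Set G) :=
  H0.Fi.norm_all M (Q_act M) (O_act M) nQ_k
theorem orbQ_e : ∀ i < 512, (H0.Fi.orbEnt (rl [nat_lit 9, nat_lit 10, nat_lit 15, nat_lit 16, nat_lit 17, nat_lit 18, nat_lit 19, nat_lit 2, nat_lit 4] F_P) (rl [nat_lit 20, nat_lit 21, nat_lit 22, nat_lit 23, nat_lit 24, nat_lit 25, nat_lit 26, nat_lit 27, nat_lit 28, nat_lit 29] F_P) (nat_lit 2) (nat_lit 9) (nat_lit 10) H15.XCo1C.B orbQD orbQL orbQr orbQq orbQR) i = 0 := range_glue (range_glue (allZ_sound0 orbQ_e_0) orbQ_e_1) orbQ_e_2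
theorem orbQ {G Ω : Type*} [Group G] [MulAction G Ω] {g : ℕ → G} {pt : ℕ → Ω}
    (M : Md g pt F_P 4560 40 H15.XCo1C.B 178362777600) : ∀ c < 2 ^ 9, c ≠ 0 → ∃ a ∈ gen (rl [20, 21, 22, 23, 24, 25, 26, 27, 28, 29] g) 10,
      a * evA (rl [9, 10, 15, 16, 17, 18, 19, 2, 4] g) (H0.Fi.digW 2 0 9 c) * a⁻¹ = evA (rl [9, 10, 15, 16, 17, 18, 19, 2, 4] g) (H0.Fi.digW 2 0 9 (nth 0 orbQR (orbQq c))) :=
  H0.Fi.orb_sound M (Q_act M) (O_act M) orbQ_e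
theorem nnQ {G Ω : Type*} [Group G] [MulAction G Ω] {g : ℕ → G} {pt : ℕ → Ω}
    (M : Md g pt F_P 4560 40 H15.XCo1C.B 178362777600) : evA g [14] ∉ gen (rl [9, 10, 15, 16, 17, 18, 19, 2, 4] g) 9 :=
  not_mem_of_fix (Q_act M) M.act M.inj _ nQ_f
theorem gO {G Ω : Type*} [Group G] [MulAction G Ω] {g : ℕ → G} {pt : ℕ → Ω}
    (M : Md g pt F_P 4560 40 H15.XCo1C.B 178362777600) : gen g 40 ≤ gen (rl [20, 21, 22, 23, 24, 25, 26, 27, 28, 29] g) 10 :=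
  M.gen_le (O_act M) M.act gO_k
theorem OO2 {G Ω : Type*} [Group G] [MulAction G Ω] {g : ℕ → G} {pt : ℕ → Ω}
    (M : Md g pt F_P 4560 40 H15.XCo1C.B 178362777600) : gen (rl [20, 21, 22, 23, 24, 25, 26, 27, 28, 29] g) 10 ≤ gen (rl [20, 21, 22, 23, 24, 25, 26, 27, 30, 31] g) 10 :=
  M.gen_le (O2_act M) (O_act M) OO2_k
theorem OH {G Ω : Type*} [Group G] [MulAction G Ω] {g : ℕ → G} {pt : ℕ → Ω}
    (M : Md g pt F_P 4560 40 H15.XCo1C.B 178362777600) : gen (rl [20, 21, 22, 23, 24, 25, 26, 27, 28, 29] g) 10 ≤ gen (rl [0, 1, 2, 3, 4, 5, 6, 7, 9, 10, 11, 12] g) 12 :=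
  M.gen_le (HH_act M) (O_act M) OH_k
theorem SB_act {G Ω : Type*} [Group G] [MulAction G Ω] {g : ℕ → G} {pt : ℕ → Ω}
    (M : Md g pt F_P 4560 40 H15.XCo1C.B 178362777600) : Act (rl [10, 20] g) pt (rl [nat_lit 10, nat_lit 20] F_P) 4560 2 :=
  M.act.rl (by decide)
theorem BZS_act {G Ω : Type*} [Group G] [MulAction G Ω] {g : ℕ → G} {pt : ℕ → Ω}
    (M : Md g pt F_P 4560 40 H15.XCo1C.B 178362777600) : Act (rl [20, 9, 10, 14] g) pt (rl [nat_lit 20, nat_lit 9, nat_lit 10, nat_lit 14] F_P) 4560 4 :=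
  M.act.rl (by decide)
theorem cZSBth_act {G Ω : Type*} [Group G] [MulAction G Ω] {g : ℕ → G} {pt : ℕ → Ω}
    (M : Md g pt F_P 4560 40 H15.XCo1C.B 178362777600) : Act (wds g cZSBth_W) pt cZSBth_P 4560 50 :=
  M.wact cZSBth_lt
theorem cZSBtl0_e : ∀ i < 239, (dent cZSBtl0 cZSBth_P (nat_lit 4560)) i = 0 := allZ_sound0 cZSBtl0_e_0
theorem cZSBtl0_ok : DOK cZSBtl0 cZSBth_P 4560 := ⟨cZSBtl0_h, cZSBtl0_e⟩
theorem cZSBtl1_e : ∀ i < 55, (dent cZSBtl1 cZSBth_P (nat_lit 4560)) i = 0 := allZ_sound0 cZSBtl1_e_0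
theorem cZSBtl1_ok : DOK cZSBtl1 cZSBth_P 4560 := ⟨cZSBtl1_h, cZSBtl1_e⟩
theorem cZSBtl2_e : ∀ i < 26, (dent cZSBtl2 cZSBth_P (nat_lit 4560)) i = 0 := allZ_sound0 cZSBtl2_e_0
theorem cZSBtl2_ok : DOK cZSBtl2 cZSBth_P 4560 := ⟨cZSBtl2_h, cZSBtl2_e⟩
theorem cZSBtl3_e : ∀ i < 9, (dent cZSBtl3 cZSBth_P (nat_lit 4560)) i = 0 := allZ_sound0 cZSBtl3_e_0
theorem cZSBtl3_ok : DOK cZSBtl3 cZSBth_P 4560 := ⟨cZSBtl3_h, cZSBtl3_e⟩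
theorem cZSBtl4_e : ∀ i < 7, (dent cZSBtl4 cZSBth_P (nat_lit 4560)) i = 0 := allZ_sound0 cZSBtl4_e_0
theorem cZSBtl4_ok : DOK cZSBtl4 cZSBth_P 4560 := ⟨cZSBtl4_h, cZSBtl4_e⟩
theorem cZSBtl5_e : ∀ i < 3, (dent cZSBtl5 cZSBth_P (nat_lit 4560)) i = 0 := allZ_sound0 cZSBtl5_e_0
theorem cZSBtl5_ok : DOK cZSBtl5 cZSBth_P 4560 := ⟨cZSBtl5_h, cZSBtl5_e⟩
theorem cZSBtl6_e : ∀ i < 2, (dent cZSBtl6 cZSBth_P (nat_lit 4560)) i = 0 := allZ_sound0 cZSBtl6_e_0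
theorem cZSBtl6_ok : DOK cZSBtl6 cZSBth_P 4560 := ⟨cZSBtl6_h, cZSBtl6_e⟩
theorem cZSBtl7_e : ∀ i < 31, (dent cZSBtl7 cZSBth_P (nat_lit 4560)) i = 0 := allZ_sound0 cZSBtl7_e_0
theorem cZSBtl7_ok : DOK cZSBtl7 cZSBth_P 4560 := ⟨cZSBtl7_h, cZSBtl7_e⟩
theorem cZSBtl8_e : ∀ i < 1, (dent cZSBtl8 cZSBth_P (nat_lit 4560)) i = 0 := allZ_sound0 cZSBtl8_e_0
theorem cZSBtl8_ok : DOK cZSBtl8 cZSBth_P 4560 := ⟨cZSBtl8_h, cZSBtl8_e⟩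
theorem cZSBtl9_e : ∀ i < 1, (dent cZSBtl9 cZSBth_P (nat_lit 4560)) i = 0 := allZ_sound0 cZSBtl9_e_0
theorem cZSBtl9_ok : DOK cZSBtl9 cZSBth_P 4560 := ⟨cZSBtl9_h, cZSBtl9_e⟩
theorem cZSBtl10_e : ∀ i < 1, (dent cZSBtl10 cZSBth_P (nat_lit 4560)) i = 0 := allZ_sound0 cZSBtl10_e_0
theorem cZSBtl10_ok : DOK cZSBtl10 cZSBth_P 4560 := ⟨cZSBtl10_h, cZSBtl10_e⟩
theorem cZSBtl11_e : ∀ i < 1, (dent cZSBtl11 cZSBth_P (nat_lit 4560)) i = 0 := allZ_sound0 cZSBtl11_e_0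
theorem cZSBtl11_ok : DOK cZSBtl11 cZSBth_P 4560 := ⟨cZSBtl11_h, cZSBtl11_e⟩
theorem cZSBt_low {G Ω : Type*} [Group G] [MulAction G Ω] {g : ℕ → G} {pt : ℕ → Ω}
    (M : Md g pt F_P 4560 40 H15.XCo1C.B 178362777600) : SLow (gi (wds g cZSBth_W)) pt 4560 [cZSBtl0, cZSBtl1, cZSBtl2, cZSBtl3, cZSBtl4, cZSBtl5, cZSBtl6, cZSBtl7, cZSBtl8, cZSBtl9, cZSBtl10, cZSBtl11] :=
  ((((((((((((SLow.nil).cons cZSBtl11_ok (cZSBth_act M) cZSBt_f11).cons cZSBtl10_ok (cZSBth_act M) cZSBt_f10).cons cZSBtl9_ok (cZSBth_act M) cZSBt_f9).cons cZSBtl8_ok (cZSBth_act M) cZSBt_f8).cons cZSBtl7_ok (cZSBth_act M) cZSBt_f7).cons cZSBtl6_ok (cZSBth_act M) cZSBt_f6).cons cZSBtl5_ok (cZSBth_act M) cZSBt_f5).cons cZSBtl4_ok (cZSBth_act M) cZSBt_f4).cons cZSBtl3_ok (cZSBth_act M) cZSBt_f3).cons cZSBtl2_ok (cZSBth_act M) cZSBt_f2).cons cZSBtl1_ok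 (cZSBth_act M) cZSBt_f1).cons cZSBtl0_ok (cZSBth_act M) cZSBt_f0
theorem cZSBt_S0 {G Ω : Type*} [Group G] [MulAction G Ω] {g : ℕ → G} {pt : ℕ → Ω}
    (M : Md g pt F_P 4560 40 H15.XCo1C.B 178362777600) : Stage ⊤ (wds g cZSBth_W) pt 4560 [cZSBtl0, cZSBtl1, cZSBtl2, cZSBtl3, cZSBtl4, cZSBtl5, cZSBtl6, cZSBtl7, cZSBtl8, cZSBtl9, cZSBtl10, cZSBtl11] [] :=
  M.stage (cZSBt_low M) cZSBt_c
theorem cZSBt_S1 {G Ω : Type*} [Group G] [MulAction G Ω] {g : ℕ → G} {pt : ℕ → Ω}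
    (M : Md g pt F_P 4560 40 H15.XCo1C.B 178362777600) : Stage ⊤ (wds g cZSBth_W) pt 4560 [cZSBtl1, cZSBtl2, cZSBtl3, cZSBtl4, cZSBtl5, cZSBtl6, cZSBtl7, cZSBtl8, cZSBtl9, cZSBtl10, cZSBtl11] [cZSBtl0.Pt 0] :=
  (cZSBt_S0 M).next
theorem cZSBt_S2 {G Ω : Type*} [Group G] [MulAction G Ω] {g : ℕ → G} {pt : ℕ → Ω}
    (M : Md g pt F_P 4560 40 H15.XCo1C.B 178362777600) : Stage ⊤ (wds g cZSBth_W) pt 4560 [cZSBtl2, cZSBtl3, cZSBtl4, cZSBtl5, cZSBtl6, cZSBtl7, cZSBtl8, cZSBtl9, cZSBtl10, cZSBtl11] [cZSBtl1.Pt 0, cZSBtl0.Pt 0] :=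
  (cZSBt_S1 M).next
theorem cZSBt_S3 {G Ω : Type*} [Group G] [MulAction G Ω] {g : ℕ → G} {pt : ℕ → Ω}
    (M : Md g pt F_P 4560 40 H15.XCo1C.B 178362777600) : Stage ⊤ (wds g cZSBth_W) pt 4560 [cZSBtl3, cZSBtl4, cZSBtl5, cZSBtl6, cZSBtl7, cZSBtl8, cZSBtl9, cZSBtl10, cZSBtl11] [cZSBtl2.Pt 0, cZSBtl1.Pt 0, cZSBtl0.Pt 0] :=
  (cZSBt_S2 M).next
theorem cZSBt_S4 {G Ω : Type*} [Group G] [MulAction G Ω] {g : ℕ → G} {pt : ℕ → Ω}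
    (M : Md g pt F_P 4560 40 H15.XCo1C.B 178362777600) : Stage ⊤ (wds g cZSBth_W) pt 4560 [cZSBtl4, cZSBtl5, cZSBtl6, cZSBtl7, cZSBtl8, cZSBtl9, cZSBtl10, cZSBtl11] [cZSBtl3.Pt 0, cZSBtl2.Pt 0, cZSBtl1.Pt 0, cZSBtl0.Pt 0] :=
  (cZSBt_S3 M).next
theorem cZSBt_S5 {G Ω : Type*} [Group G] [MulAction G Ω] {g : ℕ → G} {pt : ℕ → Ω}
    (M : Md g pt F_P 4560 40 H15.XCo1C.B 178362777600) : Stage ⊤ (wds g cZSBth_W) pt 4560 [cZSBtl5, cZSBtl6, cZSBtl7, cZSBtl8, cZSBtl9, cZSBtl10, cZSBtl11] [cZSBtl4.Pt 0, cZSBtl3.Pt 0, cZSBtl2.Pt 0, cZSBtl1.Pt 0, cZSBtl0.Pt 0] :=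
  (cZSBt_S4 M).next
theorem cZSBt_S6 {G Ω : Type*} [Group G] [MulAction G Ω] {g : ℕ → G} {pt : ℕ → Ω}
    (M : Md g pt F_P 4560 40 H15.XCo1C.B 178362777600) : Stage ⊤ (wds g cZSBth_W) pt 4560 [cZSBtl6, cZSBtl7, cZSBtl8, cZSBtl9, cZSBtl10, cZSBtl11] [cZSBtl5.Pt 0, cZSBtl4.Pt 0, cZSBtl3.Pt 0, cZSBtl2.Pt 0, cZSBtl1.Pt 0, cZSBtl0.Pt 0] :=
  (cZSBt_S5 M).next
theorem cZSBt_S7 {G Ω : Type*} [Group G] [MulAction G Ω] {g : ℕ → G} {pt : ℕ → Ω}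
    (M : Md g pt F_P 4560 40 H15.XCo1C.B 178362777600) : Stage ⊤ (wds g cZSBth_W) pt 4560 [cZSBtl7, cZSBtl8, cZSBtl9, cZSBtl10, cZSBtl11] [cZSBtl6.Pt 0, cZSBtl5.Pt 0, cZSBtl4.Pt 0, cZSBtl3.Pt 0, cZSBtl2.Pt 0, cZSBtl1.Pt 0, cZSBtl0.Pt 0] :=
  (cZSBt_S6 M).next
theorem cZSBt_S8 {G Ω : Type*} [Group G] [MulAction G Ω] {g : ℕ → G} {pt : ℕ → Ω}
    (M : Md g pt F_P 4560 40 H15.XCo1C.B 178362777600) : Stage ⊤ (wds g cZSBth_W) pt 4560 [cZSBtl8, cZSBtl9, cZSBtl10, cZSBtl11] [cZSBtl7.Pt 0, cZSBtl6.Pt 0, cZSBtl5.Pt 0, cZSBtl4.Pt 0, cZSBtl3.Pt 0, cZSBtl2.Pt 0, cZSBtl1.Pt 0, cZSBtl0.Pt 0] :=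
  (cZSBt_S7 M).next
theorem cZSBt_S9 {G Ω : Type*} [Group G] [MulAction G Ω] {g : ℕ → G} {pt : ℕ → Ω}
    (M : Md g pt F_P 4560 40 H15.XCo1C.B 178362777600) : Stage ⊤ (wds g cZSBth_W) pt 4560 [cZSBtl9, cZSBtl10, cZSBtl11] [cZSBtl8.Pt 0, cZSBtl7.Pt 0, cZSBtl6.Pt 0, cZSBtl5.Pt 0, cZSBtl4.Pt 0, cZSBtl3.Pt 0, cZSBtl2.Pt 0, cZSBtl1.Pt 0, cZSBtl0.Pt 0] :=
  (cZSBt_S8 M).next
theorem cZSBt_S10 {G Ω : Type*} [Group G] [MulAction G Ω] {g : ℕ → G} {pt : ℕ → Ω}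
    (M : Md g pt F_P 4560 40 H15.XCo1C.B 178362777600) : Stage ⊤ (wds g cZSBth_W) pt 4560 [cZSBtl10, cZSBtl11] [cZSBtl9.Pt 0, cZSBtl8.Pt 0, cZSBtl7.Pt 0, cZSBtl6.Pt 0, cZSBtl5.Pt 0, cZSBtl4.Pt 0, cZSBtl3.Pt 0, cZSBtl2.Pt 0, cZSBtl1.Pt 0, cZSBtl0.Pt 0] :=
  (cZSBt_S9 M).next
theorem cZSBt_S11 {G Ω : Type*} [Group G] [MulAction G Ω] {g : ℕ → G} {pt : ℕ → Ω}
    (M : Md g pt F_P 4560 40 H15.XCo1C.B 178362777600) : Stage ⊤ (wds g cZSBth_W) pt 4560 [cZSBtl11] [cZSBtl10.Pt 0, cZSBtl9.Pt 0, cZSBtl8.Pt 0, cZSBtl7.Pt 0, cZSBtl6.Pt 0, cZSBtl5.Pt 0, cZSBtl4.Pt 0, cZSBtl3.Pt 0, cZSBtl2.Pt 0, cZSBtl1.Pt 0, cZSBtl0.Pt 0] :=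
  (cZSBt_S10 M).next
theorem cZSBt_S12 {G Ω : Type*} [Group G] [MulAction G Ω] {g : ℕ → G} {pt : ℕ → Ω}
    (M : Md g pt F_P 4560 40 H15.XCo1C.B 178362777600) : Stage ⊤ (wds g cZSBth_W) pt 4560 [] [cZSBtl11.Pt 0, cZSBtl10.Pt 0, cZSBtl9.Pt 0, cZSBtl8.Pt 0, cZSBtl7.Pt 0, cZSBtl6.Pt 0, cZSBtl5.Pt 0, cZSBtl4.Pt 0, cZSBtl3.Pt 0, cZSBtl2.Pt 0, cZSBtl1.Pt 0, cZSBtl0.Pt 0] :=
  (cZSBt_S11 M).next
theorem cZSBe_act {G Ω : Type*} [Group G] [MulAction G Ω] {g : ℕ → G} {pt : ℕ → Ω}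
    (M : Md g pt F_P 4560 40 H15.XCo1C.B 178362777600) : Act (wds g cZSBe_W) pt cZSBe_P 4560 4 :=
  M.wact cZSBe_lt
theorem cZSBc11_e : ∀ i < 1, (dent cZSBc11 cZSBe_P (nat_lit 4560)) i = 0 := allZ_sound0 cZSBc11_e_0
theorem cZSBc11_ok : DOK cZSBc11 cZSBe_P 4560 := ⟨cZSBc11_h, cZSBc11_e⟩
theorem cZSBtn0_1 : ∀ i < 2, (cZSBtn0.ent F_P cZSBth_P (rl [nat_lit 10, nat_lit 20] F_P) (rl [nat_lit 10, nat_lit 20] F_P) cZSBe_P (nat_lit 40) (nat_lit 2) H15.XCo1C.B cZSBtl11 [] (memO cZSBc11)) i = 0 := allZ_sound0 cZSBtn0_1_0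
theorem cZSBtn0_t {G Ω : Type*} [Group G] [MulAction G Ω] {g : ℕ → G} {pt : ℕ → Ω}
    (M : Md g pt F_P 4560 40 H15.XCo1C.B 178362777600) : TrO (gen (wds g cZSBth_W) cZSBtl11.K) (rl [10, 20] g) (rl [10, 20] g) 2 pt 4560 (cZSBtl11.Pt 0) (memO cZSBc11) :=
  node M (cZSBt_S11 M) (cZSBth_act M) (SB_act M) (SB_act M) cZSBtn0 ((cZSBe_act M).mono (by decide)) (fun _ _ => trivial) cZSBtn0_0 cZSBtn0_1 (List.forall_mem_nil _)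
theorem cZSBc7_e : ∀ i < 1, (dent cZSBc7 cZSBe_P (nat_lit 4560)) i = 0 := allZ_sound0 cZSBc7_e_0
theorem cZSBc7_ok : DOK cZSBc7 cZSBe_P 4560 := ⟨cZSBc7_h, cZSBc7_e⟩
theorem cZSBtn1_1 : ∀ i < 32, (cZSBtn1.ent F_P cZSBth_P (rl [nat_lit 10, nat_lit 20] F_P) (rl [nat_lit 10, nat_lit 20] F_P) cZSBe_P (nat_lit 40) (nat_lit 2) H15.XCo1C.B cZSBtl7 [cZSBtl8, cZSBtl9, cZSBtl10, cZSBtl11] (memO cZSBc7)) i = 0 := allZ_sound0 cZSBtn1_1_0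
theorem cZSBtn1_t {G Ω : Type*} [Group G] [MulAction G Ω] {g : ℕ → G} {pt : ℕ → Ω}
    (M : Md g pt F_P 4560 40 H15.XCo1C.B 178362777600) : TrO (gen (wds g cZSBth_W) cZSBtl7.K) (rl [10, 20] g) (rl [10, 20] g) 2 pt 4560 (cZSBtl7.Pt 0) (memO cZSBc7) :=
  node M (cZSBt_S7 M) (cZSBth_act M) (SB_act M) (SB_act M) cZSBtn1 ((cZSBe_act M).mono (by decide)) (fun _ _ => trivial) cZSBtn1_0 cZSBtn1_1 (List.forall_mem_nil _)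
theorem cZSBc1_e : ∀ i < 6, (dent cZSBc1 cZSBe_P (nat_lit 4560)) i = 0 := allZ_sound0 cZSBc1_e_0
theorem cZSBc1_ok : DOK cZSBc1 cZSBe_P 4560 := ⟨cZSBc1_h, cZSBc1_e⟩
theorem cZSBtn2_1 : ∀ i < 56, (cZSBtn2.ent F_P cZSBth_P (rl [nat_lit 10, nat_lit 20] F_P) (rl [nat_lit 10, nat_lit 20] F_P) cZSBe_P (nat_lit 40) (nat_lit 2) H15.XCo1C.B cZSBtl1 [cZSBtl2, cZSBtl3, cZSBtl4, cZSBtl5, cZSBtl6, cZSBtl7, cZSBtl8, cZSBtl9, cZSBtl10, cZSBtl11] (memO cZSBc1)) i = 0 := allZ_sound0 cZSBtn2_1_0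
theorem cZSBtn2_t {G Ω : Type*} [Group G] [MulAction G Ω] {g : ℕ → G} {pt : ℕ → Ω}
    (M : Md g pt F_P 4560 40 H15.XCo1C.B 178362777600) : TrO (gen (wds g cZSBth_W) cZSBtl1.K) (rl [10, 20] g) (rl [10, 20] g) 2 pt 4560 (cZSBtl1.Pt 0) (memO cZSBc1) :=
  node M (cZSBt_S1 M) (cZSBth_act M) (SB_act M) (SB_act M) cZSBtn2 ((cZSBe_act M).mono (by decide)) (fun _ _ => trivial) cZSBtn2_0 cZSBtn2_1 (List.forall_mem_nil _)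
theorem cZSBc0_e : ∀ i < 1, (dent cZSBc0 cZSBe_P (nat_lit 4560)) i = 0 := allZ_sound0 cZSBc0_e_0
theorem cZSBc0_ok : DOK cZSBc0 cZSBe_P 4560 := ⟨cZSBc0_h, cZSBc0_e⟩
theorem cZSBtn3_1 : ∀ i < 240, (cZSBtn3.ent F_P cZSBth_P (rl [nat_lit 10, nat_lit 20] F_P) (rl [nat_lit 10, nat_lit 20] F_P) cZSBe_P (nat_lit 40) (nat_lit 2) H15.XCo1C.B cZSBtl0 [cZSBtl1, cZSBtl2, cZSBtl3, cZSBtl4, cZSBtl5, cZSBtl6, cZSBtl7, cZSBtl8, cZSBtl9, cZSBtl10, cZSBtl11] (memO cZSBc0)) i = 0 := allZ_sound0 cZSBtn3_1_0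
theorem cZSBtn3_t {G Ω : Type*} [Group G] [MulAction G Ω] {g : ℕ → G} {pt : ℕ → Ω}
    (M : Md g pt F_P 4560 40 H15.XCo1C.B 178362777600) : TrO (gen (wds g cZSBth_W) cZSBtl0.K) (rl [10, 20] g) (rl [10, 20] g) 2 pt 4560 (cZSBtl0.Pt 0) (memO cZSBc0) :=
  node M (cZSBt_S0 M) (cZSBth_act M) (SB_act M) (SB_act M) cZSBtn3 ((cZSBe_act M).mono (by decide)) (fun _ _ => trivial) cZSBtn3_0 cZSBtn3_1 (List.forall_mem_nil _)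
theorem cZSB {G Ω : Type*} [Group G] [MulAction G Ω] {g : ℕ → G} {pt : ℕ → Ω}
    (M : Md g pt F_P 4560 40 H15.XCo1C.B 178362777600) : Cen ⊤ (rl [10, 20] g) 2 (wds g cZSBe_W) pt 4560 [cZSBc0, cZSBc1, cZSBc7, cZSBc11] :=
  (cZSBt_S0 M).top ▸ Cen.lev M (cZSBt_S0 M) (Cen.lev M (cZSBt_S1 M) (Cen.triv (cZSBt_S2 M) (Cen.triv (cZSBt_S3 M) (Cen.triv (cZSBt_S4 M) (Cen.triv (cZSBt_S5 M) (Cen.triv (cZSBt_S6 M) (Cen.lev M (cZSBt_S7 M) (Cen.triv (cZSBt_S8 M) (Cen.triv (cZSBt_S9 M) (Cen.triv (cZSBt_S10 M) (Cen.lev M (cZSBt_S11 M) (Cen.bot) (cZSBtn0_t M) (SB_act M) (cZSBe_act M) (fun _ _ => trivial) cZSBc11_ok cZSB_f11) (forced (cZSBt_S10 M) (cZSBth_act M) (SB_act M) _ _ cZSB_f10)) (forced (cZSBt_S9 M) (cZSBth_act M) (SB_act M) _ _ cZSB_f9)) (forced (cZSBt_S8 M) (cZSBth_act M) (SB_act M) _ _ cZSB_f8)) (cZSBtn1_t M) (SB_act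 M) (cZSBe_act M) (fun _ _ => trivial) cZSBc7_ok cZSB_f7) (forced (cZSBt_S6 M) (cZSBth_act M) (SB_act M) _ _ cZSB_f6)) (forced (cZSBt_S5 M) (cZSBth_act M) (SB_act M) _ _ cZSB_f5)) (forced (cZSBt_S4 M) (cZSBth_act M) (SB_act M) _ _ cZSB_f4)) (forced (cZSBt_S3 M) (cZSBth_act M) (SB_act M) _ _ cZSB_f3)) (forced (cZSBt_S2 M) (cZSBth_act M) (SB_act M) _ _ cZSB_f2)) (cZSBtn2_t M) (SB_act M) (cZSBe_act M) (fun _ _ => trivial) cZSBc1_ok cZSB_f1) (cZSBtn3_t M) (SB_act M) (cZSBe_act M) (fun _ _ => trivial) cZSBc0_ok cZSB_f0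
theorem cZSB_eq {G Ω : Type*} [Group G] [MulAction G Ω] {g : ℕ → G} {pt : ℕ → Ω}
    (M : Md g pt F_P 4560 40 H15.XCo1C.B 178362777600) : Subgroup.centralizer (gen (rl [10, 20] g) 2) = gen (wds g cZSBe_W) 4 ∧ Nat.card (gen (wds g cZSBe_W) 4) = 56 :=
  cZSB_c.1 ▸ cZSB_c.2 ▸ ⟨(cZSB M).cent, (cZSB M).card M.inj⟩
theorem cZSB_le {G Ω : Type*} [Group G] [MulAction G Ω] {g : ℕ → G} {pt : ℕ → Ω}
    (M : Md g pt F_P 4560 40 H15.XCo1C.B 178362777600) : gen (wds g cZSBe_W) 4 ≤ gen (rl [20, 9, 10, 14] g) 4 :=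
  M.gen_le (BZS_act M) (cZSBe_act M) cZSB_le_k
theorem SA_act {G Ω : Type*} [Group G] [MulAction G Ω] {g : ℕ → G} {pt : ℕ → Ω}
    (M : Md g pt F_P 4560 40 H15.XCo1C.B 178362777600) : Act (rl [10, 34] g) pt (rl [nat_lit 10, nat_lit 34] F_P) 4560 2 :=
  M.act.rl (by decide)
theorem cSAth_act {G Ω : Type*} [Group G] [MulAction G Ω] {g : ℕ → G} {pt : ℕ → Ω}
    (M : Md g pt F_P 4560 40 H15.XCo1C.B 178362777600) : Act (wds g cSAth_W) pt cSAth_P 4560 50 :=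
  M.wact cSAth_lt
theorem cSAtl0_e : ∀ i < 239, (dent cSAtl0 cSAth_P (nat_lit 4560)) i = 0 := allZ_sound0 cSAtl0_e_0
theorem cSAtl0_ok : DOK cSAtl0 cSAth_P 4560 := ⟨cSAtl0_h, cSAtl0_e⟩
theorem cSAtl1_e : ∀ i < 55, (dent cSAtl1 cSAth_P (nat_lit 4560)) i = 0 := allZ_sound0 cSAtl1_e_0
theorem cSAtl1_ok : DOK cSAtl1 cSAth_P 4560 := ⟨cSAtl1_h, cSAtl1_e⟩
theorem cSAtl2_e : ∀ i < 26, (dent cSAtl2 cSAth_P (nat_lit 4560)) i = 0 := allZ_sound0 cSAtl2_e_0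
theorem cSAtl2_ok : DOK cSAtl2 cSAth_P 4560 := ⟨cSAtl2_h, cSAtl2_e⟩
theorem cSAtl3_e : ∀ i < 9, (dent cSAtl3 cSAth_P (nat_lit 4560)) i = 0 := allZ_sound0 cSAtl3_e_0
theorem cSAtl3_ok : DOK cSAtl3 cSAth_P 4560 := ⟨cSAtl3_h, cSAtl3_e⟩
theorem cSAtl4_e : ∀ i < 7, (dent cSAtl4 cSAth_P (nat_lit 4560)) i = 0 := allZ_sound0 cSAtl4_e_0
theorem cSAtl4_ok : DOK cSAtl4 cSAth_P 4560 := ⟨cSAtl4_h, cSAtl4_e⟩
theorem cSAtl5_e : ∀ i < 3, (dent cSAtl5 cSAth_P (nat_lit 4560)) i = 0 := allZ_sound0 cSAtl5_e_0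
theorem cSAtl5_ok : DOK cSAtl5 cSAth_P 4560 := ⟨cSAtl5_h, cSAtl5_e⟩
theorem cSAtl6_e : ∀ i < 2, (dent cSAtl6 cSAth_P (nat_lit 4560)) i = 0 := allZ_sound0 cSAtl6_e_0
theorem cSAtl6_ok : DOK cSAtl6 cSAth_P 4560 := ⟨cSAtl6_h, cSAtl6_e⟩
theorem cSAtl7_e : ∀ i < 31, (dent cSAtl7 cSAth_P (nat_lit 4560)) i = 0 := allZ_sound0 cSAtl7_e_0
theorem cSAtl7_ok : DOK cSAtl7 cSAth_P 4560 := ⟨cSAtl7_h, cSAtl7_e⟩
theorem cSAtl8_e : ∀ i < 1, (dent cSAtl8 cSAth_P (nat_lit 4560)) i = 0 := allZ_sound0 cSAtl8_e_0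
theorem cSAtl8_ok : DOK cSAtl8 cSAth_P 4560 := ⟨cSAtl8_h, cSAtl8_e⟩
theorem cSAtl9_e : ∀ i < 1, (dent cSAtl9 cSAth_P (nat_lit 4560)) i = 0 := allZ_sound0 cSAtl9_e_0
theorem cSAtl9_ok : DOK cSAtl9 cSAth_P 4560 := ⟨cSAtl9_h, cSAtl9_e⟩
theorem cSAtl10_e : ∀ i < 1, (dent cSAtl10 cSAth_P (nat_lit 4560)) i = 0 := allZ_sound0 cSAtl10_e_0
theorem cSAtl10_ok : DOK cSAtl10 cSAth_P 4560 := ⟨cSAtl10_h, cSAtl10_e⟩
theorem cSAtl11_e : ∀ i < 1, (dent cSAtl11 cSAth_P (nat_lit 4560)) i = 0 := allZ_sound0 cSAtl11_e_0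
theorem cSAtl11_ok : DOK cSAtl11 cSAth_P 4560 := ⟨cSAtl11_h, cSAtl11_e⟩
theorem cSAt_low {G Ω : Type*} [Group G] [MulAction G Ω] {g : ℕ → G} {pt : ℕ → Ω}
    (M : Md g pt F_P 4560 40 H15.XCo1C.B 178362777600) : SLow (gi (wds g cSAth_W)) pt 4560 [cSAtl0, cSAtl1, cSAtl2, cSAtl3, cSAtl4, cSAtl5, cSAtl6, cSAtl7, cSAtl8, cSAtl9, cSAtl10, cSAtl11] :=
  ((((((((((((SLow.nil).cons cSAtl11_ok (cSAth_act M) cSAt_f11).cons cSAtl10_ok (cSAth_act M) cSAt_f10).cons cSAtl9_ok (cSAth_act M) cSAt_f9).cons cSAtl8_ok (cSAth_act M) cSAt_f8).cons cSAtl7_ok (cSAth_act M) cSAt_f7).cons cSAtl6_ok (cSAth_act M) cSAt_f6).cons cSAtl5_ok (cSAth_act M) cSAt_f5).cons cSAtl4_ok (cSAth_act M) cSAt_f4).cons cSAtl3_ok (cSAth_act M) cSAt_f3).cons cSAtl2_ok (cSAth_act M) cSAt_f2).cons cSAtl1_ok (cSAth_act M) cSAt_f1).cons cSAtl0_ok (cSAth_act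 M) cSAt_f0
theorem cSAt_S0 {G Ω : Type*} [Group G] [MulAction G Ω] {g : ℕ → G} {pt : ℕ → Ω}
    (M : Md g pt F_P 4560 40 H15.XCo1C.B 178362777600) : Stage ⊤ (wds g cSAth_W) pt 4560 [cSAtl0, cSAtl1, cSAtl2, cSAtl3, cSAtl4, cSAtl5, cSAtl6, cSAtl7, cSAtl8, cSAtl9, cSAtl10, cSAtl11] [] :=
  M.stage (cSAt_low M) cSAt_c
theorem cSAt_S1 {G Ω : Type*} [Group G] [MulAction G Ω] {g : ℕ → G} {pt : ℕ → Ω}
    (M : Md g pt F_P 4560 40 H15.XCo1C.B 178362777600) : Stage ⊤ (wds g cSAth_W) pt 4560 [cSAtl1, cSAtl2, cSAtl3, cSAtl4, cSAtl5, cSAtl6, cSAtl7, cSAtl8, cSAtl9, cSAtl10, cSAtl11] [cSAtl0.Pt 0] :=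
  (cSAt_S0 M).next
theorem cSAt_S2 {G Ω : Type*} [Group G] [MulAction G Ω] {g : ℕ → G} {pt : ℕ → Ω}
    (M : Md g pt F_P 4560 40 H15.XCo1C.B 178362777600) : Stage ⊤ (wds g cSAth_W) pt 4560 [cSAtl2, cSAtl3, cSAtl4, cSAtl5, cSAtl6, cSAtl7, cSAtl8, cSAtl9, cSAtl10, cSAtl11] [cSAtl1.Pt 0, cSAtl0.Pt 0] :=
  (cSAt_S1 M).next
theorem cSAt_S3 {G Ω : Type*} [Group G] [MulAction G Ω] {g : ℕ → G} {pt : ℕ → Ω}
    (M : Md g pt F_P 4560 40 H15.XCo1C.B 178362777600) : Stage ⊤ (wds g cSAth_W) pt 4560 [cSAtl3, cSAtl4, cSAtl5, cSAtl6, cSAtl7, cSAtl8, cSAtl9, cSAtl10, cSAtl11] [cSAtl2.Pt 0, cSAtl1.Pt 0, cSAtl0.Pt 0] :=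
  (cSAt_S2 M).next
theorem cSAt_S4 {G Ω : Type*} [Group G] [MulAction G Ω] {g : ℕ → G} {pt : ℕ → Ω}
    (M : Md g pt F_P 4560 40 H15.XCo1C.B 178362777600) : Stage ⊤ (wds g cSAth_W) pt 4560 [cSAtl4, cSAtl5, cSAtl6, cSAtl7, cSAtl8, cSAtl9, cSAtl10, cSAtl11] [cSAtl3.Pt 0, cSAtl2.Pt 0, cSAtl1.Pt 0, cSAtl0.Pt 0] :=
  (cSAt_S3 M).next
theorem cSAt_S5 {G Ω : Type*} [Group G] [MulAction G Ω] {g : ℕ → G} {pt : ℕ → Ω}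
    (M : Md g pt F_P 4560 40 H15.XCo1C.B 178362777600) : Stage ⊤ (wds g cSAth_W) pt 4560 [cSAtl5, cSAtl6, cSAtl7, cSAtl8, cSAtl9, cSAtl10, cSAtl11] [cSAtl4.Pt 0, cSAtl3.Pt 0, cSAtl2.Pt 0, cSAtl1.Pt 0, cSAtl0.Pt 0] :=
  (cSAt_S4 M).next
theorem cSAt_S6 {G Ω : Type*} [Group G] [MulAction G Ω] {g : ℕ → G} {pt : ℕ → Ω}
    (M : Md g pt F_P 4560 40 H15.XCo1C.B 178362777600) : Stage ⊤ (wds g cSAth_W) pt 4560 [cSAtl6, cSAtl7, cSAtl8, cSAtl9, cSAtl10, cSAtl11] [cSAtl5.Pt 0, cSAtl4.Pt 0, cSAtl3.Pt 0, cSAtl2.Pt 0, cSAtl1.Pt 0, cSAtl0.Pt 0] :=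
  (cSAt_S5 M).next
theorem cSAt_S7 {G Ω : Type*} [Group G] [MulAction G Ω] {g : ℕ → G} {pt : ℕ → Ω}
    (M : Md g pt F_P 4560 40 H15.XCo1C.B 178362777600) : Stage ⊤ (wds g cSAth_W) pt 4560 [cSAtl7, cSAtl8, cSAtl9, cSAtl10, cSAtl11] [cSAtl6.Pt 0, cSAtl5.Pt 0, cSAtl4.Pt 0, cSAtl3.Pt 0, cSAtl2.Pt 0, cSAtl1.Pt 0, cSAtl0.Pt 0] :=
  (cSAt_S6 M).next
theorem cSAt_S8 {G Ω : Type*} [Group G] [MulAction G Ω] {g : ℕ → G} {pt : ℕ → Ω}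
    (M : Md g pt F_P 4560 40 H15.XCo1C.B 178362777600) : Stage ⊤ (wds g cSAth_W) pt 4560 [cSAtl8, cSAtl9, cSAtl10, cSAtl11] [cSAtl7.Pt 0, cSAtl6.Pt 0, cSAtl5.Pt 0, cSAtl4.Pt 0, cSAtl3.Pt 0, cSAtl2.Pt 0, cSAtl1.Pt 0, cSAtl0.Pt 0] :=
  (cSAt_S7 M).next
theorem cSAt_S9 {G Ω : Type*} [Group G] [MulAction G Ω] {g : ℕ → G} {pt : ℕ → Ω}
    (M : Md g pt F_P 4560 40 H15.XCo1C.B 178362777600) : Stage ⊤ (wds g cSAth_W) pt 4560 [cSAtl9, cSAtl10, cSAtl11] [cSAtl8.Pt 0, cSAtl7.Pt 0, cSAtl6.Pt 0, cSAtl5.Pt 0, cSAtl4.Pt 0, cSAtl3.Pt 0, cSAtl2.Pt 0, cSAtl1.Pt 0, cSAtl0.Pt 0] :=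
  (cSAt_S8 M).next
theorem cSAt_S10 {G Ω : Type*} [Group G] [MulAction G Ω] {g : ℕ → G} {pt : ℕ → Ω}
    (M : Md g pt F_P 4560 40 H15.XCo1C.B 178362777600) : Stage ⊤ (wds g cSAth_W) pt 4560 [cSAtl10, cSAtl11] [cSAtl9.Pt 0, cSAtl8.Pt 0, cSAtl7.Pt 0, cSAtl6.Pt 0, cSAtl5.Pt 0, cSAtl4.Pt 0, cSAtl3.Pt 0, cSAtl2.Pt 0, cSAtl1.Pt 0, cSAtl0.Pt 0] :=
  (cSAt_S9 M).next
theorem cSAt_S11 {G Ω : Type*} [Group G] [MulAction G Ω] {g : ℕ → G} {pt : ℕ → Ω}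
    (M : Md g pt F_P 4560 40 H15.XCo1C.B 178362777600) : Stage ⊤ (wds g cSAth_W) pt 4560 [cSAtl11] [cSAtl10.Pt 0, cSAtl9.Pt 0, cSAtl8.Pt 0, cSAtl7.Pt 0, cSAtl6.Pt 0, cSAtl5.Pt 0, cSAtl4.Pt 0, cSAtl3.Pt 0, cSAtl2.Pt 0, cSAtl1.Pt 0, cSAtl0.Pt 0] :=
  (cSAt_S10 M).next
theorem cSAt_S12 {G Ω : Type*} [Group G] [MulAction G Ω] {g : ℕ → G} {pt : ℕ → Ω}
    (M : Md g pt F_P 4560 40 H15.XCo1C.B 178362777600) : Stage ⊤ (wds g cSAth_W) pt 4560 [] [cSAtl11.Pt 0, cSAtl10.Pt 0, cSAtl9.Pt 0, cSAtl8.Pt 0, cSAtl7.Pt 0, cSAtl6.Pt 0, cSAtl5.Pt 0, cSAtl4.Pt 0, cSAtl3.Pt 0, cSAtl2.Pt 0, cSAtl1.Pt 0, cSAtl0.Pt 0] :=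
  (cSAt_S11 M).next
theorem cSAe_act {G Ω : Type*} [Group G] [MulAction G Ω] {g : ℕ → G} {pt : ℕ → Ω}
    (M : Md g pt F_P 4560 40 H15.XCo1C.B 178362777600) : Act (wds g cSAe_W) pt cSAe_P 4560 9 :=
  M.wact cSAe_lt
theorem cSAc11_e : ∀ i < 1, (dent cSAc11 cSAe_P (nat_lit 4560)) i = 0 := allZ_sound0 cSAc11_e_0
theorem cSAc11_ok : DOK cSAc11 cSAe_P 4560 := ⟨cSAc11_h, cSAc11_e⟩
theorem cSAtn0_1 : ∀ i < 2, (cSAtn0.ent F_P cSAth_P (rl [nat_lit 10, nat_lit 34] F_P) (rl [nat_lit 10, nat_lit 34] F_P) cSAe_P (nat_lit 40) (nat_lit 2) H15.XCo1C.B cSAtl11 [] (memO cSAc11)) i = 0 := allZ_sound0 cSAtn0_1_0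
theorem cSAtn0_t {G Ω : Type*} [Group G] [MulAction G Ω] {g : ℕ → G} {pt : ℕ → Ω}
    (M : Md g pt F_P 4560 40 H15.XCo1C.B 178362777600) : TrO (gen (wds g cSAth_W) cSAtl11.K) (rl [10, 34] g) (rl [10, 34] g) 2 pt 4560 (cSAtl11.Pt 0) (memO cSAc11) :=
  node M (cSAt_S11 M) (cSAth_act M) (SA_act M) (SA_act M) cSAtn0 ((cSAe_act M).mono (by decide)) (fun _ _ => trivial) cSAtn0_0 cSAtn0_1 (List.forall_mem_nil _)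
theorem cSAc10_e : ∀ i < 1, (dent cSAc10 cSAe_P (nat_lit 4560)) i = 0 := allZ_sound0 cSAc10_e_0
theorem cSAc10_ok : DOK cSAc10 cSAe_P 4560 := ⟨cSAc10_h, cSAc10_e⟩
theorem cSAtn1_1 : ∀ i < 2, (cSAtn1.ent F_P cSAth_P (rl [nat_lit 10, nat_lit 34] F_P) (rl [nat_lit 10, nat_lit 34] F_P) cSAe_P (nat_lit 40) (nat_lit 2) H15.XCo1C.B cSAtl10 [cSAtl11] (memO cSAc10)) i = 0 := allZ_sound0 cSAtn1_1_0
theorem cSAtn1_t {G Ω : Type*} [Group G] [MulAction G Ω] {g : ℕ → G} {pt : ℕ → Ω}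
    (M : Md g pt F_P 4560 40 H15.XCo1C.B 178362777600) : TrO (gen (wds g cSAth_W) cSAtl10.K) (rl [10, 34] g) (rl [10, 34] g) 2 pt 4560 (cSAtl10.Pt 0) (memO cSAc10) :=
  node M (cSAt_S10 M) (cSAth_act M) (SA_act M) (SA_act M) cSAtn1 ((cSAe_act M).mono (by decide)) (fun _ _ => trivial) cSAtn1_0 cSAtn1_1 (List.forall_mem_nil _)
theorem cSAc7_e : ∀ i < 3, (dent cSAc7 cSAe_P (nat_lit 4560)) i = 0 := allZ_sound0 cSAc7_e_0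
theorem cSAc7_ok : DOK cSAc7 cSAe_P 4560 := ⟨cSAc7_h, cSAc7_e⟩
theorem cSAtn2_1 : ∀ i < 32, (cSAtn2.ent F_P cSAth_P (rl [nat_lit 10, nat_lit 34] F_P) (rl [nat_lit 10, nat_lit 34] F_P) cSAe_P (nat_lit 40) (nat_lit 2) H15.XCo1C.B cSAtl7 [cSAtl8, cSAtl9, cSAtl10, cSAtl11] (memO cSAc7)) i = 0 := allZ_sound0 cSAtn2_1_0
theorem cSAtn2_t {G Ω : Type*} [Group G] [MulAction G Ω] {g : ℕ → G} {pt : ℕ → Ω}
    (M : Md g pt F_P 4560 40 H15.XCo1C.B 178362777600) : TrO (gen (wds g cSAth_W) cSAtl7.K) (rl [10, 34] g) (rl [10, 34] g) 2 pt 4560 (cSAtl7.Pt 0) (memO cSAc7) :=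
  node M (cSAt_S7 M) (cSAth_act M) (SA_act M) (SA_act M) cSAtn2 ((cSAe_act M).mono (by decide)) (fun _ _ => trivial) cSAtn2_0 cSAtn2_1 (List.forall_mem_nil _)
theorem cSAtn3y4120_act {G Ω : Type*} [Group G] [MulAction G Ω] {g : ℕ → G} {pt : ℕ → Ω}
    (M : Md g pt F_P 4560 40 H15.XCo1C.B 178362777600) : Act (wds g cSAtn3y4120_W) pt cSAtn3y4120_P 4560 2 :=
  M.wact cSAtn3y4120_lt
theorem cSAtr4k_act {G Ω : Type*} [Group G] [MulAction G Ω] {g : ℕ → G} {pt : ℕ → Ω}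
    (M : Md g pt F_P 4560 40 H15.XCo1C.B 178362777600) : Act (wds g cSAtr4k_W) pt cSAtr4k_P 4560 3 :=
  M.wact cSAtr4k_lt
theorem cSAtn4_1 : ∀ i < 32, (cSAtn4.ent F_P cSAth_P (rl [nat_lit 10, nat_lit 34] F_P) cSAtn3y4120_P cSAtr4k_P (nat_lit 40) (nat_lit 2) H15.XCo1C.B cSAtl7 [cSAtl8, cSAtl9, cSAtl10, cSAtl11] (fun _ => nat_lit 1)) i = 0 := allZ_sound0 cSAtn4_1_0
theorem cSAtn4_t {G Ω : Type*} [Group G] [MulAction G Ω] {g : ℕ → G} {pt : ℕ → Ω}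
    (M : Md g pt F_P 4560 40 H15.XCo1C.B 178362777600) : TrO (gen (wds g cSAth_W) cSAtl7.K) (rl [10, 34] g) (wds g cSAtn3y4120_W) 2 pt 4560 (cSAtl7.Pt 0) (fun _ => nat_lit 1) :=
  node M (cSAt_S7 M) (cSAth_act M) (SA_act M) (cSAtn3y4120_act M) cSAtn4 ((cSAtr4k_act M).mono (by decide)) (fun _ _ => trivial) cSAtn4_0 cSAtn4_1 (List.forall_mem_nil _)
theorem cSAtr4 {G Ω : Type*} [Group G] [MulAction G Ω] {g : ℕ → G} {pt : ℕ → Ω}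
    (M : Md g pt F_P 4560 40 H15.XCo1C.B 178362777600) : Ref (gen (wds g cSAth_W) (topK [cSAtl7, cSAtl8, cSAtl9, cSAtl10, cSAtl11])) (rl [10, 34] g) (wds g cSAtn3y4120_W) 2 :=
  (cSAtn4_t M).ref
theorem cSAtn3y46_act {G Ω : Type*} [Group G] [MulAction G Ω] {g : ℕ → G} {pt : ℕ → Ω}
    (M : Md g pt F_P 4560 40 H15.XCo1C.B 178362777600) : Act (wds g cSAtn3y46_W) pt cSAtn3y46_P 4560 2 :=
  M.wact cSAtn3y46_lt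
theorem cSAtr5k_act {G Ω : Type*} [Group G] [MulAction G Ω] {g : ℕ → G} {pt : ℕ → Ω}
    (M : Md g pt F_P 4560 40 H15.XCo1C.B 178362777600) : Act (wds g cSAtr5k_W) pt cSAtr5k_P 4560 3 :=
  M.wact cSAtr5k_lt
theorem cSAtn5y4351_act {G Ω : Type*} [Group G] [MulAction G Ω] {g : ℕ → G} {pt : ℕ → Ω}
    (M : Md g pt F_P 4560 40 H15.XCo1C.B 178362777600) : Act (wds g cSAtn5y4351_W) pt cSAtn5y4351_P 4560 2 :=
  M.wact cSAtn5y4351_lt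
theorem cSAtr6k_act {G Ω : Type*} [Group G] [MulAction G Ω] {g : ℕ → G} {pt : ℕ → Ω}
    (M : Md g pt F_P 4560 40 H15.XCo1C.B 178362777600) : Act (wds g cSAtr6k_W) pt cSAtr6k_P 4560 2 :=
  M.wact cSAtr6k_lt
theorem cSAtn6_1 : ∀ i < 2, (cSAtn6.ent F_P cSAth_P (rl [nat_lit 10, nat_lit 34] F_P) cSAtn5y4351_P cSAtr6k_P (nat_lit 40) (nat_lit 2) H15.XCo1C.B cSAtl10 [cSAtl11] (fun _ => nat_lit 1)) i = 0 := allZ_sound0 cSAtn6_1_0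
theorem cSAtn6_t {G Ω : Type*} [Group G] [MulAction G Ω] {g : ℕ → G} {pt : ℕ → Ω}
    (M : Md g pt F_P 4560 40 H15.XCo1C.B 178362777600) : TrO (gen (wds g cSAth_W) cSAtl10.K) (rl [10, 34] g) (wds g cSAtn5y4351_W) 2 pt 4560 (cSAtl10.Pt 0) (fun _ => nat_lit 1) :=
  node M (cSAt_S10 M) (cSAth_act M) (SA_act M) (cSAtn5y4351_act M) cSAtn6 ((cSAtr6k_act M).mono (by decide)) (fun _ _ => trivial) cSAtn6_0 cSAtn6_1 (List.forall_mem_nil _)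
theorem cSAtr6 {G Ω : Type*} [Group G] [MulAction G Ω] {g : ℕ → G} {pt : ℕ → Ω}
    (M : Md g pt F_P 4560 40 H15.XCo1C.B 178362777600) : Ref (gen (wds g cSAth_W) (topK [cSAtl10, cSAtl11])) (rl [10, 34] g) (wds g cSAtn5y4351_W) 2 :=
  (cSAtn6_t M).ref
theorem cSAtn5_1 : ∀ i < 32, (cSAtn5.ent F_P cSAth_P (rl [nat_lit 10, nat_lit 34] F_P) cSAtn3y46_P cSAtr5k_P (nat_lit 40) (nat_lit 2) H15.XCo1C.B cSAtl7 [cSAtl8, cSAtl9, cSAtl10, cSAtl11] (fun _ => nat_lit 1)) i = 0 := allZ_sound0 cSAtn5_1_0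
theorem cSAtn5_t {G Ω : Type*} [Group G] [MulAction G Ω] {g : ℕ → G} {pt : ℕ → Ω}
    (M : Md g pt F_P 4560 40 H15.XCo1C.B 178362777600) : TrO (gen (wds g cSAth_W) cSAtl7.K) (rl [10, 34] g) (wds g cSAtn3y46_W) 2 pt 4560 (cSAtl7.Pt 0) (fun _ => nat_lit 1) :=
  node M (cSAt_S7 M) (cSAth_act M) (SA_act M) (cSAtn3y46_act M) cSAtn5 ((cSAtr5k_act M).mono (by decide)) (fun _ _ => trivial) cSAtn5_0 cSAtn5_1 (List.forall_mem_cons.2 ⟨cSAtr6 M, List.forall_mem_nil _⟩)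
theorem cSAtr5 {G Ω : Type*} [Group G] [MulAction G Ω] {g : ℕ → G} {pt : ℕ → Ω}
    (M : Md g pt F_P 4560 40 H15.XCo1C.B 178362777600) : Ref (gen (wds g cSAth_W) (topK [cSAtl7, cSAtl8, cSAtl9, cSAtl10, cSAtl11])) (rl [10, 34] g) (wds g cSAtn3y46_W) 2 :=
  (cSAtn5_t M).ref
theorem cSAtn3y3124_act {G Ω : Type*} [Group G] [MulAction G Ω] {g : ℕ → G} {pt : ℕ → Ω}
    (M : Md g pt F_P 4560 40 H15.XCo1C.B 178362777600) : Act (wds g cSAtn3y3124_W) pt cSAtn3y3124_P 4560 2 :=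
  M.wact cSAtn3y3124_lt
theorem cSAtr7k_act {G Ω : Type*} [Group G] [MulAction G Ω] {g : ℕ → G} {pt : ℕ → Ω}
    (M : Md g pt F_P 4560 40 H15.XCo1C.B 178362777600) : Act (wds g cSAtr7k_W) pt cSAtr7k_P 4560 3 :=
  M.wact cSAtr7k_lt
theorem cSAtn7y1_act {G Ω : Type*} [Group G] [MulAction G Ω] {g : ℕ → G} {pt : ℕ → Ω}
    (M : Md g pt F_P 4560 40 H15.XCo1C.B 178362777600) : Act (wds g cSAtn7y1_W) pt cSAtn7y1_P 4560 2 :=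
  M.wact cSAtn7y1_lt
theorem cSAtr8k_act {G Ω : Type*} [Group G] [MulAction G Ω] {g : ℕ → G} {pt : ℕ → Ω}
    (M : Md g pt F_P 4560 40 H15.XCo1C.B 178362777600) : Act (wds g cSAtr8k_W) pt cSAtr8k_P 4560 2 :=
  M.wact cSAtr8k_lt
theorem cSAtn8y3_act {G Ω : Type*} [Group G] [MulAction G Ω] {g : ℕ → G} {pt : ℕ → Ω}
    (M : Md g pt F_P 4560 40 H15.XCo1C.B 178362777600) : Act (wds g cSAtn8y3_W) pt cSAtn8y3_P 4560 2 :=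
  M.wact cSAtn8y3_lt
theorem cSAtr9k_act {G Ω : Type*} [Group G] [MulAction G Ω] {g : ℕ → G} {pt : ℕ → Ω}
    (M : Md g pt F_P 4560 40 H15.XCo1C.B 178362777600) : Act (wds g cSAtr9k_W) pt cSAtr9k_P 4560 2 :=
  M.wact cSAtr9k_lt
theorem cSAtn9_1 : ∀ i < 2, (cSAtn9.ent F_P cSAth_P (rl [nat_lit 10, nat_lit 34] F_P) cSAtn8y3_P cSAtr9k_P (nat_lit 40) (nat_lit 2) H15.XCo1C.B cSAtl11 [] (fun _ => nat_lit 1)) i = 0 := allZ_sound0 cSAtn9_1_0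
theorem cSAtn9_t {G Ω : Type*} [Group G] [MulAction G Ω] {g : ℕ → G} {pt : ℕ → Ω}
    (M : Md g pt F_P 4560 40 H15.XCo1C.B 178362777600) : TrO (gen (wds g cSAth_W) cSAtl11.K) (rl [10, 34] g) (wds g cSAtn8y3_W) 2 pt 4560 (cSAtl11.Pt 0) (fun _ => nat_lit 1) :=
  node M (cSAt_S11 M) (cSAth_act M) (SA_act M) (cSAtn8y3_act M) cSAtn9 ((cSAtr9k_act M).mono (by decide)) (fun _ _ => trivial) cSAtn9_0 cSAtn9_1 (List.forall_mem_nil _)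
theorem cSAtr9 {G Ω : Type*} [Group G] [MulAction G Ω] {g : ℕ → G} {pt : ℕ → Ω}
    (M : Md g pt F_P 4560 40 H15.XCo1C.B 178362777600) : Ref (gen (wds g cSAth_W) (topK [cSAtl11])) (rl [10, 34] g) (wds g cSAtn8y3_W) 2 :=
  (cSAtn9_t M).ref
theorem cSAtn8_1 : ∀ i < 2, (cSAtn8.ent F_P cSAth_P (rl [nat_lit 10, nat_lit 34] F_P) cSAtn7y1_P cSAtr8k_P (nat_lit 40) (nat_lit 2) H15.XCo1C.B cSAtl10 [cSAtl11] (fun _ => nat_lit 1)) i = 0 := allZ_sound0 cSAtn8_1_0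
theorem cSAtn8_t {G Ω : Type*} [Group G] [MulAction G Ω] {g : ℕ → G} {pt : ℕ → Ω}
    (M : Md g pt F_P 4560 40 H15.XCo1C.B 178362777600) : TrO (gen (wds g cSAth_W) cSAtl10.K) (rl [10, 34] g) (wds g cSAtn7y1_W) 2 pt 4560 (cSAtl10.Pt 0) (fun _ => nat_lit 1) :=
  node M (cSAt_S10 M) (cSAth_act M) (SA_act M) (cSAtn7y1_act M) cSAtn8 ((cSAtr8k_act M).mono (by decide)) (fun _ _ => trivial) cSAtn8_0 cSAtn8_1 (List.forall_mem_cons.2 ⟨cSAtr9 M, List.forall_mem_nil _⟩)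
theorem cSAtr8 {G Ω : Type*} [Group G] [MulAction G Ω] {g : ℕ → G} {pt : ℕ → Ω}
    (M : Md g pt F_P 4560 40 H15.XCo1C.B 178362777600) : Ref (gen (wds g cSAth_W) (topK [cSAtl10, cSAtl11])) (rl [10, 34] g) (wds g cSAtn7y1_W) 2 :=
  (cSAtn8_t M).ref
theorem cSAtn7_1 : ∀ i < 32, (cSAtn7.ent F_P cSAth_P (rl [nat_lit 10, nat_lit 34] F_P) cSAtn3y3124_P cSAtr7k_P (nat_lit 40) (nat_lit 2) H15.XCo1C.B cSAtl7 [cSAtl8, cSAtl9, cSAtl10, cSAtl11] (fun _ => nat_lit 1)) i = 0 := allZ_sound0 cSAtn7_1_0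
theorem cSAtn7_t {G Ω : Type*} [Group G] [MulAction G Ω] {g : ℕ → G} {pt : ℕ → Ω}
    (M : Md g pt F_P 4560 40 H15.XCo1C.B 178362777600) : TrO (gen (wds g cSAth_W) cSAtl7.K) (rl [10, 34] g) (wds g cSAtn3y3124_W) 2 pt 4560 (cSAtl7.Pt 0) (fun _ => nat_lit 1) :=
  node M (cSAt_S7 M) (cSAth_act M) (SA_act M) (cSAtn3y3124_act M) cSAtn7 ((cSAtr7k_act M).mono (by decide)) (fun _ _ => trivial) cSAtn7_0 cSAtn7_1 (List.forall_mem_cons.2 ⟨cSAtr8 M, List.forall_mem_nil _⟩)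
theorem cSAtr7 {G Ω : Type*} [Group G] [MulAction G Ω] {g : ℕ → G} {pt : ℕ → Ω}
    (M : Md g pt F_P 4560 40 H15.XCo1C.B 178362777600) : Ref (gen (wds g cSAth_W) (topK [cSAtl7, cSAtl8, cSAtl9, cSAtl10, cSAtl11])) (rl [10, 34] g) (wds g cSAtn3y3124_W) 2 :=
  (cSAtn7_t M).ref
theorem cSAtn3y1719_act {G Ω : Type*} [Group G] [MulAction G Ω] {g : ℕ → G} {pt : ℕ → Ω}
    (M : Md g pt F_P 4560 40 H15.XCo1C.B 178362777600) : Act (wds g cSAtn3y1719_W) pt cSAtn3y1719_P 4560 2 :=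
  M.wact cSAtn3y1719_lt
theorem cSAtr10k_act {G Ω : Type*} [Group G] [MulAction G Ω] {g : ℕ → G} {pt : ℕ → Ω}
    (M : Md g pt F_P 4560 40 H15.XCo1C.B 178362777600) : Act (wds g cSAtr10k_W) pt cSAtr10k_P 4560 3 :=
  M.wact cSAtr10k_lt
theorem cSAtn10_1 : ∀ i < 32, (cSAtn10.ent F_P cSAth_P (rl [nat_lit 10, nat_lit 34] F_P) cSAtn3y1719_P cSAtr10k_P (nat_lit 40) (nat_lit 2) H15.XCo1C.B cSAtl7 [cSAtl8, cSAtl9, cSAtl10, cSAtl11] (fun _ => nat_lit 1)) i = 0 := allZ_sound0 cSAtn10_1_0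
theorem cSAtn10_t {G Ω : Type*} [Group G] [MulAction G Ω] {g : ℕ → G} {pt : ℕ → Ω}
    (M : Md g pt F_P 4560 40 H15.XCo1C.B 178362777600) : TrO (gen (wds g cSAth_W) cSAtl7.K) (rl [10, 34] g) (wds g cSAtn3y1719_W) 2 pt 4560 (cSAtl7.Pt 0) (fun _ => nat_lit 1) :=
  node M (cSAt_S7 M) (cSAth_act M) (SA_act M) (cSAtn3y1719_act M) cSAtn10 ((cSAtr10k_act M).mono (by decide)) (fun _ _ => trivial) cSAtn10_0 cSAtn10_1 (List.forall_mem_nil _)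
theorem cSAtr10 {G Ω : Type*} [Group G] [MulAction G Ω] {g : ℕ → G} {pt : ℕ → Ω}
    (M : Md g pt F_P 4560 40 H15.XCo1C.B 178362777600) : Ref (gen (wds g cSAth_W) (topK [cSAtl7, cSAtl8, cSAtl9, cSAtl10, cSAtl11])) (rl [10, 34] g) (wds g cSAtn3y1719_W) 2 :=
  (cSAtn10_t M).ref
theorem cSAtn3y47_act {G Ω : Type*} [Group G] [MulAction G Ω] {g : ℕ → G} {pt : ℕ → Ω}
    (M : Md g pt F_P 4560 40 H15.XCo1C.B 178362777600) : Act (wds g cSAtn3y47_W) pt cSAtn3y47_P 4560 2 :=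
  M.wact cSAtn3y47_lt
theorem cSAtr11k_act {G Ω : Type*} [Group G] [MulAction G Ω] {g : ℕ → G} {pt : ℕ → Ω}
    (M : Md g pt F_P 4560 40 H15.XCo1C.B 178362777600) : Act (wds g cSAtr11k_W) pt cSAtr11k_P 4560 3 :=
  M.wact cSAtr11k_lt
theorem cSAtn11_1 : ∀ i < 32, (cSAtn11.ent F_P cSAth_P (rl [nat_lit 10, nat_lit 34] F_P) cSAtn3y47_P cSAtr11k_P (nat_lit 40) (nat_lit 2) H15.XCo1C.B cSAtl7 [cSAtl8, cSAtl9, cSAtl10, cSAtl11] (fun _ => nat_lit 1)) i = 0 := allZ_sound0 cSAtn11_1_0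
theorem cSAtn11_t {G Ω : Type*} [Group G] [MulAction G Ω] {g : ℕ → G} {pt : ℕ → Ω}
    (M : Md g pt F_P 4560 40 H15.XCo1C.B 178362777600) : TrO (gen (wds g cSAth_W) cSAtl7.K) (rl [10, 34] g) (wds g cSAtn3y47_W) 2 pt 4560 (cSAtl7.Pt 0) (fun _ => nat_lit 1) :=
  node M (cSAt_S7 M) (cSAth_act M) (SA_act M) (cSAtn3y47_act M) cSAtn11 ((cSAtr11k_act M).mono (by decide)) (fun _ _ => trivial) cSAtn11_0 cSAtn11_1 (List.forall_mem_nil _)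
theorem cSAtr11 {G Ω : Type*} [Group G] [MulAction G Ω] {g : ℕ → G} {pt : ℕ → Ω}
    (M : Md g pt F_P 4560 40 H15.XCo1C.B 178362777600) : Ref (gen (wds g cSAth_W) (topK [cSAtl7, cSAtl8, cSAtl9, cSAtl10, cSAtl11])) (rl [10, 34] g) (wds g cSAtn3y47_W) 2 :=
  (cSAtn11_t M).ref
theorem cSAtn3_1 : ∀ i < 8, (cSAtn3.ent F_P cSAth_P (rl [nat_lit 10, nat_lit 34] F_P) (rl [nat_lit 10, nat_lit 34] F_P) cSAe_P (nat_lit 40) (nat_lit 2) H15.XCo1C.B cSAtl4 [cSAtl5, cSAtl6, cSAtl7, cSAtl8, cSAtl9, cSAtl10, cSAtl11] (fun w => Nat.xor w (cSAtl4.Pt (nat_lit 0)))) i = 0 := allZ_sound0 cSAtn3_1_0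
theorem cSAtn3_t {G Ω : Type*} [Group G] [MulAction G Ω] {g : ℕ → G} {pt : ℕ → Ω}
    (M : Md g pt F_P 4560 40 H15.XCo1C.B 178362777600) : TrO (gen (wds g cSAth_W) cSAtl4.K) (rl [10, 34] g) (rl [10, 34] g) 2 pt 4560 (cSAtl4.Pt 0) (fun w => Nat.xor w (cSAtl4.Pt (nat_lit 0))) :=
  node M (cSAt_S4 M) (cSAth_act M) (SA_act M) (SA_act M) cSAtn3 ((cSAe_act M).mono (by decide)) (fun _ _ => trivial) cSAtn3_0 cSAtn3_1 (List.forall_mem_cons.2 ⟨cSAtr4 M, List.forall_mem_cons.2 ⟨cSAtr5 M, List.forall_mem_cons.2 ⟨cSAtr7 M, List.forall_mem_cons.2 ⟨cSAtr10 M, List.forall_mem_cons.2 ⟨cSAtr11 M, List.forall_mem_nil _⟩⟩⟩⟩⟩)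
theorem cSAc2_e : ∀ i < 5, (dent cSAc2 cSAe_P (nat_lit 4560)) i = 0 := allZ_sound0 cSAc2_e_0
theorem cSAc2_ok : DOK cSAc2 cSAe_P 4560 := ⟨cSAc2_h, cSAc2_e⟩
theorem cSAtn12y1086_act {G Ω : Type*} [Group G] [MulAction G Ω] {g : ℕ → G} {pt : ℕ → Ω}
    (M : Md g pt F_P 4560 40 H15.XCo1C.B 178362777600) : Act (wds g cSAtn12y1086_W) pt cSAtn12y1086_P 4560 2 :=
  M.wact cSAtn12y1086_lt
theorem cSAtr13k_act {G Ω : Type*} [Group G] [MulAction G Ω] {g : ℕ → G} {pt : ℕ → Ω}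
    (M : Md g pt F_P 4560 40 H15.XCo1C.B 178362777600) : Act (wds g cSAtr13k_W) pt cSAtr13k_P 4560 3 :=
  M.wact cSAtr13k_lt
theorem cSAtn13y37_act {G Ω : Type*} [Group G] [MulAction G Ω] {g : ℕ → G} {pt : ℕ → Ω}
    (M : Md g pt F_P 4560 40 H15.XCo1C.B 178362777600) : Act (wds g cSAtn13y37_W) pt cSAtn13y37_P 4560 2 :=
  M.wact cSAtn13y37_lt
theorem cSAtr14k_act {G Ω : Type*} [Group G] [MulAction G Ω] {g : ℕ → G} {pt : ℕ → Ω}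
    (M : Md g pt F_P 4560 40 H15.XCo1C.B 178362777600) : Act (wds g cSAtr14k_W) pt cSAtr14k_P 4560 3 :=
  M.wact cSAtr14k_lt
theorem cSAtn14_1 : ∀ i < 32, (cSAtn14.ent F_P cSAth_P (rl [nat_lit 10, nat_lit 34] F_P) cSAtn13y37_P cSAtr14k_P (nat_lit 40) (nat_lit 2) H15.XCo1C.B cSAtl7 [cSAtl8, cSAtl9, cSAtl10, cSAtl11] (fun _ => nat_lit 1)) i = 0 := allZ_sound0 cSAtn14_1_0
theorem cSAtn14_t {G Ω : Type*} [Group G] [MulAction G Ω] {g : ℕ → G} {pt : ℕ → Ω}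
    (M : Md g pt F_P 4560 40 H15.XCo1C.B 178362777600) : TrO (gen (wds g cSAth_W) cSAtl7.K) (rl [10, 34] g) (wds g cSAtn13y37_W) 2 pt 4560 (cSAtl7.Pt 0) (fun _ => nat_lit 1) :=
  node M (cSAt_S7 M) (cSAth_act M) (SA_act M) (cSAtn13y37_act M) cSAtn14 ((cSAtr14k_act M).mono (by decide)) (fun _ _ => trivial) cSAtn14_0 cSAtn14_1 (List.forall_mem_nil _)
theorem cSAtr14 {G Ω : Type*} [Group G] [MulAction G Ω] {g : ℕ → G} {pt : ℕ → Ω}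
    (M : Md g pt F_P 4560 40 H15.XCo1C.B 178362777600) : Ref (gen (wds g cSAth_W) (topK [cSAtl7, cSAtl8, cSAtl9, cSAtl10, cSAtl11])) (rl [10, 34] g) (wds g cSAtn13y37_W) 2 :=
  (cSAtn14_t M).ref
theorem cSAtn13y46_act {G Ω : Type*} [Group G] [MulAction G Ω] {g : ℕ → G} {pt : ℕ → Ω}
    (M : Md g pt F_P 4560 40 H15.XCo1C.B 178362777600) : Act (wds g cSAtn13y46_W) pt cSAtn13y46_P 4560 2 :=
  M.wact cSAtn13y46_lt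
theorem cSAtr15k_act {G Ω : Type*} [Group G] [MulAction G Ω] {g : ℕ → G} {pt : ℕ → Ω}
    (M : Md g pt F_P 4560 40 H15.XCo1C.B 178362777600) : Act (wds g cSAtr15k_W) pt cSAtr15k_P 4560 3 :=
  M.wact cSAtr15k_lt
theorem cSAtn15_1 : ∀ i < 32, (cSAtn15.ent F_P cSAth_P (rl [nat_lit 10, nat_lit 34] F_P) cSAtn13y46_P cSAtr15k_P (nat_lit 40) (nat_lit 2) H15.XCo1C.B cSAtl7 [cSAtl8, cSAtl9, cSAtl10, cSAtl11] (fun _ => nat_lit 1)) i = 0 := allZ_sound0 cSAtn15_1_0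
theorem cSAtn15_t {G Ω : Type*} [Group G] [MulAction G Ω] {g : ℕ → G} {pt : ℕ → Ω}
    (M : Md g pt F_P 4560 40 H15.XCo1C.B 178362777600) : TrO (gen (wds g cSAth_W) cSAtl7.K) (rl [10, 34] g) (wds g cSAtn13y46_W) 2 pt 4560 (cSAtl7.Pt 0) (fun _ => nat_lit 1) :=
  node M (cSAt_S7 M) (cSAth_act M) (SA_act M) (cSAtn13y46_act M) cSAtn15 ((cSAtr15k_act M).mono (by decide)) (fun _ _ => trivial) cSAtn15_0 cSAtn15_1 (List.forall_mem_nil _)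
theorem cSAtr15 {G Ω : Type*} [Group G] [MulAction G Ω] {g : ℕ → G} {pt : ℕ → Ω}
    (M : Md g pt F_P 4560 40 H15.XCo1C.B 178362777600) : Ref (gen (wds g cSAth_W) (topK [cSAtl7, cSAtl8, cSAtl9, cSAtl10, cSAtl11])) (rl [10, 34] g) (wds g cSAtn13y46_W) 2 :=
  (cSAtn15_t M).ref
theorem cSAtn13y2078_act {G Ω : Type*} [Group G] [MulAction G Ω] {g : ℕ → G} {pt : ℕ → Ω}
    (M : Md g pt F_P 4560 40 H15.XCo1C.B 178362777600) : Act (wds g cSAtn13y2078_W) pt cSAtn13y2078_P 4560 2 :=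
  M.wact cSAtn13y2078_lt
theorem cSAtr16k_act {G Ω : Type*} [Group G] [MulAction G Ω] {g : ℕ → G} {pt : ℕ → Ω}
    (M : Md g pt F_P 4560 40 H15.XCo1C.B 178362777600) : Act (wds g cSAtr16k_W) pt cSAtr16k_P 4560 3 :=
  M.wact cSAtr16k_lt
theorem cSAtn16_1 : ∀ i < 32, (cSAtn16.ent F_P cSAth_P (rl [nat_lit 10, nat_lit 34] F_P) cSAtn13y2078_P cSAtr16k_P (nat_lit 40) (nat_lit 2) H15.XCo1C.B cSAtl7 [cSAtl8, cSAtl9, cSAtl10, cSAtl11] (fun _ => nat_lit 1)) i = 0 := allZ_sound0 cSAtn16_1_0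
theorem cSAtn16_t {G Ω : Type*} [Group G] [MulAction G Ω] {g : ℕ → G} {pt : ℕ → Ω}
    (M : Md g pt F_P 4560 40 H15.XCo1C.B 178362777600) : TrO (gen (wds g cSAth_W) cSAtl7.K) (rl [10, 34] g) (wds g cSAtn13y2078_W) 2 pt 4560 (cSAtl7.Pt 0) (fun _ => nat_lit 1) :=
  node M (cSAt_S7 M) (cSAth_act M) (SA_act M) (cSAtn13y2078_act M) cSAtn16 ((cSAtr16k_act M).mono (by decide)) (fun _ _ => trivial) cSAtn16_0 cSAtn16_1 (List.forall_mem_nil _)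
theorem cSAtr16 {G Ω : Type*} [Group G] [MulAction G Ω] {g : ℕ → G} {pt : ℕ → Ω}
    (M : Md g pt F_P 4560 40 H15.XCo1C.B 178362777600) : Ref (gen (wds g cSAth_W) (topK [cSAtl7, cSAtl8, cSAtl9, cSAtl10, cSAtl11])) (rl [10, 34] g) (wds g cSAtn13y2078_W) 2 :=
  (cSAtn16_t M).ref
theorem cSAtn13_1 : ∀ i < 8, (cSAtn13.ent F_P cSAth_P (rl [nat_lit 10, nat_lit 34] F_P) cSAtn12y1086_P cSAtr13k_P (nat_lit 40) (nat_lit 2) H15.XCo1C.B cSAtl4 [cSAtl5, cSAtl6, cSAtl7, cSAtl8, cSAtl9, cSAtl10, cSAtl11] (fun _ => nat_lit 1)) i = 0 := allZ_sound0 cSAtn13_1_0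
theorem cSAtn13_t {G Ω : Type*} [Group G] [MulAction G Ω] {g : ℕ → G} {pt : ℕ → Ω}
    (M : Md g pt F_P 4560 40 H15.XCo1C.B 178362777600) : TrO (gen (wds g cSAth_W) cSAtl4.K) (rl [10, 34] g) (wds g cSAtn12y1086_W) 2 pt 4560 (cSAtl4.Pt 0) (fun _ => nat_lit 1) :=
  node M (cSAt_S4 M) (cSAth_act M) (SA_act M) (cSAtn12y1086_act M) cSAtn13 ((cSAtr13k_act M).mono (by decide)) (fun _ _ => trivial) cSAtn13_0 cSAtn13_1 (List.forall_mem_cons.2 ⟨cSAtr14 M, List.forall_mem_cons.2 ⟨cSAtr15 M, List.forall_mem_cons.2 ⟨cSAtr16 M, List.forall_mem_nil _⟩⟩⟩)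
theorem cSAtr13 {G Ω : Type*} [Group G] [MulAction G Ω] {g : ℕ → G} {pt : ℕ → Ω}
    (M : Md g pt F_P 4560 40 H15.XCo1C.B 178362777600) : Ref (gen (wds g cSAth_W) (topK [cSAtl4, cSAtl5, cSAtl6, cSAtl7, cSAtl8, cSAtl9, cSAtl10, cSAtl11])) (rl [10, 34] g) (wds g cSAtn12y1086_W) 2 :=
  (cSAtn13_t M).ref
theorem cSAtn12_1 : ∀ i < 27, (cSAtn12.ent F_P cSAth_P (rl [nat_lit 10, nat_lit 34] F_P) (rl [nat_lit 10, nat_lit 34] F_P) cSAe_P (nat_lit 40) (nat_lit 2) H15.XCo1C.B cSAtl2 [cSAtl3, cSAtl4, cSAtl5, cSAtl6, cSAtl7, cSAtl8, cSAtl9, cSAtl10, cSAtl11] (memO cSAc2)) i = 0 := allZ_sound0 cSAtn12_1_0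
theorem cSAtn12_t {G Ω : Type*} [Group G] [MulAction G Ω] {g : ℕ → G} {pt : ℕ → Ω}
    (M : Md g pt F_P 4560 40 H15.XCo1C.B 178362777600) : TrO (gen (wds g cSAth_W) cSAtl2.K) (rl [10, 34] g) (rl [10, 34] g) 2 pt 4560 (cSAtl2.Pt 0) (memO cSAc2) :=
  node M (cSAt_S2 M) (cSAth_act M) (SA_act M) (SA_act M) cSAtn12 ((cSAe_act M).mono (by decide)) (fun _ _ => trivial) cSAtn12_0 cSAtn12_1 (List.forall_mem_cons.2 ⟨cSAtr13 M, List.forall_mem_nil _⟩)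
theorem cSAc1_e : ∀ i < 1, (dent cSAc1 cSAe_P (nat_lit 4560)) i = 0 := allZ_sound0 cSAc1_e_0
theorem cSAc1_ok : DOK cSAc1 cSAe_P 4560 := ⟨cSAc1_h, cSAc1_e⟩
theorem cSAtn17_1 : ∀ i < 56, (cSAtn17.ent F_P cSAth_P (rl [nat_lit 10, nat_lit 34] F_P) (rl [nat_lit 10, nat_lit 34] F_P) cSAe_P (nat_lit 40) (nat_lit 2) H15.XCo1C.B cSAtl1 [cSAtl2, cSAtl3, cSAtl4, cSAtl5, cSAtl6, cSAtl7, cSAtl8, cSAtl9, cSAtl10, cSAtl11] (memO cSAc1)) i = 0 := allZ_sound0 cSAtn17_1_0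
theorem cSAtn17_t {G Ω : Type*} [Group G] [MulAction G Ω] {g : ℕ → G} {pt : ℕ → Ω}
    (M : Md g pt F_P 4560 40 H15.XCo1C.B 178362777600) : TrO (gen (wds g cSAth_W) cSAtl1.K) (rl [10, 34] g) (rl [10, 34] g) 2 pt 4560 (cSAtl1.Pt 0) (memO cSAc1) :=
  node M (cSAt_S1 M) (cSAth_act M) (SA_act M) (SA_act M) cSAtn17 ((cSAe_act M).mono (by decide)) (fun _ _ => trivial) cSAtn17_0 cSAtn17_1 (List.forall_mem_nil _)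
theorem cSAc0_e : ∀ i < 11, (dent cSAc0 cSAe_P (nat_lit 4560)) i = 0 := allZ_sound0 cSAc0_e_0
theorem cSAc0_ok : DOK cSAc0 cSAe_P 4560 := ⟨cSAc0_h, cSAc0_e⟩
theorem cSAtn18_1 : ∀ i < 240, (cSAtn18.ent F_P cSAth_P (rl [nat_lit 10, nat_lit 34] F_P) (rl [nat_lit 10, nat_lit 34] F_P) cSAe_P (nat_lit 40) (nat_lit 2) H15.XCo1C.B cSAtl0 [cSAtl1, cSAtl2, cSAtl3, cSAtl4, cSAtl5, cSAtl6, cSAtl7, cSAtl8, cSAtl9, cSAtl10, cSAtl11] (memO cSAc0)) i = 0 := allZ_sound0 cSAtn18_1_0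
theorem cSAtn18_t {G Ω : Type*} [Group G] [MulAction G Ω] {g : ℕ → G} {pt : ℕ → Ω}
    (M : Md g pt F_P 4560 40 H15.XCo1C.B 178362777600) : TrO (gen (wds g cSAth_W) cSAtl0.K) (rl [10, 34] g) (rl [10, 34] g) 2 pt 4560 (cSAtl0.Pt 0) (memO cSAc0) :=
  node M (cSAt_S0 M) (cSAth_act M) (SA_act M) (SA_act M) cSAtn18 ((cSAe_act M).mono (by decide)) (fun _ _ => trivial) cSAtn18_0 cSAtn18_1 (List.forall_mem_nil _)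
theorem cSA {G Ω : Type*} [Group G] [MulAction G Ω] {g : ℕ → G} {pt : ℕ → Ω}
    (M : Md g pt F_P 4560 40 H15.XCo1C.B 178362777600) : Cen ⊤ (rl [10, 34] g) 2 (wds g cSAe_W) pt 4560 [cSAc0, cSAc1, cSAc2, cSAc7, cSAc10, cSAc11] :=
  (cSAt_S0 M).top ▸ Cen.lev M (cSAt_S0 M) (Cen.lev M (cSAt_S1 M) (Cen.lev M (cSAt_S2 M) (Cen.triv (cSAt_S3 M) (Cen.triv (cSAt_S4 M) (Cen.triv (cSAt_S5 M) (Cen.triv (cSAt_S6 M) (Cen.lev M (cSAt_S7 M) (Cen.triv (cSAt_S8 M) (Cen.triv (cSAt_S9 M) (Cen.lev M (cSAt_S10 M) (Cen.lev M (cSAt_S11 M) (Cen.bot) (cSAtn0_t M) (SA_act M) (cSAe_act M) (fun _ _ => trivial) cSAc11_ok cSA_f11) (cSAtn1_t M) (SA_act M) (cSAe_act M) (fun _ _ => trivial) cSAc10_ok cSA_f10) (forced (cSAt_S9 M) (cSAth_act M) (SA_act M) _ _ cSA_f9)) (forced (cSAt_S8 M) (cSAth_act M) (SA_act M) _ _ cSA_f8)) (cSAtn2_t M) (SA_act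 M) (cSAe_act M) (fun _ _ => trivial) cSAc7_ok cSA_f7) (forced (cSAt_S6 M) (cSAth_act M) (SA_act M) _ _ cSA_f6)) (forced (cSAt_S5 M) (cSAth_act M) (SA_act M) _ _ cSA_f5)) (cSAtn3_t M)) (forced (cSAt_S3 M) (cSAth_act M) (SA_act M) _ _ cSA_f3)) (cSAtn12_t M) (SA_act M) (cSAe_act M) (fun _ _ => trivial) cSAc2_ok cSA_f2) (cSAtn17_t M) (SA_act M) (cSAe_act M) (fun _ _ => trivial) cSAc1_ok cSA_f1) (cSAtn18_t M) (SA_act M) (cSAe_act M) (fun _ _ => trivial) cSAc0_ok cSA_f0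
theorem cSA_eq {G Ω : Type*} [Group G] [MulAction G Ω] {g : ℕ → G} {pt : ℕ → Ω}
    (M : Md g pt F_P 4560 40 H15.XCo1C.B 178362777600) : Subgroup.centralizer (gen (rl [10, 34] g) 2) = gen (wds g cSAe_W) 9 ∧ Nat.card (gen (wds g cSAe_W) 9) = 2304 :=
  cSA_c.1 ▸ cSA_c.2 ▸ ⟨(cSA M).cent, (cSA M).card M.inj⟩
theorem P3_act {G Ω : Type*} [Group G] [MulAction G Ω] {g : ℕ → G} {pt : ℕ → Ω}
    (M : Md g pt F_P 4560 40 H15.XCo1C.B 178362777600) : Act (rl [22, 34] g) pt (rl [nat_lit 22, nat_lit 34] F_P) 4560 2 :=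
  M.act.rl (by decide)
theorem pc3l0_e : ∀ i < 8, (dent pc3l0 (wdsP (rl [nat_lit 22, nat_lit 34] F_P) pc3e) (nat_lit 4560)) i = 0 := allZ_sound0 pc3l0_e_0
theorem pc3l0_ok : DOK pc3l0 (wdsP (rl [nat_lit 22, nat_lit 34] F_P) pc3e) 4560 := ⟨pc3l0_h, pc3l0_e⟩
theorem pc3_low {G Ω : Type*} [Group G] [MulAction G Ω] {g : ℕ → G} {pt : ℕ → Ω}
    (M : Md g pt F_P 4560 40 H15.XCo1C.B 178362777600) : SLow (gi (wds (rl [22, 34] g) pc3e)) pt 4560 [pc3l0] :=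
  (SLow.nil).cons pc3l0_ok (((P3_act M).mono (by decide : 2 ≤ 2)).wds pc3_e 3) pc3_f0
theorem pc3 {G Ω : Type*} [Group G] [MulAction G Ω] {g : ℕ → G} {pt : ℕ → Ω}
    (M : Md g pt F_P 4560 40 H15.XCo1C.B 178362777600) : PC0 (rl [22, 34] g) 2 3 ∧ Nat.card (gen (rl [22, 34] g) 2) = 3 ^ 2 :=
  have := M.fin
  have h := (M.sm.of_act ((P3_act M).mono (by decide : 2 ≤ 2))).pc0 (by decide) pc3_p
  ⟨h, le_antisymm (h.card_le' le_rfl) (pc3_c ▸ ((pc3_low M).card_ge M.inj).trans (Subgroup.card_le_of_le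
    (by rw [gen_gi]; exact gen_le.2 fun k _ => evA_mem_gen _ (nth_lt pc3_e k))))⟩
theorem P3c {G Ω : Type*} [Group G] [MulAction G Ω] {g : ℕ → G} {pt : ℕ → Ω}
    (M : Md g pt F_P 4560 40 H15.XCo1C.B 178362777600) : gen (rl [22, 34] g) 2 ≤ Subgroup.centralizer (gen (rl [10, 34] g) 2 : Set G) :=
  H0.Fi.comm_all M (SA_act M) (P3_act M) P3c_k
theorem P3n {G Ω : Type*} [Group G] [MulAction G Ω] {g : ℕ → G} {pt : ℕ → Ω}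
    (M : Md g pt F_P 4560 40 H15.XCo1C.B 178362777600) : gen (wds g cSAe_W) 9 ≤ Subgroup.normalizer (gen (rl [22, 34] g) 2 : Set G) :=
  H0.Fi.norm_all M (P3_act M) (cSAe_act M) P3n_k
theorem X5_act {G Ω : Type*} [Group G] [MulAction G Ω] {g : ℕ → G} {pt : ℕ → Ω}
    (M : Md g pt F_P 4560 40 H15.XCo1C.B 178362777600) : Act (rl [10, 22, 38] g) pt (rl [nat_lit 10, nat_lit 22, nat_lit 38] F_P) 4560 3 :=
  M.act.rl (by decide)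
theorem Y5_act {G Ω : Type*} [Group G] [MulAction G Ω] {g : ℕ → G} {pt : ℕ → Ω}
    (M : Md g pt F_P 4560 40 H15.XCo1C.B 178362777600) : Act (rl [32, 33, 24, 14] g) pt (rl [nat_lit 32, nat_lit 33, nat_lit 24, nat_lit 14] F_P) 4560 4 :=
  M.act.rl (by decide)
theorem c5th_act {G Ω : Type*} [Group G] [MulAction G Ω] {g : ℕ → G} {pt : ℕ → Ω}
    (M : Md g pt F_P 4560 40 H15.XCo1C.B 178362777600) : Act (wds g c5th_W) pt c5th_P 4560 49 :=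
  M.wact c5th_lt
theorem c5tl0_e : ∀ i < 239, (dent c5tl0 c5th_P (nat_lit 4560)) i = 0 := allZ_sound0 c5tl0_e_0
theorem c5tl0_ok : DOK c5tl0 c5th_P 4560 := ⟨c5tl0_h, c5tl0_e⟩
theorem c5tl1_e : ∀ i < 55, (dent c5tl1 c5th_P (nat_lit 4560)) i = 0 := allZ_sound0 c5tl1_e_0
theorem c5tl1_ok : DOK c5tl1 c5th_P 4560 := ⟨c5tl1_h, c5tl1_e⟩
theorem c5tl2_e : ∀ i < 26, (dent c5tl2 c5th_P (nat_lit 4560)) i = 0 := allZ_sound0 c5tl2_e_0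
theorem c5tl2_ok : DOK c5tl2 c5th_P 4560 := ⟨c5tl2_h, c5tl2_e⟩
theorem c5tl3_e : ∀ i < 9, (dent c5tl3 c5th_P (nat_lit 4560)) i = 0 := allZ_sound0 c5tl3_e_0
theorem c5tl3_ok : DOK c5tl3 c5th_P 4560 := ⟨c5tl3_h, c5tl3_e⟩
theorem c5tl4_e : ∀ i < 7, (dent c5tl4 c5th_P (nat_lit 4560)) i = 0 := allZ_sound0 c5tl4_e_0
theorem c5tl4_ok : DOK c5tl4 c5th_P 4560 := ⟨c5tl4_h, c5tl4_e⟩
theorem c5tl5_e : ∀ i < 3, (dent c5tl5 c5th_P (nat_lit 4560)) i = 0 := allZ_sound0 c5tl5_e_0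
theorem c5tl5_ok : DOK c5tl5 c5th_P 4560 := ⟨c5tl5_h, c5tl5_e⟩
theorem c5tl6_e : ∀ i < 2, (dent c5tl6 c5th_P (nat_lit 4560)) i = 0 := allZ_sound0 c5tl6_e_0
theorem c5tl6_ok : DOK c5tl6 c5th_P 4560 := ⟨c5tl6_h, c5tl6_e⟩
theorem c5tl7_e : ∀ i < 31, (dent c5tl7 c5th_P (nat_lit 4560)) i = 0 := allZ_sound0 c5tl7_e_0
theorem c5tl7_ok : DOK c5tl7 c5th_P 4560 := ⟨c5tl7_h, c5tl7_e⟩
theorem c5tl8_e : ∀ i < 1, (dent c5tl8 c5th_P (nat_lit 4560)) i = 0 := allZ_sound0 c5tl8_e_0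
theorem c5tl8_ok : DOK c5tl8 c5th_P 4560 := ⟨c5tl8_h, c5tl8_e⟩
theorem c5tl9_e : ∀ i < 3, (dent c5tl9 c5th_P (nat_lit 4560)) i = 0 := allZ_sound0 c5tl9_e_0
theorem c5tl9_ok : DOK c5tl9 c5th_P 4560 := ⟨c5tl9_h, c5tl9_e⟩
theorem c5tl10_e : ∀ i < 1, (dent c5tl10 c5th_P (nat_lit 4560)) i = 0 := allZ_sound0 c5tl10_e_0
theorem c5tl10_ok : DOK c5tl10 c5th_P 4560 := ⟨c5tl10_h, c5tl10_e⟩
theorem c5t_low {G Ω : Type*} [Group G] [MulAction G Ω] {g : ℕ → G} {pt : ℕ → Ω}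
    (M : Md g pt F_P 4560 40 H15.XCo1C.B 178362777600) : SLow (gi (wds g c5th_W)) pt 4560 [c5tl0, c5tl1, c5tl2, c5tl3, c5tl4, c5tl5, c5tl6, c5tl7, c5tl8, c5tl9, c5tl10] :=
  (((((((((((SLow.nil).cons c5tl10_ok (c5th_act M) c5t_f10).cons c5tl9_ok (c5th_act M) c5t_f9).cons c5tl8_ok (c5th_act M) c5t_f8).cons c5tl7_ok (c5th_act M) c5t_f7).cons c5tl6_ok (c5th_act M) c5t_f6).cons c5tl5_ok (c5th_act M) c5t_f5).cons c5tl4_ok (c5th_act M) c5t_f4).cons c5tl3_ok (c5th_act M) c5t_f3).cons c5tl2_ok (c5th_act M) c5t_f2).cons c5tl1_ok (c5th_act M) c5t_f1).cons c5tl0_ok (c5th_act M) c5t_f0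
theorem c5t_S0 {G Ω : Type*} [Group G] [MulAction G Ω] {g : ℕ → G} {pt : ℕ → Ω}
    (M : Md g pt F_P 4560 40 H15.XCo1C.B 178362777600) : Stage ⊤ (wds g c5th_W) pt 4560 [c5tl0, c5tl1, c5tl2, c5tl3, c5tl4, c5tl5, c5tl6, c5tl7, c5tl8, c5tl9, c5tl10] [] :=
  M.stage (c5t_low M) c5t_c
theorem c5t_S1 {G Ω : Type*} [Group G] [MulAction G Ω] {g : ℕ → G} {pt : ℕ → Ω}
    (M : Md g pt F_P 4560 40 H15.XCo1C.B 178362777600) : Stage ⊤ (wds g c5th_W) pt 4560 [c5tl1, c5tl2, c5tl3, c5tl4, c5tl5, c5tl6, c5tl7, c5tl8, c5tl9, c5tl10] [c5tl0.Pt 0] :=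
  (c5t_S0 M).next
theorem c5t_S2 {G Ω : Type*} [Group G] [MulAction G Ω] {g : ℕ → G} {pt : ℕ → Ω}
    (M : Md g pt F_P 4560 40 H15.XCo1C.B 178362777600) : Stage ⊤ (wds g c5th_W) pt 4560 [c5tl2, c5tl3, c5tl4, c5tl5, c5tl6, c5tl7, c5tl8, c5tl9, c5tl10] [c5tl1.Pt 0, c5tl0.Pt 0] :=
  (c5t_S1 M).next
theorem c5t_S3 {G Ω : Type*} [Group G] [MulAction G Ω] {g : ℕ → G} {pt : ℕ → Ω}
    (M : Md g pt F_P 4560 40 H15.XCo1C.B 178362777600) : Stage ⊤ (wds g c5th_W) pt 4560 [c5tl3, c5tl4, c5tl5, c5tl6, c5tl7, c5tl8, c5tl9, c5tl10] [c5tl2.Pt 0, c5tl1.Pt 0, c5tl0.Pt 0] :=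
  (c5t_S2 M).next
theorem c5t_S4 {G Ω : Type*} [Group G] [MulAction G Ω] {g : ℕ → G} {pt : ℕ → Ω}
    (M : Md g pt F_P 4560 40 H15.XCo1C.B 178362777600) : Stage ⊤ (wds g c5th_W) pt 4560 [c5tl4, c5tl5, c5tl6, c5tl7, c5tl8, c5tl9, c5tl10] [c5tl3.Pt 0, c5tl2.Pt 0, c5tl1.Pt 0, c5tl0.Pt 0] :=
  (c5t_S3 M).next
theorem c5t_S5 {G Ω : Type*} [Group G] [MulAction G Ω] {g : ℕ → G} {pt : ℕ → Ω}
    (M : Md g pt F_P 4560 40 H15.XCo1C.B 178362777600) : Stage ⊤ (wds g c5th_W) pt 4560 [c5tl5, c5tl6, c5tl7, c5tl8, c5tl9, c5tl10] [c5tl4.Pt 0, c5tl3.Pt 0, c5tl2.Pt 0, c5tl1.Pt 0, c5tl0.Pt 0] :=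
  (c5t_S4 M).next
theorem c5t_S6 {G Ω : Type*} [Group G] [MulAction G Ω] {g : ℕ → G} {pt : ℕ → Ω}
    (M : Md g pt F_P 4560 40 H15.XCo1C.B 178362777600) : Stage ⊤ (wds g c5th_W) pt 4560 [c5tl6, c5tl7, c5tl8, c5tl9, c5tl10] [c5tl5.Pt 0, c5tl4.Pt 0, c5tl3.Pt 0, c5tl2.Pt 0, c5tl1.Pt 0, c5tl0.Pt 0] :=
  (c5t_S5 M).next
theorem c5t_S7 {G Ω : Type*} [Group G] [MulAction G Ω] {g : ℕ → G} {pt : ℕ → Ω}
    (M : Md g pt F_P 4560 40 H15.XCo1C.B 178362777600) : Stage ⊤ (wds g c5th_W) pt 4560 [c5tl7, c5tl8, c5tl9, c5tl10] [c5tl6.Pt 0, c5tl5.Pt 0, c5tl4.Pt 0, c5tl3.Pt 0, c5tl2.Pt 0, c5tl1.Pt 0, c5tl0.Pt 0] :=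
  (c5t_S6 M).next
theorem c5t_S8 {G Ω : Type*} [Group G] [MulAction G Ω] {g : ℕ → G} {pt : ℕ → Ω}
    (M : Md g pt F_P 4560 40 H15.XCo1C.B 178362777600) : Stage ⊤ (wds g c5th_W) pt 4560 [c5tl8, c5tl9, c5tl10] [c5tl7.Pt 0, c5tl6.Pt 0, c5tl5.Pt 0, c5tl4.Pt 0, c5tl3.Pt 0, c5tl2.Pt 0, c5tl1.Pt 0, c5tl0.Pt 0] :=
  (c5t_S7 M).next
theorem c5t_S9 {G Ω : Type*} [Group G] [MulAction G Ω] {g : ℕ → G} {pt : ℕ → Ω}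
    (M : Md g pt F_P 4560 40 H15.XCo1C.B 178362777600) : Stage ⊤ (wds g c5th_W) pt 4560 [c5tl9, c5tl10] [c5tl8.Pt 0, c5tl7.Pt 0, c5tl6.Pt 0, c5tl5.Pt 0, c5tl4.Pt 0, c5tl3.Pt 0, c5tl2.Pt 0, c5tl1.Pt 0, c5tl0.Pt 0] :=
  (c5t_S8 M).next
theorem c5t_S10 {G Ω : Type*} [Group G] [MulAction G Ω] {g : ℕ → G} {pt : ℕ → Ω}
    (M : Md g pt F_P 4560 40 H15.XCo1C.B 178362777600) : Stage ⊤ (wds g c5th_W) pt 4560 [c5tl10] [c5tl9.Pt 0, c5tl8.Pt 0, c5tl7.Pt 0, c5tl6.Pt 0, c5tl5.Pt 0, c5tl4.Pt 0, c5tl3.Pt 0, c5tl2.Pt 0, c5tl1.Pt 0, c5tl0.Pt 0] :=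
  (c5t_S9 M).next
theorem c5t_S11 {G Ω : Type*} [Group G] [MulAction G Ω] {g : ℕ → G} {pt : ℕ → Ω}
    (M : Md g pt F_P 4560 40 H15.XCo1C.B 178362777600) : Stage ⊤ (wds g c5th_W) pt 4560 [] [c5tl10.Pt 0, c5tl9.Pt 0, c5tl8.Pt 0, c5tl7.Pt 0, c5tl6.Pt 0, c5tl5.Pt 0, c5tl4.Pt 0, c5tl3.Pt 0, c5tl2.Pt 0, c5tl1.Pt 0, c5tl0.Pt 0] :=
  (c5t_S10 M).next
theorem c5e_act {G Ω : Type*} [Group G] [MulAction G Ω] {g : ℕ → G} {pt : ℕ → Ω}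
    (M : Md g pt F_P 4560 40 H15.XCo1C.B 178362777600) : Act (wds g c5e_W) pt c5e_P 4560 5 :=
  M.wact c5e_lt
theorem c5c7_e : ∀ i < 15, (dent c5c7 c5e_P (nat_lit 4560)) i = 0 := allZ_sound0 c5c7_e_0
theorem c5c7_ok : DOK c5c7 c5e_P 4560 := ⟨c5c7_h, c5c7_e⟩
theorem c5tn0_1 : ∀ i < 32, (c5tn0.ent F_P c5th_P (rl [nat_lit 10, nat_lit 22, nat_lit 38] F_P) (rl [nat_lit 10, nat_lit 22, nat_lit 38] F_P) c5e_P (nat_lit 40) (nat_lit 3) H15.XCo1C.B c5tl7 [c5tl8, c5tl9, c5tl10] (memO c5c7)) i = 0 := allZ_sound0 c5tn0_1_0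
theorem c5tn0_t {G Ω : Type*} [Group G] [MulAction G Ω] {g : ℕ → G} {pt : ℕ → Ω}
    (M : Md g pt F_P 4560 40 H15.XCo1C.B 178362777600) : TrO (gen (wds g c5th_W) c5tl7.K) (rl [10, 22, 38] g) (rl [10, 22, 38] g) 3 pt 4560 (c5tl7.Pt 0) (memO c5c7) :=
  node M (c5t_S7 M) (c5th_act M) (X5_act M) (X5_act M) c5tn0 ((c5e_act M).mono (by decide)) (fun _ _ => trivial) c5tn0_0 c5tn0_1 (List.forall_mem_nil _)
theorem c5c0_e : ∀ i < 23, (dent c5c0 c5e_P (nat_lit 4560)) i = 0 := allZ_sound0 c5c0_e_0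
theorem c5c0_ok : DOK c5c0 c5e_P 4560 := ⟨c5c0_h, c5c0_e⟩
theorem c5tn1y2117_act {G Ω : Type*} [Group G] [MulAction G Ω] {g : ℕ → G} {pt : ℕ → Ω}
    (M : Md g pt F_P 4560 40 H15.XCo1C.B 178362777600) : Act (wds g c5tn1y2117_W) pt c5tn1y2117_P 4560 3 :=
  M.wact c5tn1y2117_lt
theorem c5tr2k_act {G Ω : Type*} [Group G] [MulAction G Ω] {g : ℕ → G} {pt : ℕ → Ω}
    (M : Md g pt F_P 4560 40 H15.XCo1C.B 178362777600) : Act (wds g c5tr2k_W) pt c5tr2k_P 4560 3 :=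
  M.wact c5tr2k_lt
theorem c5tn2_1 : ∀ i < 32, (c5tn2.ent F_P c5th_P (rl [nat_lit 10, nat_lit 22, nat_lit 38] F_P) c5tn1y2117_P c5tr2k_P (nat_lit 40) (nat_lit 3) H15.XCo1C.B c5tl7 [c5tl8, c5tl9, c5tl10] (fun _ => nat_lit 1)) i = 0 := allZ_sound0 c5tn2_1_0
theorem c5tn2_t {G Ω : Type*} [Group G] [MulAction G Ω] {g : ℕ → G} {pt : ℕ → Ω}
    (M : Md g pt F_P 4560 40 H15.XCo1C.B 178362777600) : TrO (gen (wds g c5th_W) c5tl7.K) (rl [10, 22, 38] g) (wds g c5tn1y2117_W) 3 pt 4560 (c5tl7.Pt 0) (fun _ => nat_lit 1) :=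
  node M (c5t_S7 M) (c5th_act M) (X5_act M) (c5tn1y2117_act M) c5tn2 ((c5tr2k_act M).mono (by decide)) (fun _ _ => trivial) c5tn2_0 c5tn2_1 (List.forall_mem_nil _)
theorem c5tr2 {G Ω : Type*} [Group G] [MulAction G Ω] {g : ℕ → G} {pt : ℕ → Ω}
    (M : Md g pt F_P 4560 40 H15.XCo1C.B 178362777600) : Ref (gen (wds g c5th_W) (topK [c5tl7, c5tl8, c5tl9, c5tl10])) (rl [10, 22, 38] g) (wds g c5tn1y2117_W) 3 :=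
  (c5tn2_t M).ref
theorem c5tn1y54_act {G Ω : Type*} [Group G] [MulAction G Ω] {g : ℕ → G} {pt : ℕ → Ω}
    (M : Md g pt F_P 4560 40 H15.XCo1C.B 178362777600) : Act (wds g c5tn1y54_W) pt c5tn1y54_P 4560 3 :=
  M.wact c5tn1y54_lt
theorem c5tr3k_act {G Ω : Type*} [Group G] [MulAction G Ω] {g : ℕ → G} {pt : ℕ → Ω}
    (M : Md g pt F_P 4560 40 H15.XCo1C.B 178362777600) : Act (wds g c5tr3k_W) pt c5tr3k_P 4560 3 :=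
  M.wact c5tr3k_lt
theorem c5tn3_1 : ∀ i < 32, (c5tn3.ent F_P c5th_P (rl [nat_lit 10, nat_lit 22, nat_lit 38] F_P) c5tn1y54_P c5tr3k_P (nat_lit 40) (nat_lit 3) H15.XCo1C.B c5tl7 [c5tl8, c5tl9, c5tl10] (fun _ => nat_lit 1)) i = 0 := allZ_sound0 c5tn3_1_0
theorem c5tn3_t {G Ω : Type*} [Group G] [MulAction G Ω] {g : ℕ → G} {pt : ℕ → Ω}
    (M : Md g pt F_P 4560 40 H15.XCo1C.B 178362777600) : TrO (gen (wds g c5th_W) c5tl7.K) (rl [10, 22, 38] g) (wds g c5tn1y54_W) 3 pt 4560 (c5tl7.Pt 0) (fun _ => nat_lit 1) :=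
  node M (c5t_S7 M) (c5th_act M) (X5_act M) (c5tn1y54_act M) c5tn3 ((c5tr3k_act M).mono (by decide)) (fun _ _ => trivial) c5tn3_0 c5tn3_1 (List.forall_mem_nil _)
theorem c5tr3 {G Ω : Type*} [Group G] [MulAction G Ω] {g : ℕ → G} {pt : ℕ → Ω}
    (M : Md g pt F_P 4560 40 H15.XCo1C.B 178362777600) : Ref (gen (wds g c5th_W) (topK [c5tl7, c5tl8, c5tl9, c5tl10])) (rl [10, 22, 38] g) (wds g c5tn1y54_W) 3 :=
  (c5tn3_t M).ref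
theorem c5tn1y4522_act {G Ω : Type*} [Group G] [MulAction G Ω] {g : ℕ → G} {pt : ℕ → Ω}
    (M : Md g pt F_P 4560 40 H15.XCo1C.B 178362777600) : Act (wds g c5tn1y4522_W) pt c5tn1y4522_P 4560 3 :=
  M.wact c5tn1y4522_lt
theorem c5tr4k_act {G Ω : Type*} [Group G] [MulAction G Ω] {g : ℕ → G} {pt : ℕ → Ω}
    (M : Md g pt F_P 4560 40 H15.XCo1C.B 178362777600) : Act (wds g c5tr4k_W) pt c5tr4k_P 4560 3 :=
  M.wact c5tr4k_lt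
theorem c5tn4_1 : ∀ i < 32, (c5tn4.ent F_P c5th_P (rl [nat_lit 10, nat_lit 22, nat_lit 38] F_P) c5tn1y4522_P c5tr4k_P (nat_lit 40) (nat_lit 3) H15.XCo1C.B c5tl7 [c5tl8, c5tl9, c5tl10] (fun _ => nat_lit 1)) i = 0 := allZ_sound0 c5tn4_1_0
theorem c5tn4_t {G Ω : Type*} [Group G] [MulAction G Ω] {g : ℕ → G} {pt : ℕ → Ω}
    (M : Md g pt F_P 4560 40 H15.XCo1C.B 178362777600) : TrO (gen (wds g c5th_W) c5tl7.K) (rl [10, 22, 38] g) (wds g c5tn1y4522_W) 3 pt 4560 (c5tl7.Pt 0) (fun _ => nat_lit 1) :=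
  node M (c5t_S7 M) (c5th_act M) (X5_act M) (c5tn1y4522_act M) c5tn4 ((c5tr4k_act M).mono (by decide)) (fun _ _ => trivial) c5tn4_0 c5tn4_1 (List.forall_mem_nil _)
theorem c5tr4 {G Ω : Type*} [Group G] [MulAction G Ω] {g : ℕ → G} {pt : ℕ → Ω}
    (M : Md g pt F_P 4560 40 H15.XCo1C.B 178362777600) : Ref (gen (wds g c5th_W) (topK [c5tl7, c5tl8, c5tl9, c5tl10])) (rl [10, 22, 38] g) (wds g c5tn1y4522_W) 3 :=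
  (c5tn4_t M).ref
theorem c5tn1y3747_act {G Ω : Type*} [Group G] [MulAction G Ω] {g : ℕ → G} {pt : ℕ → Ω}
    (M : Md g pt F_P 4560 40 H15.XCo1C.B 178362777600) : Act (wds g c5tn1y3747_W) pt c5tn1y3747_P 4560 3 :=
  M.wact c5tn1y3747_lt
theorem c5tr5k_act {G Ω : Type*} [Group G] [MulAction G Ω] {g : ℕ → G} {pt : ℕ → Ω}
    (M : Md g pt F_P 4560 40 H15.XCo1C.B 178362777600) : Act (wds g c5tr5k_W) pt c5tr5k_P 4560 3 :=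
  M.wact c5tr5k_lt
theorem c5tn5_1 : ∀ i < 32, (c5tn5.ent F_P c5th_P (rl [nat_lit 10, nat_lit 22, nat_lit 38] F_P) c5tn1y3747_P c5tr5k_P (nat_lit 40) (nat_lit 3) H15.XCo1C.B c5tl7 [c5tl8, c5tl9, c5tl10] (fun _ => nat_lit 1)) i = 0 := allZ_sound0 c5tn5_1_0
theorem c5tn5_t {G Ω : Type*} [Group G] [MulAction G Ω] {g : ℕ → G} {pt : ℕ → Ω}
    (M : Md g pt F_P 4560 40 H15.XCo1C.B 178362777600) : TrO (gen (wds g c5th_W) c5tl7.K) (rl [10, 22, 38] g) (wds g c5tn1y3747_W) 3 pt 4560 (c5tl7.Pt 0) (fun _ => nat_lit 1) :=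
  node M (c5t_S7 M) (c5th_act M) (X5_act M) (c5tn1y3747_act M) c5tn5 ((c5tr5k_act M).mono (by decide)) (fun _ _ => trivial) c5tn5_0 c5tn5_1 (List.forall_mem_nil _)
theorem c5tr5 {G Ω : Type*} [Group G] [MulAction G Ω] {g : ℕ → G} {pt : ℕ → Ω}
    (M : Md g pt F_P 4560 40 H15.XCo1C.B 178362777600) : Ref (gen (wds g c5th_W) (topK [c5tl7, c5tl8, c5tl9, c5tl10])) (rl [10, 22, 38] g) (wds g c5tn1y3747_W) 3 :=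
  (c5tn5_t M).ref
theorem c5tn1_1 : ∀ i < 240, (c5tn1.ent F_P c5th_P (rl [nat_lit 10, nat_lit 22, nat_lit 38] F_P) (rl [nat_lit 10, nat_lit 22, nat_lit 38] F_P) c5e_P (nat_lit 40) (nat_lit 3) H15.XCo1C.B c5tl0 [c5tl1, c5tl2, c5tl3, c5tl4, c5tl5, c5tl6, c5tl7, c5tl8, c5tl9, c5tl10] (memO c5c0)) i = 0 := allZ_sound0 c5tn1_1_0
theorem c5tn1_t {G Ω : Type*} [Group G] [MulAction G Ω] {g : ℕ → G} {pt : ℕ → Ω}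
    (M : Md g pt F_P 4560 40 H15.XCo1C.B 178362777600) : TrO (gen (wds g c5th_W) c5tl0.K) (rl [10, 22, 38] g) (rl [10, 22, 38] g) 3 pt 4560 (c5tl0.Pt 0) (memO c5c0) :=
  node M (c5t_S0 M) (c5th_act M) (X5_act M) (X5_act M) c5tn1 ((c5e_act M).mono (by decide)) (fun _ _ => trivial) c5tn1_0 c5tn1_1 (List.forall_mem_cons.2 ⟨c5tr2 M, List.forall_mem_cons.2 ⟨c5tr3 M, List.forall_mem_cons.2 ⟨c5tr4 M, List.forall_mem_cons.2 ⟨c5tr5 M, List.forall_mem_nil _⟩⟩⟩⟩)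
theorem c5 {G Ω : Type*} [Group G] [MulAction G Ω] {g : ℕ → G} {pt : ℕ → Ω}
    (M : Md g pt F_P 4560 40 H15.XCo1C.B 178362777600) : Cen ⊤ (rl [10, 22, 38] g) 3 (wds g c5e_W) pt 4560 [c5c0, c5c7] :=
  (c5t_S0 M).top ▸ Cen.lev M (c5t_S0 M) (Cen.triv (c5t_S1 M) (Cen.triv (c5t_S2 M) (Cen.triv (c5t_S3 M) (Cen.triv (c5t_S4 M) (Cen.triv (c5t_S5 M) (Cen.triv (c5t_S6 M) (Cen.lev M (c5t_S7 M) (Cen.triv (c5t_S8 M) (Cen.triv (c5t_S9 M) (Cen.triv (c5t_S10 M) (Cen.bot) (forced (c5t_S10 M) (c5th_act M) (X5_act M) _ _ c5_f10)) (forced (c5t_S9 M) (c5th_act M) (X5_act M) _ _ c5_f9)) (forced (c5t_S8 M) (c5th_act M) (X5_act M) _ _ c5_f8)) (c5tn0_t M) (X5_act M) (c5e_act M) (fun _ _ => trivial) c5c7_ok c5_f7) (forced (c5t_S6 M) (c5th_act M) (X5_act M) _ _ c5_f6)) (forced (c5t_S5 M) (c5th_act M) (X5_act M) _ _ c5_f5)) (forced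 (c5t_S4 M) (c5th_act M) (X5_act M) _ _ c5_f4)) (forced (c5t_S3 M) (c5th_act M) (X5_act M) _ _ c5_f3)) (forced (c5t_S2 M) (c5th_act M) (X5_act M) _ _ c5_f2)) (forced (c5t_S1 M) (c5th_act M) (X5_act M) _ _ c5_f1)) (c5tn1_t M) (X5_act M) (c5e_act M) (fun _ _ => trivial) c5c0_ok c5_f0
theorem c5_eq {G Ω : Type*} [Group G] [MulAction G Ω] {g : ℕ → G} {pt : ℕ → Ω}
    (M : Md g pt F_P 4560 40 H15.XCo1C.B 178362777600) : Subgroup.centralizer (gen (rl [10, 22, 38] g) 3) = gen (wds g c5e_W) 5 ∧ Nat.card (gen (wds g c5e_W) 5) = 384 :=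
  c5_c.1 ▸ c5_c.2 ▸ ⟨(c5 M).cent, (c5 M).card M.inj⟩
theorem c5_le {G Ω : Type*} [Group G] [MulAction G Ω] {g : ℕ → G} {pt : ℕ → Ω}
    (M : Md g pt F_P 4560 40 H15.XCo1C.B 178362777600) : gen (wds g c5e_W) 5 ≤ gen (rl [32, 33, 24, 14] g) 4 :=
  M.gen_le (Y5_act M) (c5e_act M) c5_le_k
theorem XS_act {G Ω : Type*} [Group G] [MulAction G Ω] {g : ℕ → G} {pt : ℕ → Ω}
    (M : Md g pt F_P 4560 40 H15.XCo1C.B 178362777600) : Act (rl [10] g) pt (rl [nat_lit 10] F_P) 4560 1 :=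
  M.act.rl (by decide)
theorem YS_act {G Ω : Type*} [Group G] [MulAction G Ω] {g : ℕ → G} {pt : ℕ → Ω}
    (M : Md g pt F_P 4560 40 H15.XCo1C.B 178362777600) : Act (rl [20, 22, 24, 32, 33, 14] g) pt (rl [nat_lit 20, nat_lit 22, nat_lit 24, nat_lit 32, nat_lit 33, nat_lit 14] F_P) 4560 6 :=
  M.act.rl (by decide)
theorem cSth_act {G Ω : Type*} [Group G] [MulAction G Ω] {g : ℕ → G} {pt : ℕ → Ω}
    (M : Md g pt F_P 4560 40 H15.XCo1C.B 178362777600) : Act (wds g cSth_W) pt cSth_P 4560 52 :=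
  M.wact cSth_lt
theorem cStl0_e : ∀ i < 4319, (dent cStl0 cSth_P (nat_lit 4560)) i = 0 := allZ_sound0 cStl0_e_0
theorem cStl0_ok : DOK cStl0 cSth_P 4560 := ⟨cStl0_h, cStl0_e⟩
theorem cStl1_e : ∀ i < 29, (dent cStl1 cSth_P (nat_lit 4560)) i = 0 := allZ_sound0 cStl1_e_0
theorem cStl1_ok : DOK cStl1 cSth_P 4560 := ⟨cStl1_h, cStl1_e⟩
theorem cStl2_e : ∀ i < 27, (dent cStl2 cSth_P (nat_lit 4560)) i = 0 := allZ_sound0 cStl2_e_0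
theorem cStl2_ok : DOK cStl2 cSth_P 4560 := ⟨cStl2_h, cStl2_e⟩
theorem cStl3_e : ∀ i < 1, (dent cStl3 cSth_P (nat_lit 4560)) i = 0 := allZ_sound0 cStl3_e_0
theorem cStl3_ok : DOK cStl3 cSth_P 4560 := ⟨cStl3_h, cStl3_e⟩
theorem cStl4_e : ∀ i < 23, (dent cStl4 cSth_P (nat_lit 4560)) i = 0 := allZ_sound0 cStl4_e_0
theorem cStl4_ok : DOK cStl4 cSth_P 4560 := ⟨cStl4_h, cStl4_e⟩
theorem cStl5_e : ∀ i < 1, (dent cStl5 cSth_P (nat_lit 4560)) i = 0 := allZ_sound0 cStl5_e_0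
theorem cStl5_ok : DOK cStl5 cSth_P 4560 := ⟨cStl5_h, cStl5_e⟩
theorem cStl6_e : ∀ i < 1, (dent cStl6 cSth_P (nat_lit 4560)) i = 0 := allZ_sound0 cStl6_e_0
theorem cStl6_ok : DOK cStl6 cSth_P 4560 := ⟨cStl6_h, cStl6_e⟩
theorem cStl7_e : ∀ i < 15, (dent cStl7 cSth_P (nat_lit 4560)) i = 0 := allZ_sound0 cStl7_e_0
theorem cStl7_ok : DOK cStl7 cSth_P 4560 := ⟨cStl7_h, cStl7_e⟩
theorem cStl8_e : ∀ i < 1, (dent cStl8 cSth_P (nat_lit 4560)) i = 0 := allZ_sound0 cStl8_e_0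
theorem cStl8_ok : DOK cStl8 cSth_P 4560 := ⟨cStl8_h, cStl8_e⟩
theorem cStl9_e : ∀ i < 1, (dent cStl9 cSth_P (nat_lit 4560)) i = 0 := allZ_sound0 cStl9_e_0
theorem cStl9_ok : DOK cStl9 cSth_P 4560 := ⟨cStl9_h, cStl9_e⟩
theorem cStl10_e : ∀ i < 1, (dent cStl10 cSth_P (nat_lit 4560)) i = 0 := allZ_sound0 cStl10_e_0
theorem cStl10_ok : DOK cStl10 cSth_P 4560 := ⟨cStl10_h, cStl10_e⟩
theorem cStl11_e : ∀ i < 1, (dent cStl11 cSth_P (nat_lit 4560)) i = 0 := allZ_sound0 cStl11_e_0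
theorem cStl11_ok : DOK cStl11 cSth_P 4560 := ⟨cStl11_h, cStl11_e⟩
theorem cSt_low {G Ω : Type*} [Group G] [MulAction G Ω] {g : ℕ → G} {pt : ℕ → Ω}
    (M : Md g pt F_P 4560 40 H15.XCo1C.B 178362777600) : SLow (gi (wds g cSth_W)) pt 4560 [cStl0, cStl1, cStl2, cStl3, cStl4, cStl5, cStl6, cStl7, cStl8, cStl9, cStl10, cStl11] :=
  ((((((((((((SLow.nil).cons cStl11_ok (cSth_act M) cSt_f11).cons cStl10_ok (cSth_act M) cSt_f10).cons cStl9_ok (cSth_act M) cSt_f9).cons cStl8_ok (cSth_act M) cSt_f8).cons cStl7_ok (cSth_act M) cSt_f7).cons cStl6_ok (cSth_act M) cSt_f6).cons cStl5_ok (cSth_act M) cSt_f5).cons cStl4_ok (cSth_act M) cSt_f4).cons cStl3_ok (cSth_act M) cSt_f3).cons cStl2_ok (cSth_act M) cSt_f2).cons cStl1_ok (cSth_act M) cSt_f1).cons cStl0_ok (cSth_act M) cSt_f0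
theorem cSt_S0 {G Ω : Type*} [Group G] [MulAction G Ω] {g : ℕ → G} {pt : ℕ → Ω}
    (M : Md g pt F_P 4560 40 H15.XCo1C.B 178362777600) : Stage ⊤ (wds g cSth_W) pt 4560 [cStl0, cStl1, cStl2, cStl3, cStl4, cStl5, cStl6, cStl7, cStl8, cStl9, cStl10, cStl11] [] :=
  M.stage (cSt_low M) cSt_c
theorem cSt_S1 {G Ω : Type*} [Group G] [MulAction G Ω] {g : ℕ → G} {pt : ℕ → Ω}
    (M : Md g pt F_P 4560 40 H15.XCo1C.B 178362777600) : Stage ⊤ (wds g cSth_W) pt 4560 [cStl1, cStl2, cStl3, cStl4, cStl5, cStl6, cStl7, cStl8, cStl9, cStl10, cStl11] [cStl0.Pt 0] :=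
  (cSt_S0 M).next
theorem cSt_S2 {G Ω : Type*} [Group G] [MulAction G Ω] {g : ℕ → G} {pt : ℕ → Ω}
    (M : Md g pt F_P 4560 40 H15.XCo1C.B 178362777600) : Stage ⊤ (wds g cSth_W) pt 4560 [cStl2, cStl3, cStl4, cStl5, cStl6, cStl7, cStl8, cStl9, cStl10, cStl11] [cStl1.Pt 0, cStl0.Pt 0] :=
  (cSt_S1 M).next
theorem cSt_S3 {G Ω : Type*} [Group G] [MulAction G Ω] {g : ℕ → G} {pt : ℕ → Ω}
    (M : Md g pt F_P 4560 40 H15.XCo1C.B 178362777600) : Stage ⊤ (wds g cSth_W) pt 4560 [cStl3, cStl4, cStl5, cStl6, cStl7, cStl8, cStl9, cStl10, cStl11] [cStl2.Pt 0, cStl1.Pt 0, cStl0.Pt 0] :=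
  (cSt_S2 M).next
theorem cSt_S4 {G Ω : Type*} [Group G] [MulAction G Ω] {g : ℕ → G} {pt : ℕ → Ω}
    (M : Md g pt F_P 4560 40 H15.XCo1C.B 178362777600) : Stage ⊤ (wds g cSth_W) pt 4560 [cStl4, cStl5, cStl6, cStl7, cStl8, cStl9, cStl10, cStl11] [cStl3.Pt 0, cStl2.Pt 0, cStl1.Pt 0, cStl0.Pt 0] :=
  (cSt_S3 M).next
theorem cSt_S5 {G Ω : Type*} [Group G] [MulAction G Ω] {g : ℕ → G} {pt : ℕ → Ω}
    (M : Md g pt F_P 4560 40 H15.XCo1C.B 178362777600) : Stage ⊤ (wds g cSth_W) pt 4560 [cStl5, cStl6, cStl7, cStl8, cStl9, cStl10, cStl11] [cStl4.Pt 0, cStl3.Pt 0, cStl2.Pt 0, cStl1.Pt 0, cStl0.Pt 0] :=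
  (cSt_S4 M).next
theorem cSt_S6 {G Ω : Type*} [Group G] [MulAction G Ω] {g : ℕ → G} {pt : ℕ → Ω}
    (M : Md g pt F_P 4560 40 H15.XCo1C.B 178362777600) : Stage ⊤ (wds g cSth_W) pt 4560 [cStl6, cStl7, cStl8, cStl9, cStl10, cStl11] [cStl5.Pt 0, cStl4.Pt 0, cStl3.Pt 0, cStl2.Pt 0, cStl1.Pt 0, cStl0.Pt 0] :=
  (cSt_S5 M).next
theorem cSt_S7 {G Ω : Type*} [Group G] [MulAction G Ω] {g : ℕ → G} {pt : ℕ → Ω}
    (M : Md g pt F_P 4560 40 H15.XCo1C.B 178362777600) : Stage ⊤ (wds g cSth_W) pt 4560 [cStl7, cStl8, cStl9, cStl10, cStl11] [cStl6.Pt 0, cStl5.Pt 0, cStl4.Pt 0, cStl3.Pt 0, cStl2.Pt 0, cStl1.Pt 0, cStl0.Pt 0] :=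
  (cSt_S6 M).next
theorem cSt_S8 {G Ω : Type*} [Group G] [MulAction G Ω] {g : ℕ → G} {pt : ℕ → Ω}
    (M : Md g pt F_P 4560 40 H15.XCo1C.B 178362777600) : Stage ⊤ (wds g cSth_W) pt 4560 [cStl8, cStl9, cStl10, cStl11] [cStl7.Pt 0, cStl6.Pt 0, cStl5.Pt 0, cStl4.Pt 0, cStl3.Pt 0, cStl2.Pt 0, cStl1.Pt 0, cStl0.Pt 0] :=
  (cSt_S7 M).next
theorem cSt_S9 {G Ω : Type*} [Group G] [MulAction G Ω] {g : ℕ → G} {pt : ℕ → Ω}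
    (M : Md g pt F_P 4560 40 H15.XCo1C.B 178362777600) : Stage ⊤ (wds g cSth_W) pt 4560 [cStl9, cStl10, cStl11] [cStl8.Pt 0, cStl7.Pt 0, cStl6.Pt 0, cStl5.Pt 0, cStl4.Pt 0, cStl3.Pt 0, cStl2.Pt 0, cStl1.Pt 0, cStl0.Pt 0] :=
  (cSt_S8 M).next
theorem cSt_S10 {G Ω : Type*} [Group G] [MulAction G Ω] {g : ℕ → G} {pt : ℕ → Ω}
    (M : Md g pt F_P 4560 40 H15.XCo1C.B 178362777600) : Stage ⊤ (wds g cSth_W) pt 4560 [cStl10, cStl11] [cStl9.Pt 0, cStl8.Pt 0, cStl7.Pt 0, cStl6.Pt 0, cStl5.Pt 0, cStl4.Pt 0, cStl3.Pt 0, cStl2.Pt 0, cStl1.Pt 0, cStl0.Pt 0] :=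
  (cSt_S9 M).next
theorem cSt_S11 {G Ω : Type*} [Group G] [MulAction G Ω] {g : ℕ → G} {pt : ℕ → Ω}
    (M : Md g pt F_P 4560 40 H15.XCo1C.B 178362777600) : Stage ⊤ (wds g cSth_W) pt 4560 [cStl11] [cStl10.Pt 0, cStl9.Pt 0, cStl8.Pt 0, cStl7.Pt 0, cStl6.Pt 0, cStl5.Pt 0, cStl4.Pt 0, cStl3.Pt 0, cStl2.Pt 0, cStl1.Pt 0, cStl0.Pt 0] :=
  (cSt_S10 M).next
theorem cSt_S12 {G Ω : Type*} [Group G] [MulAction G Ω] {g : ℕ → G} {pt : ℕ → Ω}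
    (M : Md g pt F_P 4560 40 H15.XCo1C.B 178362777600) : Stage ⊤ (wds g cSth_W) pt 4560 [] [cStl11.Pt 0, cStl10.Pt 0, cStl9.Pt 0, cStl8.Pt 0, cStl7.Pt 0, cStl6.Pt 0, cStl5.Pt 0, cStl4.Pt 0, cStl3.Pt 0, cStl2.Pt 0, cStl1.Pt 0, cStl0.Pt 0] :=
  (cSt_S11 M).next
theorem cSe_act {G Ω : Type*} [Group G] [MulAction G Ω] {g : ℕ → G} {pt : ℕ → Ω}
    (M : Md g pt F_P 4560 40 H15.XCo1C.B 178362777600) : Act (wds g cSe_W) pt cSe_P 4560 13 :=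
  M.wact cSe_lt
theorem cSc11_e : ∀ i < 1, (dent cSc11 cSe_P (nat_lit 4560)) i = 0 := allZ_sound0 cSc11_e_0
theorem cSc11_ok : DOK cSc11 cSe_P 4560 := ⟨cSc11_h, cSc11_e⟩
theorem cStn0_1 : ∀ i < 2, (cStn0.ent F_P cSth_P (rl [nat_lit 10] F_P) (rl [nat_lit 10] F_P) cSe_P (nat_lit 40) (nat_lit 1) H15.XCo1C.B cStl11 [] (memO cSc11)) i = 0 := allZ_sound0 cStn0_1_0
theorem cStn0_t {G Ω : Type*} [Group G] [MulAction G Ω] {g : ℕ → G} {pt : ℕ → Ω}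
    (M : Md g pt F_P 4560 40 H15.XCo1C.B 178362777600) : TrO (gen (wds g cSth_W) cStl11.K) (rl [10] g) (rl [10] g) 1 pt 4560 (cStl11.Pt 0) (memO cSc11) :=
  node M (cSt_S11 M) (cSth_act M) (XS_act M) (XS_act M) cStn0 ((cSe_act M).mono (by decide)) (fun _ _ => trivial) cStn0_0 cStn0_1 (List.forall_mem_nil _)
theorem cSc10_e : ∀ i < 1, (dent cSc10 cSe_P (nat_lit 4560)) i = 0 := allZ_sound0 cSc10_e_0
theorem cSc10_ok : DOK cSc10 cSe_P 4560 := ⟨cSc10_h, cSc10_e⟩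
theorem cStn1_1 : ∀ i < 2, (cStn1.ent F_P cSth_P (rl [nat_lit 10] F_P) (rl [nat_lit 10] F_P) cSe_P (nat_lit 40) (nat_lit 1) H15.XCo1C.B cStl10 [cStl11] (memO cSc10)) i = 0 := allZ_sound0 cStn1_1_0
theorem cStn1_t {G Ω : Type*} [Group G] [MulAction G Ω] {g : ℕ → G} {pt : ℕ → Ω}
    (M : Md g pt F_P 4560 40 H15.XCo1C.B 178362777600) : TrO (gen (wds g cSth_W) cStl10.K) (rl [10] g) (rl [10] g) 1 pt 4560 (cStl10.Pt 0) (memO cSc10) :=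
  node M (cSt_S10 M) (cSth_act M) (XS_act M) (XS_act M) cStn1 ((cSe_act M).mono (by decide)) (fun _ _ => trivial) cStn1_0 cStn1_1 (List.forall_mem_nil _)
theorem cSc9_e : ∀ i < 1, (dent cSc9 cSe_P (nat_lit 4560)) i = 0 := allZ_sound0 cSc9_e_0
theorem cSc9_ok : DOK cSc9 cSe_P 4560 := ⟨cSc9_h, cSc9_e⟩
theorem cStn2_1 : ∀ i < 2, (cStn2.ent F_P cSth_P (rl [nat_lit 10] F_P) (rl [nat_lit 10] F_P) cSe_P (nat_lit 40) (nat_lit 1) H15.XCo1C.B cStl9 [cStl10, cStl11] (memO cSc9)) i = 0 := allZ_sound0 cStn2_1_0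
theorem cStn2_t {G Ω : Type*} [Group G] [MulAction G Ω] {g : ℕ → G} {pt : ℕ → Ω}
    (M : Md g pt F_P 4560 40 H15.XCo1C.B 178362777600) : TrO (gen (wds g cSth_W) cStl9.K) (rl [10] g) (rl [10] g) 1 pt 4560 (cStl9.Pt 0) (memO cSc9) :=
  node M (cSt_S9 M) (cSth_act M) (XS_act M) (XS_act M) cStn2 ((cSe_act M).mono (by decide)) (fun _ _ => trivial) cStn2_0 cStn2_1 (List.forall_mem_nil _)
theorem cSc8_e : ∀ i < 1, (dent cSc8 cSe_P (nat_lit 4560)) i = 0 := allZ_sound0 cSc8_e_0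
theorem cSc8_ok : DOK cSc8 cSe_P 4560 := ⟨cSc8_h, cSc8_e⟩
theorem cStn3_1 : ∀ i < 2, (cStn3.ent F_P cSth_P (rl [nat_lit 10] F_P) (rl [nat_lit 10] F_P) cSe_P (nat_lit 40) (nat_lit 1) H15.XCo1C.B cStl8 [cStl9, cStl10, cStl11] (memO cSc8)) i = 0 := allZ_sound0 cStn3_1_0
theorem cStn3_t {G Ω : Type*} [Group G] [MulAction G Ω] {g : ℕ → G} {pt : ℕ → Ω}
    (M : Md g pt F_P 4560 40 H15.XCo1C.B 178362777600) : TrO (gen (wds g cSth_W) cStl8.K) (rl [10] g) (rl [10] g) 1 pt 4560 (cStl8.Pt 0) (memO cSc8) :=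
  node M (cSt_S8 M) (cSth_act M) (XS_act M) (XS_act M) cStn3 ((cSe_act M).mono (by decide)) (fun _ _ => trivial) cStn3_0 cStn3_1 (List.forall_mem_nil _)
theorem cSc7_e : ∀ i < 7, (dent cSc7 cSe_P (nat_lit 4560)) i = 0 := allZ_sound0 cSc7_e_0
theorem cSc7_ok : DOK cSc7 cSe_P 4560 := ⟨cSc7_h, cSc7_e⟩
theorem cStn4_1 : ∀ i < 16, (cStn4.ent F_P cSth_P (rl [nat_lit 10] F_P) (rl [nat_lit 10] F_P) cSe_P (nat_lit 40) (nat_lit 1) H15.XCo1C.B cStl7 [cStl8, cStl9, cStl10, cStl11] (memO cSc7)) i = 0 := allZ_sound0 cStn4_1_0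
theorem cStn4_t {G Ω : Type*} [Group G] [MulAction G Ω] {g : ℕ → G} {pt : ℕ → Ω}
    (M : Md g pt F_P 4560 40 H15.XCo1C.B 178362777600) : TrO (gen (wds g cSth_W) cStl7.K) (rl [10] g) (rl [10] g) 1 pt 4560 (cStl7.Pt 0) (memO cSc7) :=
  node M (cSt_S7 M) (cSth_act M) (XS_act M) (XS_act M) cStn4 ((cSe_act M).mono (by decide)) (fun _ _ => trivial) cStn4_0 cStn4_1 (List.forall_mem_nil _)
theorem cSc6_e : ∀ i < 1, (dent cSc6 cSe_P (nat_lit 4560)) i = 0 := allZ_sound0 cSc6_e_0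
theorem cSc6_ok : DOK cSc6 cSe_P 4560 := ⟨cSc6_h, cSc6_e⟩
theorem cStn5_1 : ∀ i < 2, (cStn5.ent F_P cSth_P (rl [nat_lit 10] F_P) (rl [nat_lit 10] F_P) cSe_P (nat_lit 40) (nat_lit 1) H15.XCo1C.B cStl6 [cStl7, cStl8, cStl9, cStl10, cStl11] (memO cSc6)) i = 0 := allZ_sound0 cStn5_1_0
theorem cStn5_t {G Ω : Type*} [Group G] [MulAction G Ω] {g : ℕ → G} {pt : ℕ → Ω}
    (M : Md g pt F_P 4560 40 H15.XCo1C.B 178362777600) : TrO (gen (wds g cSth_W) cStl6.K) (rl [10] g) (rl [10] g) 1 pt 4560 (cStl6.Pt 0) (memO cSc6) :=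
  node M (cSt_S6 M) (cSth_act M) (XS_act M) (XS_act M) cStn5 ((cSe_act M).mono (by decide)) (fun _ _ => trivial) cStn5_0 cStn5_1 (List.forall_mem_nil _)
theorem cSc5_e : ∀ i < 1, (dent cSc5 cSe_P (nat_lit 4560)) i = 0 := allZ_sound0 cSc5_e_0
theorem cSc5_ok : DOK cSc5 cSe_P 4560 := ⟨cSc5_h, cSc5_e⟩
theorem cStn6_1 : ∀ i < 2, (cStn6.ent F_P cSth_P (rl [nat_lit 10] F_P) (rl [nat_lit 10] F_P) cSe_P (nat_lit 40) (nat_lit 1) H15.XCo1C.B cStl5 [cStl6, cStl7, cStl8, cStl9, cStl10, cStl11] (memO cSc5)) i = 0 := allZ_sound0 cStn6_1_0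
theorem cStn6_t {G Ω : Type*} [Group G] [MulAction G Ω] {g : ℕ → G} {pt : ℕ → Ω}
    (M : Md g pt F_P 4560 40 H15.XCo1C.B 178362777600) : TrO (gen (wds g cSth_W) cStl5.K) (rl [10] g) (rl [10] g) 1 pt 4560 (cStl5.Pt 0) (memO cSc5) :=
  node M (cSt_S5 M) (cSth_act M) (XS_act M) (XS_act M) cStn6 ((cSe_act M).mono (by decide)) (fun _ _ => trivial) cStn6_0 cStn6_1 (List.forall_mem_nil _)
theorem cSc4_e : ∀ i < 11, (dent cSc4 cSe_P (nat_lit 4560)) i = 0 := allZ_sound0 cSc4_e_0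
theorem cSc4_ok : DOK cSc4 cSe_P 4560 := ⟨cSc4_h, cSc4_e⟩
theorem cStn7_1 : ∀ i < 24, (cStn7.ent F_P cSth_P (rl [nat_lit 10] F_P) (rl [nat_lit 10] F_P) cSe_P (nat_lit 40) (nat_lit 1) H15.XCo1C.B cStl4 [cStl5, cStl6, cStl7, cStl8, cStl9, cStl10, cStl11] (memO cSc4)) i = 0 := allZ_sound0 cStn7_1_0
theorem cStn7_t {G Ω : Type*} [Group G] [MulAction G Ω] {g : ℕ → G} {pt : ℕ → Ω}
    (M : Md g pt F_P 4560 40 H15.XCo1C.B 178362777600) : TrO (gen (wds g cSth_W) cStl4.K) (rl [10] g) (rl [10] g) 1 pt 4560 (cStl4.Pt 0) (memO cSc4) :=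
  node M (cSt_S4 M) (cSth_act M) (XS_act M) (XS_act M) cStn7 ((cSe_act M).mono (by decide)) (fun _ _ => trivial) cStn7_0 cStn7_1 (List.forall_mem_nil _)
theorem cSc3_e : ∀ i < 1, (dent cSc3 cSe_P (nat_lit 4560)) i = 0 := allZ_sound0 cSc3_e_0
theorem cSc3_ok : DOK cSc3 cSe_P 4560 := ⟨cSc3_h, cSc3_e⟩
theorem cStn8_1 : ∀ i < 2, (cStn8.ent F_P cSth_P (rl [nat_lit 10] F_P) (rl [nat_lit 10] F_P) cSe_P (nat_lit 40) (nat_lit 1) H15.XCo1C.B cStl3 [cStl4, cStl5, cStl6, cStl7, cStl8, cStl9, cStl10, cStl11] (memO cSc3)) i = 0 := allZ_sound0 cStn8_1_0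
theorem cStn8_t {G Ω : Type*} [Group G] [MulAction G Ω] {g : ℕ → G} {pt : ℕ → Ω}
    (M : Md g pt F_P 4560 40 H15.XCo1C.B 178362777600) : TrO (gen (wds g cSth_W) cStl3.K) (rl [10] g) (rl [10] g) 1 pt 4560 (cStl3.Pt 0) (memO cSc3) :=
  node M (cSt_S3 M) (cSth_act M) (XS_act M) (XS_act M) cStn8 ((cSe_act M).mono (by decide)) (fun _ _ => trivial) cStn8_0 cStn8_1 (List.forall_mem_nil _)
theorem cSc2_e : ∀ i < 13, (dent cSc2 cSe_P (nat_lit 4560)) i = 0 := allZ_sound0 cSc2_e_0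
theorem cSc2_ok : DOK cSc2 cSe_P 4560 := ⟨cSc2_h, cSc2_e⟩
theorem cStn9_1 : ∀ i < 28, (cStn9.ent F_P cSth_P (rl [nat_lit 10] F_P) (rl [nat_lit 10] F_P) cSe_P (nat_lit 40) (nat_lit 1) H15.XCo1C.B cStl2 [cStl3, cStl4, cStl5, cStl6, cStl7, cStl8, cStl9, cStl10, cStl11] (memO cSc2)) i = 0 := allZ_sound0 cStn9_1_0
theorem cStn9_t {G Ω : Type*} [Group G] [MulAction G Ω] {g : ℕ → G} {pt : ℕ → Ω}
    (M : Md g pt F_P 4560 40 H15.XCo1C.B 178362777600) : TrO (gen (wds g cSth_W) cStl2.K) (rl [10] g) (rl [10] g) 1 pt 4560 (cStl2.Pt 0) (memO cSc2) :=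
  node M (cSt_S2 M) (cSth_act M) (XS_act M) (XS_act M) cStn9 ((cSe_act M).mono (by decide)) (fun _ _ => trivial) cStn9_0 cStn9_1 (List.forall_mem_nil _)
theorem cSc0_e : ∀ i < 3839, (dent cSc0 cSe_P (nat_lit 4560)) i = 0 := allZ_sound0 cSc0_e_0
theorem cSc0_ok : DOK cSc0 cSe_P 4560 := ⟨cSc0_h, cSc0_e⟩
theorem cStn10_1 : ∀ i < 4320, (cStn10.ent F_P cSth_P (rl [nat_lit 10] F_P) (rl [nat_lit 10] F_P) cSe_P (nat_lit 40) (nat_lit 1) H15.XCo1C.B cStl0 [cStl1, cStl2, cStl3, cStl4, cStl5, cStl6, cStl7, cStl8, cStl9, cStl10, cStl11] (memO cSc0)) i = 0 := allZ_sound0 cStn10_1_0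
theorem cStn10_t {G Ω : Type*} [Group G] [MulAction G Ω] {g : ℕ → G} {pt : ℕ → Ω}
    (M : Md g pt F_P 4560 40 H15.XCo1C.B 178362777600) : TrO (gen (wds g cSth_W) cStl0.K) (rl [10] g) (rl [10] g) 1 pt 4560 (cStl0.Pt 0) (memO cSc0) :=
  node M (cSt_S0 M) (cSth_act M) (XS_act M) (XS_act M) cStn10 ((cSe_act M).mono (by decide)) (fun _ _ => trivial) cStn10_0 cStn10_1 (List.forall_mem_nil _)
theorem cS {G Ω : Type*} [Group G] [MulAction G Ω] {g : ℕ → G} {pt : ℕ → Ω}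
    (M : Md g pt F_P 4560 40 H15.XCo1C.B 178362777600) : Cen ⊤ (rl [10] g) 1 (wds g cSe_W) pt 4560 [cSc0, cSc2, cSc3, cSc4, cSc5, cSc6, cSc7, cSc8, cSc9, cSc10, cSc11] :=
  (cSt_S0 M).top ▸ Cen.lev M (cSt_S0 M) (Cen.triv (cSt_S1 M) (Cen.lev M (cSt_S2 M) (Cen.lev M (cSt_S3 M) (Cen.lev M (cSt_S4 M) (Cen.lev M (cSt_S5 M) (Cen.lev M (cSt_S6 M) (Cen.lev M (cSt_S7 M) (Cen.lev M (cSt_S8 M) (Cen.lev M (cSt_S9 M) (Cen.lev M (cSt_S10 M) (Cen.lev M (cSt_S11 M) (Cen.bot) (cStn0_t M) (XS_act M) (cSe_act M) (fun _ _ => trivial) cSc11_ok cS_f11) (cStn1_t M) (XS_act M) (cSe_act M) (fun _ _ => trivial) cSc10_ok cS_f10) (cStn2_t M) (XS_act M) (cSe_act M) (fun _ _ => trivial) cSc9_ok cS_f9) (cStn3_t M) (XS_act M) (cSe_act M) (fun _ _ => trivial) cSc8_ok cS_f8) (cStn4_t M) (XS_act M) (cSe_act M) (fun _ _ => trivial) cSc7_ok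 cS_f7) (cStn5_t M) (XS_act M) (cSe_act M) (fun _ _ => trivial) cSc6_ok cS_f6) (cStn6_t M) (XS_act M) (cSe_act M) (fun _ _ => trivial) cSc5_ok cS_f5) (cStn7_t M) (XS_act M) (cSe_act M) (fun _ _ => trivial) cSc4_ok cS_f4) (cStn8_t M) (XS_act M) (cSe_act M) (fun _ _ => trivial) cSc3_ok cS_f3) (cStn9_t M) (XS_act M) (cSe_act M) (fun _ _ => trivial) cSc2_ok cS_f2) (forced (cSt_S1 M) (cSth_act M) (XS_act M) _ _ cS_f1)) (cStn10_t M) (XS_act M) (cSe_act M) (fun _ _ => trivial) cSc0_ok cS_f0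
theorem cS_card {G Ω : Type*} [Group G] [MulAction G Ω] {g : ℕ → G} {pt : ℕ → Ω}
    (M : Md g pt F_P 4560 40 H15.XCo1C.B 178362777600) : Nat.card (Subgroup.centralizer {(rl [10] g) 0}) = 660602880 :=
  (cS M).card_cent1 M.inj cS_c.1
theorem cS_eq {G Ω : Type*} [Group G] [MulAction G Ω] {g : ℕ → G} {pt : ℕ → Ω}
    (M : Md g pt F_P 4560 40 H15.XCo1C.B 178362777600) : Subgroup.centralizer (gen (rl [10] g) 1) = gen (wds g cSe_W) 13 ∧ Nat.card (gen (wds g cSe_W) 13) = 660602880 :=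
  cS_c.1 ▸ cS_c.2 ▸ ⟨(cS M).cent, (cS M).card M.inj⟩
theorem cS_le {G Ω : Type*} [Group G] [MulAction G Ω] {g : ℕ → G} {pt : ℕ → Ω}
    (M : Md g pt F_P 4560 40 H15.XCo1C.B 178362777600) : gen (wds g cSe_W) 13 ≤ gen (rl [20, 22, 24, 32, 33, 14] g) 6 :=
  M.gen_le (YS_act M) (cSe_act M) cS_le_k
theorem XE_act {G Ω : Type*} [Group G] [MulAction G Ω] {g : ℕ → G} {pt : ℕ → Ω}
    (M : Md g pt F_P 4560 40 H15.XCo1C.B 178362777600) : Act (rl [35, 36, 37] g) pt (rl [nat_lit 35, nat_lit 36, nat_lit 37] F_P) 4560 3 :=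
  M.act.rl (by decide)
theorem YE_act {G Ω : Type*} [Group G] [MulAction G Ω] {g : ℕ → G} {pt : ℕ → Ω}
    (M : Md g pt F_P 4560 40 H15.XCo1C.B 178362777600) : Act (rl [9, 10, 11, 39, 14] g) pt (rl [nat_lit 9, nat_lit 10, nat_lit 11, nat_lit 39, nat_lit 14] F_P) 4560 5 :=
  M.act.rl (by decide)
theorem cEth_act {G Ω : Type*} [Group G] [MulAction G Ω] {g : ℕ → G} {pt : ℕ → Ω}
    (M : Md g pt F_P 4560 40 H15.XCo1C.B 178362777600) : Act (wds g cEth_W) pt cEth_P 4560 49 :=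
  M.wact cEth_lt
theorem cEtl0_e : ∀ i < 239, (dent cEtl0 cEth_P (nat_lit 4560)) i = 0 := allZ_sound0 cEtl0_e_0
theorem cEtl0_ok : DOK cEtl0 cEth_P 4560 := ⟨cEtl0_h, cEtl0_e⟩
theorem cEtl1_e : ∀ i < 55, (dent cEtl1 cEth_P (nat_lit 4560)) i = 0 := allZ_sound0 cEtl1_e_0
theorem cEtl1_ok : DOK cEtl1 cEth_P 4560 := ⟨cEtl1_h, cEtl1_e⟩
theorem cEtl2_e : ∀ i < 26, (dent cEtl2 cEth_P (nat_lit 4560)) i = 0 := allZ_sound0 cEtl2_e_0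
theorem cEtl2_ok : DOK cEtl2 cEth_P 4560 := ⟨cEtl2_h, cEtl2_e⟩
theorem cEtl3_e : ∀ i < 39, (dent cEtl3 cEth_P (nat_lit 4560)) i = 0 := allZ_sound0 cEtl3_e_0
theorem cEtl3_ok : DOK cEtl3 cEth_P 4560 := ⟨cEtl3_h, cEtl3_e⟩
theorem cEtl4_e : ∀ i < 3, (dent cEtl4 cEth_P (nat_lit 4560)) i = 0 := allZ_sound0 cEtl4_e_0
theorem cEtl4_ok : DOK cEtl4 cEth_P 4560 := ⟨cEtl4_h, cEtl4_e⟩
theorem cEtl5_e : ∀ i < 2, (dent cEtl5 cEth_P (nat_lit 4560)) i = 0 := allZ_sound0 cEtl5_e_0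
theorem cEtl5_ok : DOK cEtl5 cEth_P 4560 := ⟨cEtl5_h, cEtl5_e⟩
theorem cEtl6_e : ∀ i < 1, (dent cEtl6 cEth_P (nat_lit 4560)) i = 0 := allZ_sound0 cEtl6_e_0
theorem cEtl6_ok : DOK cEtl6 cEth_P 4560 := ⟨cEtl6_h, cEtl6_e⟩
theorem cEtl7_e : ∀ i < 31, (dent cEtl7 cEth_P (nat_lit 4560)) i = 0 := allZ_sound0 cEtl7_e_0
theorem cEtl7_ok : DOK cEtl7 cEth_P 4560 := ⟨cEtl7_h, cEtl7_e⟩
theorem cEtl8_e : ∀ i < 3, (dent cEtl8 cEth_P (nat_lit 4560)) i = 0 := allZ_sound0 cEtl8_e_0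
theorem cEtl8_ok : DOK cEtl8 cEth_P 4560 := ⟨cEtl8_h, cEtl8_e⟩
theorem cEtl9_e : ∀ i < 1, (dent cEtl9 cEth_P (nat_lit 4560)) i = 0 := allZ_sound0 cEtl9_e_0
theorem cEtl9_ok : DOK cEtl9 cEth_P 4560 := ⟨cEtl9_h, cEtl9_e⟩
theorem cEtl10_e : ∀ i < 1, (dent cEtl10 cEth_P (nat_lit 4560)) i = 0 := allZ_sound0 cEtl10_e_0
theorem cEtl10_ok : DOK cEtl10 cEth_P 4560 := ⟨cEtl10_h, cEtl10_e⟩
theorem cEt_low {G Ω : Type*} [Group G] [MulAction G Ω] {g : ℕ → G} {pt : ℕ → Ω}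
    (M : Md g pt F_P 4560 40 H15.XCo1C.B 178362777600) : SLow (gi (wds g cEth_W)) pt 4560 [cEtl0, cEtl1, cEtl2, cEtl3, cEtl4, cEtl5, cEtl6, cEtl7, cEtl8, cEtl9, cEtl10] :=
  (((((((((((SLow.nil).cons cEtl10_ok (cEth_act M) cEt_f10).cons cEtl9_ok (cEth_act M) cEt_f9).cons cEtl8_ok (cEth_act M) cEt_f8).cons cEtl7_ok (cEth_act M) cEt_f7).cons cEtl6_ok (cEth_act M) cEt_f6).cons cEtl5_ok (cEth_act M) cEt_f5).cons cEtl4_ok (cEth_act M) cEt_f4).cons cEtl3_ok (cEth_act M) cEt_f3).cons cEtl2_ok (cEth_act M) cEt_f2).cons cEtl1_ok (cEth_act M) cEt_f1).cons cEtl0_ok (cEth_act M) cEt_f0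
theorem cEt_S0 {G Ω : Type*} [Group G] [MulAction G Ω] {g : ℕ → G} {pt : ℕ → Ω}
    (M : Md g pt F_P 4560 40 H15.XCo1C.B 178362777600) : Stage ⊤ (wds g cEth_W) pt 4560 [cEtl0, cEtl1, cEtl2, cEtl3, cEtl4, cEtl5, cEtl6, cEtl7, cEtl8, cEtl9, cEtl10] [] :=
  M.stage (cEt_low M) cEt_c
theorem cEt_S1 {G Ω : Type*} [Group G] [MulAction G Ω] {g : ℕ → G} {pt : ℕ → Ω}
    (M : Md g pt F_P 4560 40 H15.XCo1C.B 178362777600) : Stage ⊤ (wds g cEth_W) pt 4560 [cEtl1, cEtl2, cEtl3, cEtl4, cEtl5, cEtl6, cEtl7, cEtl8, cEtl9, cEtl10] [cEtl0.Pt 0] :=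
  (cEt_S0 M).next
theorem cEt_S2 {G Ω : Type*} [Group G] [MulAction G Ω] {g : ℕ → G} {pt : ℕ → Ω}
    (M : Md g pt F_P 4560 40 H15.XCo1C.B 178362777600) : Stage ⊤ (wds g cEth_W) pt 4560 [cEtl2, cEtl3, cEtl4, cEtl5, cEtl6, cEtl7, cEtl8, cEtl9, cEtl10] [cEtl1.Pt 0, cEtl0.Pt 0] :=
  (cEt_S1 M).next
theorem cEt_S3 {G Ω : Type*} [Group G] [MulAction G Ω] {g : ℕ → G} {pt : ℕ → Ω}
    (M : Md g pt F_P 4560 40 H15.XCo1C.B 178362777600) : Stage ⊤ (wds g cEth_W) pt 4560 [cEtl3, cEtl4, cEtl5, cEtl6, cEtl7, cEtl8, cEtl9, cEtl10] [cEtl2.Pt 0, cEtl1.Pt 0, cEtl0.Pt 0] :=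
  (cEt_S2 M).next
theorem cEt_S4 {G Ω : Type*} [Group G] [MulAction G Ω] {g : ℕ → G} {pt : ℕ → Ω}
    (M : Md g pt F_P 4560 40 H15.XCo1C.B 178362777600) : Stage ⊤ (wds g cEth_W) pt 4560 [cEtl4, cEtl5, cEtl6, cEtl7, cEtl8, cEtl9, cEtl10] [cEtl3.Pt 0, cEtl2.Pt 0, cEtl1.Pt 0, cEtl0.Pt 0] :=
  (cEt_S3 M).next
theorem cEt_S5 {G Ω : Type*} [Group G] [MulAction G Ω] {g : ℕ → G} {pt : ℕ → Ω}
    (M : Md g pt F_P 4560 40 H15.XCo1C.B 178362777600) : Stage ⊤ (wds g cEth_W) pt 4560 [cEtl5, cEtl6, cEtl7, cEtl8, cEtl9, cEtl10] [cEtl4.Pt 0, cEtl3.Pt 0, cEtl2.Pt 0, cEtl1.Pt 0, cEtl0.Pt 0] :=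
  (cEt_S4 M).next
theorem cEt_S6 {G Ω : Type*} [Group G] [MulAction G Ω] {g : ℕ → G} {pt : ℕ → Ω}
    (M : Md g pt F_P 4560 40 H15.XCo1C.B 178362777600) : Stage ⊤ (wds g cEth_W) pt 4560 [cEtl6, cEtl7, cEtl8, cEtl9, cEtl10] [cEtl5.Pt 0, cEtl4.Pt 0, cEtl3.Pt 0, cEtl2.Pt 0, cEtl1.Pt 0, cEtl0.Pt 0] :=
  (cEt_S5 M).next
theorem cEt_S7 {G Ω : Type*} [Group G] [MulAction G Ω] {g : ℕ → G} {pt : ℕ → Ω}
    (M : Md g pt F_P 4560 40 H15.XCo1C.B 178362777600) : Stage ⊤ (wds g cEth_W) pt 4560 [cEtl7, cEtl8, cEtl9, cEtl10] [cEtl6.Pt 0, cEtl5.Pt 0, cEtl4.Pt 0, cEtl3.Pt 0, cEtl2.Pt 0, cEtl1.Pt 0, cEtl0.Pt 0] :=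
  (cEt_S6 M).next
theorem cEt_S8 {G Ω : Type*} [Group G] [MulAction G Ω] {g : ℕ → G} {pt : ℕ → Ω}
    (M : Md g pt F_P 4560 40 H15.XCo1C.B 178362777600) : Stage ⊤ (wds g cEth_W) pt 4560 [cEtl8, cEtl9, cEtl10] [cEtl7.Pt 0, cEtl6.Pt 0, cEtl5.Pt 0, cEtl4.Pt 0, cEtl3.Pt 0, cEtl2.Pt 0, cEtl1.Pt 0, cEtl0.Pt 0] :=
  (cEt_S7 M).next
theorem cEt_S9 {G Ω : Type*} [Group G] [MulAction G Ω] {g : ℕ → G} {pt : ℕ → Ω}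
    (M : Md g pt F_P 4560 40 H15.XCo1C.B 178362777600) : Stage ⊤ (wds g cEth_W) pt 4560 [cEtl9, cEtl10] [cEtl8.Pt 0, cEtl7.Pt 0, cEtl6.Pt 0, cEtl5.Pt 0, cEtl4.Pt 0, cEtl3.Pt 0, cEtl2.Pt 0, cEtl1.Pt 0, cEtl0.Pt 0] :=
  (cEt_S8 M).next
theorem cEt_S10 {G Ω : Type*} [Group G] [MulAction G Ω] {g : ℕ → G} {pt : ℕ → Ω}
    (M : Md g pt F_P 4560 40 H15.XCo1C.B 178362777600) : Stage ⊤ (wds g cEth_W) pt 4560 [cEtl10] [cEtl9.Pt 0, cEtl8.Pt 0, cEtl7.Pt 0, cEtl6.Pt 0, cEtl5.Pt 0, cEtl4.Pt 0, cEtl3.Pt 0, cEtl2.Pt 0, cEtl1.Pt 0, cEtl0.Pt 0] :=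
  (cEt_S9 M).next
theorem cEt_S11 {G Ω : Type*} [Group G] [MulAction G Ω] {g : ℕ → G} {pt : ℕ → Ω}
    (M : Md g pt F_P 4560 40 H15.XCo1C.B 178362777600) : Stage ⊤ (wds g cEth_W) pt 4560 [] [cEtl10.Pt 0, cEtl9.Pt 0, cEtl8.Pt 0, cEtl7.Pt 0, cEtl6.Pt 0, cEtl5.Pt 0, cEtl4.Pt 0, cEtl3.Pt 0, cEtl2.Pt 0, cEtl1.Pt 0, cEtl0.Pt 0] :=
  (cEt_S10 M).next
theorem cEe_act {G Ω : Type*} [Group G] [MulAction G Ω] {g : ℕ → G} {pt : ℕ → Ω}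
    (M : Md g pt F_P 4560 40 H15.XCo1C.B 178362777600) : Act (wds g cEe_W) pt cEe_P 4560 5 :=
  M.wact cEe_lt
theorem cEc7_e : ∀ i < 7, (dent cEc7 cEe_P (nat_lit 4560)) i = 0 := allZ_sound0 cEc7_e_0
theorem cEc7_ok : DOK cEc7 cEe_P 4560 := ⟨cEc7_h, cEc7_e⟩
theorem cEtn0_1 : ∀ i < 32, (cEtn0.ent F_P cEth_P (rl [nat_lit 35, nat_lit 36, nat_lit 37] F_P) (rl [nat_lit 35, nat_lit 36, nat_lit 37] F_P) cEe_P (nat_lit 40) (nat_lit 3) H15.XCo1C.B cEtl7 [cEtl8, cEtl9, cEtl10] (memO cEc7)) i = 0 := allZ_sound0 cEtn0_1_0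
theorem cEtn0_t {G Ω : Type*} [Group G] [MulAction G Ω] {g : ℕ → G} {pt : ℕ → Ω}
    (M : Md g pt F_P 4560 40 H15.XCo1C.B 178362777600) : TrO (gen (wds g cEth_W) cEtl7.K) (rl [35, 36, 37] g) (rl [35, 36, 37] g) 3 pt 4560 (cEtl7.Pt 0) (memO cEc7) :=
  node M (cEt_S7 M) (cEth_act M) (XE_act M) (XE_act M) cEtn0 ((cEe_act M).mono (by decide)) (fun _ _ => trivial) cEtn0_0 cEtn0_1 (List.forall_mem_nil _)
theorem cEc0_e : ∀ i < 3, (dent cEc0 cEe_P (nat_lit 4560)) i = 0 := allZ_sound0 cEc0_e_0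
theorem cEc0_ok : DOK cEc0 cEe_P 4560 := ⟨cEc0_h, cEc0_e⟩
theorem cEtn1_1 : ∀ i < 240, (cEtn1.ent F_P cEth_P (rl [nat_lit 35, nat_lit 36, nat_lit 37] F_P) (rl [nat_lit 35, nat_lit 36, nat_lit 37] F_P) cEe_P (nat_lit 40) (nat_lit 3) H15.XCo1C.B cEtl0 [cEtl1, cEtl2, cEtl3, cEtl4, cEtl5, cEtl6, cEtl7, cEtl8, cEtl9, cEtl10] (memO cEc0)) i = 0 := allZ_sound0 cEtn1_1_0
theorem cEtn1_t {G Ω : Type*} [Group G] [MulAction G Ω] {g : ℕ → G} {pt : ℕ → Ω}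
    (M : Md g pt F_P 4560 40 H15.XCo1C.B 178362777600) : TrO (gen (wds g cEth_W) cEtl0.K) (rl [35, 36, 37] g) (rl [35, 36, 37] g) 3 pt 4560 (cEtl0.Pt 0) (memO cEc0) :=
  node M (cEt_S0 M) (cEth_act M) (XE_act M) (XE_act M) cEtn1 ((cEe_act M).mono (by decide)) (fun _ _ => trivial) cEtn1_0 cEtn1_1 (List.forall_mem_nil _)
theorem cE {G Ω : Type*} [Group G] [MulAction G Ω] {g : ℕ → G} {pt : ℕ → Ω}
    (M : Md g pt F_P 4560 40 H15.XCo1C.B 178362777600) : Cen ⊤ (rl [35, 36, 37] g) 3 (wds g cEe_W) pt 4560 [cEc0, cEc7] :=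
  (cEt_S0 M).top ▸ Cen.lev M (cEt_S0 M) (Cen.triv (cEt_S1 M) (Cen.triv (cEt_S2 M) (Cen.triv (cEt_S3 M) (Cen.triv (cEt_S4 M) (Cen.triv (cEt_S5 M) (Cen.triv (cEt_S6 M) (Cen.lev M (cEt_S7 M) (Cen.triv (cEt_S8 M) (Cen.triv (cEt_S9 M) (Cen.triv (cEt_S10 M) (Cen.bot) (forced (cEt_S10 M) (cEth_act M) (XE_act M) _ _ cE_f10)) (forced (cEt_S9 M) (cEth_act M) (XE_act M) _ _ cE_f9)) (forced (cEt_S8 M) (cEth_act M) (XE_act M) _ _ cE_f8)) (cEtn0_t M) (XE_act M) (cEe_act M) (fun _ _ => trivial) cEc7_ok cE_f7) (forced (cEt_S6 M) (cEth_act M) (XE_act M) _ _ cE_f6)) (forced (cEt_S5 M) (cEth_act M) (XE_act M) _ _ cE_f5)) (forced (cEt_S4 M) (cEth_act M) (XE_act M) _ _ cE_f4)) (forced (cEt_S3 M) (cEth_act M) (XE_act M) _ _ cE_f3)) (forced (cEt_S2 M) (cEth_act M) (XE_act M) _ _ cE_f2)) (forced (cEt_S1 M) (cEth_act M) (XE_act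 M) _ _ cE_f1)) (cEtn1_t M) (XE_act M) (cEe_act M) (fun _ _ => trivial) cEc0_ok cE_f0
theorem cE_eq {G Ω : Type*} [Group G] [MulAction G Ω] {g : ℕ → G} {pt : ℕ → Ω}
    (M : Md g pt F_P 4560 40 H15.XCo1C.B 178362777600) : Subgroup.centralizer (gen (rl [35, 36, 37] g) 3) = gen (wds g cEe_W) 5 ∧ Nat.card (gen (wds g cEe_W) 5) = 32 :=
  cE_c.1 ▸ cE_c.2 ▸ ⟨(cE M).cent, (cE M).card M.inj⟩
theorem cE_le {G Ω : Type*} [Group G] [MulAction G Ω] {g : ℕ → G} {pt : ℕ → Ω}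
    (M : Md g pt F_P 4560 40 H15.XCo1C.B 178362777600) : gen (wds g cEe_W) 5 ≤ gen (rl [9, 10, 11, 39, 14] g) 5 :=
  M.gen_le (YE_act M) (cEe_act M) cE_le_k
theorem tO1 : ∀ i < 69, (toEnt eS [20, 21, 22, 23, 24, 25, 26, 27, 28, 29] [9, 10, 15, 16, 17, 18, 19, 2, 4] 10 9 TO TW1) i = 0 := range_glue (allZ_sound0 TO1_0) TO1_1
theorem tO2 : ∀ i < 69, (toEnt eS [20, 21, 22, 23, 24, 25, 26, 27, 30, 31] [9, 10, 15, 16, 17, 18, 19, 2, 4] 10 9 TO TW2) i = 0 := range_glue (allZ_sound0 TO2_0) TO2_1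
theorem L5_e_0 : ∀ i < 192, (mulEnt eS [32, 33, 24] L5 (nat_lit 192) L5T (nat_lit 0)) i = 0 := range_glue (allZ_sound0 L5_e_0_0) L5_e_0_1
theorem L5_e_1 : ∀ i < 192, (mulEnt eS [32, 33, 24] L5 (nat_lit 192) L5T (nat_lit 1)) i = 0 := range_glue (allZ_sound0 L5_e_1_0) L5_e_1_1
theorem L5_e_2 : ∀ i < 192, (mulEnt eS [32, 33, 24] L5 (nat_lit 192) L5T (nat_lit 2)) i = 0 := range_glue (allZ_sound0 L5_e_2_0) L5_e_2_1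
theorem L5_e : ∀ k < 3, ∀ i < 192, (mulEnt eS [32, 33, 24] L5 (nat_lit 192) L5T) k i = 0 :=
  letters_glue (letters_glue (letters_glue (letters_nil) L5_e_0) L5_e_1) L5_e_2
theorem LE_e : ∀ k < 4, ∀ i < 16, (mulEnt eS [9, 10, 11, 39] LE (nat_lit 16) LET) k i = 0 := allZ2_sound LE_e_a
theorem aq_e : ∀ i < 192, (actEnt eS nS aqI L5 aqT [33]) i = 0 := range_glue (range_glue (allZ_sound0 aq_e_0) aq_e_1) aq_e_2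
theorem aw_e : ∀ i < 192, (actEnt eS nS awI L5 awT [24]) i = 0 := range_glue (range_glue (allZ_sound0 aw_e_0) aw_e_1) aw_e_2
theorem fp1 : ∀ i < 16, (fpEnt eX nS [7, 8] LE [nat_lit 0, nat_lit 5, nat_lit 3, nat_lit 12, nat_lit 2, nat_lit 11, nat_lit 4, nat_lit 1, nat_lit 15, nat_lit 8, nat_lit 7, nat_lit 10, nat_lit 6, nat_lit 9, nat_lit 13, nat_lit 14]) i = 0 := allZ_sound0 fp1_0
theorem fp2 : ∀ i < 16, (fpEnt eX nS w2 LE [nat_lit 0, nat_lit 10, nat_lit 6, nat_lit 13, nat_lit 11, nat_lit 7, nat_lit 1, nat_lit 12, nat_lit 4, nat_lit 2, nat_lit 9, nat_lit 3, nat_lit 14, nat_lit 8, nat_lit 15, nat_lit 5]) i = 0 := allZ_sound0 fp2_0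
theorem rA_e : ∀ i < 263, (fun i => force i fun i => orZ (eS (nth [] H16.CoC.RA i) []) (eX (nth [] H16.CoC.RA i) [])) i = 0 := range_glue (allZ_sound0 rA_e_0) rA_e_1

end H0.Co
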