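import Cfsg.Agent.H0.Co.B
import Cfsg.Agent.H0.Co.C

/-! Generated by tools/h0/co1/genT.py: coset enumerations. -/

set_option maxRecDepth 100000
set_option maxHeartbeats 0

namespace H0.Co
open H16 H0.Am

noncomputable def R7 : List (List ℕ) := [[nat_lit 0, nat_lit 3, nat_lit 0, nat_lit 3, nat_lit 0, nat_lit 3, nat_lit 0, nat_lit 3],
  [nat_lit 0, nat_lit 0, nat_lit 3, nat_lit 0, nat_lit 0, nat_lit 3, nat_lit 0, nat_lit 0, nat_lit 3, nat_lit 0, nat_lit 0, nat_lit 3],
  [nat_lit 0, nat_lit 0, nat_lit 0, nat_lit 2, nat_lit 0, nat_lit 0, nat_lit 3, nat_lit 1, nat_lit 2, nat_lit 1, nat_lit 1, nat_lit 3, nat_lit 1, nat_lit 2],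
  [nat_lit 0, nat_lit 0, nat_lit 0, nat_lit 3, nat_lit 0, nat_lit 0, nat_lit 2, nat_lit 1, nat_lit 3, nat_lit 1, nat_lit 1, nat_lit 2, nat_lit 0, nat_lit 2],
  [nat_lit 0, nat_lit 0, nat_lit 0, nat_lit 3, nat_lit 1, nat_lit 3, nat_lit 0, nat_lit 3, nat_lit 1, nat_lit 1, nat_lit 3, nat_lit 1, nat_lit 1, nat_lit 2],
  [nat_lit 0, nat_lit 0, nat_lit 2, nat_lit 1, nat_lit 1, nat_lit 2, nat_lit 1, nat_lit 3, nat_lit 1, nat_lit 3, nat_lit 0, nat_lit 2, nat_lit 0, nat_lit 3],
  [nat_lit 0, nat_lit 2, nat_lit 0, nat_lit 2, nat_lit 0, nat_lit 2, nat_lit 0, nat_lit 2, nat_lit 0, nat_lit 2, nat_lit 0, nat_lit 2, nat_lit 0, nat_lit 2],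
  [nat_lit 0, nat_lit 0, nat_lit 0, nat_lit 2, nat_lit 0, nat_lit 2, nat_lit 1, nat_lit 1, nat_lit 2, nat_lit 0, nat_lit 2, nat_lit 0, nat_lit 3, nat_lit 0, nat_lit 2],
  [nat_lit 0, nat_lit 0, nat_lit 0, nat_lit 2, nat_lit 1, nat_lit 1, nat_lit 1, nat_lit 2, nat_lit 0, nat_lit 0, nat_lit 3, nat_lit 0, nat_lit 2, nat_lit 0, nat_lit 2],
  [nat_lit 0, nat_lit 0, nat_lit 0, nat_lit 2, nat_lit 1, nat_lit 1, nat_lit 2, nat_lit 0, nat_lit 3, nat_lit 0, nat_lit 0, nat_lit 0, nat_lit 2, nat_lit 1, nat_lit 3],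
  [nat_lit 0, nat_lit 0, nat_lit 0, nat_lit 2, nat_lit 1, nat_lit 2, nat_lit 0, nat_lit 2, nat_lit 0, nat_lit 3, nat_lit 1, nat_lit 3, nat_lit 0, nat_lit 0, nat_lit 2],
  [nat_lit 0, nat_lit 0, nat_lit 0, nat_lit 2, nat_lit 1, nat_lit 3, nat_lit 1, nat_lit 2, nat_lit 0, nat_lit 0, nat_lit 3, nat_lit 0, nat_lit 3, nat_lit 1, nat_lit 2],
  [nat_lit 0, nat_lit 0, nat_lit 0, nat_lit 3, nat_lit 0, nat_lit 2, nat_lit 1, nat_lit 3, nat_lit 0, nat_lit 2, nat_lit 1, nat_lit 1, nat_lit 3, nat_lit 1, nat_lit 3],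
  [nat_lit 0, nat_lit 0, nat_lit 0, nat_lit 3, nat_lit 1, nat_lit 3, nat_lit 1, nat_lit 3, nat_lit 1, nat_lit 1, nat_lit 3, nat_lit 0, nat_lit 2, nat_lit 1, nat_lit 3],
  [nat_lit 0, nat_lit 0, nat_lit 2, nat_lit 1, nat_lit 2, nat_lit 0, nat_lit 3, nat_lit 1, nat_lit 3, nat_lit 1, nat_lit 2, nat_lit 0, nat_lit 2, nat_lit 1, nat_lit 3],
  [nat_lit 0, nat_lit 0, nat_lit 0, nat_lit 2, nat_lit 0, nat_lit 0, nat_lit 3, nat_lit 0, nat_lit 3, nat_lit 1, nat_lit 3, nat_lit 1, nat_lit 3, nat_lit 0, nat_lit 0, nat_lit 3],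
  [nat_lit 0, nat_lit 0, nat_lit 0, nat_lit 2, nat_lit 1, nat_lit 2, nat_lit 1, nat_lit 1, nat_lit 1, nat_lit 2, nat_lit 1, nat_lit 3, nat_lit 0, nat_lit 3, nat_lit 1, nat_lit 3],
  [nat_lit 0, nat_lit 0, nat_lit 2, nat_lit 0, nat_lit 2, nat_lit 1, nat_lit 1, nat_lit 3, nat_lit 1, nat_lit 2, nat_lit 0, nat_lit 3, nat_lit 0, nat_lit 2, nat_lit 1, nat_lit 2],
  [nat_lit 0, nat_lit 0, nat_lit 2, nat_lit 1, nat_lit 1, nat_lit 2, nat_lit 0, nat_lit 0, nat_lit 3, nat_lit 1, nat_lit 3, nat_lit 0, nat_lit 0, nat_lit 3, nat_lit 0, nat_lit 2],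
  [nat_lit 0, nat_lit 2, nat_lit 0, nat_lit 3, nat_lit 0, nat_lit 2, nat_lit 0, nat_lit 3, nat_lit 0, nat_lit 3, nat_lit 1, nat_lit 2, nat_lit 1, nat_lit 3, nat_lit 0, nat_lit 3]]
def RO0 : List (List ℕ) := [[0, 1], [1, 0], [2, 3], [3, 2], [4, 5], [5, 4], [6, 7], [7, 6], [8, 9], [9, 8],
  rp 7 [0], rp 3 [2], rp 3 [4], rp 3 [6], rp 3 [8]]
noncomputable def TO : List (List ℕ × ℕ × ℕ) := [([nat_lit 2], (nat_lit 4), (nat_lit 4)), ([nat_lit 4], (nat_lit 8), (nat_lit 8)), ([nat_lit 6], (nat_lit 8), (nat_lit 8)), ([nat_lit 2, nat_lit 7], (nat_lit 6), (nat_lit 3)), ([nat_lit 4, nat_lit 6], (nat_lit 6), (nat_lit 4)), ([nat_lit 2, nat_lit 8], (nat_lit 4), (nat_lit 4)), ([nat_lit 2, nat_lit 9], (nat_lit 4), (nat_lit 4)), ([nat_lit 3, nat_lit 8], (nat_lit 4), (nat_lit 4)), ([nat_lit 0, nat_lit 4, nat_lit 1], (nat_lit 2), (nat_lit 2)), ([nat_lit 0, nat_lit 6, nat_lit 1], (nat_lit 6), (nat_lit 6)), ([nat_lit 3, nat_lit 0, nat_lit 4], (nat_lit 6), (nat_lit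 7)), ([nat_lit 3, nat_lit 0, nat_lit 7], (nat_lit 6), (nat_lit 5)), ([nat_lit 5, nat_lit 1, nat_lit 6], (nat_lit 6), (nat_lit 2)), ([nat_lit 6, nat_lit 1, nat_lit 6], (nat_lit 4), (nat_lit 2)), ([nat_lit 0, nat_lit 4, nat_lit 1], (nat_lit 8), (nat_lit 8)), ([nat_lit 0, nat_lit 8, nat_lit 1], (nat_lit 2), (nat_lit 2)), ([nat_lit 0, nat_lit 8, nat_lit 1], (nat_lit 6), (nat_lit 6)), ([nat_lit 8, nat_lit 2, nat_lit 8], (nat_lit 4), (nat_lit 4)), ([nat_lit 8, nat_lit 2, nat_lit 9], (nat_lit 4), (nat_lit 4)), ([nat_lit 0, nat_lit 4, nat_lit 1, nat_lit 4], (nat_lit 2), (nat_lit 2)), ([nat_lit 0, nat_lit 4, nat_lit 1, nat_lit 5], (nat_lit 2), (nat_lit 2)), ([nat_lit 0, nat_lit 5, nat_lit 1, nat_lit 4], (nat_lit 2), (nat_lit 2)), ([nat_lit 1, nat_lit 2, nat_lit 0, nat_lit 2], (nat_lit 4), (nat_lit 4)), ([nat_lit 0, nat_lit 3, nat_lit 0, nat_lit 3], (nat_lit 6), (nat_lit 7)), ([nat_lit 0, nat_lit 3, nat_lit 0, nat_lit 7], (nat_lit 6), (nat_lit 2)), ([nat_lit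 0, nat_lit 4, nat_lit 6, nat_lit 1], (nat_lit 6), (nat_lit 3)), ([nat_lit 1, nat_lit 2, nat_lit 7, nat_lit 0], (nat_lit 6), (nat_lit 4)), ([nat_lit 2, nat_lit 6, nat_lit 0, nat_lit 4], (nat_lit 6), (nat_lit 7)), ([nat_lit 2, nat_lit 6, nat_lit 1, nat_lit 2], (nat_lit 4), (nat_lit 7)), ([nat_lit 3, nat_lit 0, nat_lit 5, nat_lit 6], (nat_lit 6), (nat_lit 5)), ([nat_lit 3, nat_lit 0, nat_lit 6, nat_lit 5], (nat_lit 6), (nat_lit 7)), ([nat_lit 4, nat_lit 7, nat_lit 0, nat_lit 7], (nat_lit 2), (nat_lit 4)), ([nat_lit 5, nat_lit 1, nat_lit 3, nat_lit 7], (nat_lit 6), (nat_lit 2)), ([nat_lit 5, nat_lit 7, nat_lit 0, nat_lit 7], (nat_lit 2), (nat_lit 4)), ([nat_lit 5, nat_lit 7, nat_lit 3, nat_lit 7], (nat_lit 2), (nat_lit 2)), ([nat_lit 6, nat_lit 2, nat_lit 4, nat_lit 7], (nat_lit 4), (nat_lit 3)), ([nat_lit 6, nat_lit 3, nat_lit 4, nat_lit 6], (nat_lit 4), (nat_lit 3)), ([nat_lit 7, nat_lit 0, nat_lit 5, nat_lit 6], (nat_lit 2), (nat_lit 4)), ([nat_lit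 7, nat_lit 2, nat_lit 5, nat_lit 7], (nat_lit 4), (nat_lit 3)), ([nat_lit 0, nat_lit 3, nat_lit 0, nat_lit 3], (nat_lit 8), (nat_lit 8)), ([nat_lit 0, nat_lit 4, nat_lit 8, nat_lit 1], (nat_lit 2), (nat_lit 2)), ([nat_lit 0, nat_lit 5, nat_lit 8, nat_lit 1], (nat_lit 2), (nat_lit 2)), ([nat_lit 0, nat_lit 6, nat_lit 1, nat_lit 8], (nat_lit 6), (nat_lit 6)), ([nat_lit 0, nat_lit 7, nat_lit 5, nat_lit 0], (nat_lit 8), (nat_lit 8)), ([nat_lit 0, nat_lit 7, nat_lit 8, nat_lit 1], (nat_lit 6), (nat_lit 6)), ([nat_lit 0, nat_lit 8, nat_lit 1, nat_lit 4], (nat_lit 2), (nat_lit 2)), ([nat_lit 0, nat_lit 8, nat_lit 1, nat_lit 8], (nat_lit 6), (nat_lit 6)), ([nat_lit 0, nat_lit 9, nat_lit 1, nat_lit 9], (nat_lit 6), (nat_lit 6)), ([nat_lit 1, nat_lit 1, nat_lit 6, nat_lit 2], (nat_lit 8), (nat_lit 8)), ([nat_lit 1, nat_lit 3, nat_lit 0, nat_lit 6], (nat_lit 8), (nat_lit 8)), ([nat_lit 1, nat_lit 3, nat_lit 7, nat_lit 0], (nat_lit 8), (nat_lit 8)), ([nat_lit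 1, nat_lit 3, nat_lit 8, nat_lit 0], (nat_lit 4), (nat_lit 4)), ([nat_lit 1, nat_lit 5, nat_lit 7, nat_lit 2], (nat_lit 8), (nat_lit 9)), ([nat_lit 1, nat_lit 6, nat_lit 0, nat_lit 5], (nat_lit 8), (nat_lit 8)), ([nat_lit 1, nat_lit 7, nat_lit 0, nat_lit 7], (nat_lit 8), (nat_lit 8)), ([nat_lit 1, nat_lit 8, nat_lit 0, nat_lit 2], (nat_lit 4), (nat_lit 4)), ([nat_lit 1, nat_lit 8, nat_lit 0, nat_lit 3], (nat_lit 4), (nat_lit 4)), ([nat_lit 1, nat_lit 8, nat_lit 0, nat_lit 8], (nat_lit 4), (nat_lit 4)), ([nat_lit 2, nat_lit 8, nat_lit 2, nat_lit 8], (nat_lit 8), (nat_lit 2)), ([nat_lit 2, nat_lit 9, nat_lit 2, nat_lit 9], (nat_lit 8), (nat_lit 3)), ([nat_lit 0, nat_lit 0, nat_lit 0, nat_lit 4, nat_lit 0], (nat_lit 4), (nat_lit 3)), ([nat_lit 0, nat_lit 0, nat_lit 2, nat_lit 4, nat_lit 0], (nat_lit 4), (nat_lit 2)), ([nat_lit 0, nat_lit 2, nat_lit 0, nat_lit 5, nat_lit 0], (nat_lit 2), (nat_lit 3)), ([nat_lit 0, nat_lit 4, nat_lit 0, nat_lit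 2, nat_lit 0], (nat_lit 4), (nat_lit 3)), ([nat_lit 0, nat_lit 4, nat_lit 1, nat_lit 2, nat_lit 4], (nat_lit 2), (nat_lit 2)), ([nat_lit 0, nat_lit 4, nat_lit 1, nat_lit 4, nat_lit 0], (nat_lit 4), (nat_lit 4)), ([nat_lit 1, nat_lit 1, nat_lit 2, nat_lit 5, nat_lit 0], (nat_lit 2), (nat_lit 3)), ([nat_lit 1, nat_lit 3, nat_lit 4, nat_lit 0, nat_lit 0], (nat_lit 2), (nat_lit 3)), ([nat_lit 1, nat_lit 3, nat_lit 5, nat_lit 1, nat_lit 1], (nat_lit 2), (nat_lit 4))]
def r2 : List ℕ := [nat_lit 1, nat_lit 7, nat_lit 0, nat_lit 9, nat_lit 3, nat_lit 1, nat_lit 9, nat_lit 0, nat_lit 5, nat_lit 8, nat_lit 2, nat_lit 1, nat_lit 8, nat_lit 7, nat_lit 0, nat_lit 5]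
noncomputable def RO : List (List ℕ) := RO0 ++ (R7 ++ (TO.map (cjR (Nat.xor 1)) ++ [r2]))
noncomputable def TO2d : List ℕ := [nat_lit 0x1c39a9588e1,
  nat_lit 0x156e6664622]
noncomputable def TO2 (k u : ℕ) : ℕ := Nat.land (Nat.shiftRight (nth (nat_lit 0) TO2d k) (Nat.mul u (nat_lit 6))) (nat_lit 63)
noncomputable def IO2d : List ℕ := [nat_lit 0x45,
  nat_lit 0x2444]
noncomputable def IO2 (k u : ℕ) : ℕ := Nat.land (Nat.shiftRight (nth (nat_lit 0) IO2d k) (Nat.mul u (nat_lit 2))) (nat_lit 3)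
noncomputable def DO2d : ℕ := nat_lit 0x39da5891400
noncomputable def DO2 (u : ℕ) : ℕ := Nat.land (Nat.shiftRight DO2d (Nat.mul u (nat_lit 6))) (nat_lit 63)
noncomputable def EO2 (_ : ℕ) : ℕ := nat_lit 0
noncomputable def JO2 (_ : ℕ) : ℕ := nat_lit 0
noncomputable def WO2 (_ : ℕ) : ℕ := nat_lit 0
noncomputable def RLO2 : List (List Rule) := [[.rel (nat_lit 0) (nat_lit 0) [nat_lit 1], .defn],
  [.defn, .rel (nat_lit 0) (nat_lit 1) [nat_lit 0], .rel (nat_lit 21) (nat_lit 0) [nat_lit 1, nat_lit 1, nat_lit 1, nat_lit 1, nat_lit 1, nat_lit 1]]]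
noncomputable def cO2 : TCert2 := ⟨7, 7, 7, 2, 7, 15, 0, TO2, IO2, DO2, EO2, JO2, WO2, [], RLO2⟩
noncomputable def TO4d : List ℕ := [nat_lit 0xd68f664d4095c3c9cd51c445920249595e7c6cb49c42f109454e518c404d67c3e11634c1534a2d22144857cd30c395755c38950033db0dc3d88efdc35b0d3c3498fa73bd13c6bf9cdf3c552c8ab415285cd9b128d6cf4b54ed73fc2fa30a9d3e526c2e1d33b31b365c2d674d6b9d6b6c2c33642d5f0acc2ad51f9c1b0a954e4f389b61b52c291d3153d2704c281761c27e2e87b3cd45c26b3607465b10c25735dc24e92f7bfd917cd65740732b08fcd6308d6469ce9551b085cd59d349bb3082c205ececd5174e9b0707a4d0f0788b46124ab91b22a1ddf0dc1cb071c1c251354b2cebb1bb34cc1b1eee7275d23741deb9c1a3066cd1ecdd8433063a2a30625c7a46474a5b0fcd0b06044f734164d652bc17b33e838f05b5c8705acceb059a2f7337c15e6f07b53332c151e88baca499aacf32ec14732dc14332a63e704e9bab04d8bdf04c99ff04ba24704ac127048cc7731cb2ab046ab67045ab2f316cc52c585c0ae9bc10ed08995608ba15b30e81daab7c0fe8c2c0fa269c0f7303c0f2e6aa27303b7b798c482bac8ac0e32fccbedaf298eb036c0d6287c0d32f5a1f72f3b2032f1c0cae379972a73cbb7030b14e2a6cb9b02eb2d302db1d72e1cb8302cab332dbcb6b02acb5f2d5b2ff028cb37027b28b2c9cb1f2c5cb0f025a1ef2c0c0932bccaef2bac08b021b19f2b1cabf2adaa5f01fb25b2a7ca972a3ca8729ec073298c06f294ca4b290ca3b28cc067289ca1b284ca0f017c9fb27cc9e7015c9d3014c9bf26dc9af012c997011c98725fc977010c03f00ec94ac41c93ec26c033247c913242c90300ac027239c023233c8c722fb06b22bc8a7006b82f223c88321ec877004c863216c84f002c837001c81f205c80f200,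
  nat_lit 0x2d58d66c4b31263d50d47645b1107d3db5ec43076494dc567c41f10334970fd65330f73d6591c3d89165a4c54f6a4ab0e444d95523570d51c36d2ff3c4a35053cf0d1c33950664d30ca3b3d3405cd70c54c7d11ec3099396b35afc7cbb0be6c68f4eac2b0b8c2d92e79b330b46b4d33a458e3302d7e2f07b818ee631d7605c894d5c29f0a675757016c3e3586c230a044f709f9ba1938cd8590e734b09683b1ed9cd6e132cd6ae9a6b7e521554e518c23989dcd5d74a842593f451b084c20d7426acf35582bcf49c1f1719c1e9c82c1e24c06d05ce2c1ce4fbbb9a8b16c0211474a706fcd368ef8b2734bc1ab0696cfa089bb6b348c19b065a28e51dc18f345c18a0bfcd1334383c693b744e0f8c17e867b285b05c17153cc16eb2dc169a88c16669293d7056b9873339b0f054c14f052737b32fb251928ccaee6da2e6cbbc13b327c136287c133324cc8eea5cc826d7c122070c11f31bc11ae5dc117317cc570446b86a8bb2733118aeb042a12ee49cc37040cc2f03faaaf03ecc1303dcc0b03c7a62e86c0e9cbc91fb039cbfb038c0df2facbe6e7992b7035a9ef034a95f2f4c0cf2f29bb6295b9af031a1d32ebcbab2e9c0beae5c0bb2e3c0b6c8c82432ddb93f2dcc0ae2d4cb632d6c0a72d0c0a32cbc09e475cb232c6cb12a9ecb06a9792672bda9c7023cadf2b5c0872b2cac32aecab32aacaa72a8c07b2a4ca8b01dca6f01cb88b01bca4f291ca3f28dca2a481c063285b1db280c9ff27dc05b277c057272c05326ec9b3268c04b264c047260c97ae20c963255c03b251c94300dc92b00cc02f243c906e13c8ef009c8db008c8cb230c01f22cc8ab226c897224c01721fb03f21ac867217c00f210c00b20ac007206c813200,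
  nat_lit 0x459713a4d30b5ac4911587550f66c439d5d7c3710b65857425cc9316458cd144d0d35bc3d70f1c3b70ebb5430e6857f3675d3b0e1c371ce03d270d88cdd553645d5645d2b0cdb501d524c9f0c6b4f1160c30ed397ba70c1b4db0c0a3cdd23c2eed31aca98ea6adf0b58d72704c2cb0b153230aeb499357a5670aab48a4d68c0991b2d59d2e6a9e8acc28ad192d573628d4571dc26ed1374a7098b44234dcd7b09494adefec246d09c24308fb41972f727a4a8c226d01c21a0927bf20848d218c474d22d09abf07c5d12a8e8bc99337cfb077b3c20cb94568bdcd3df1c551706fb3a194bc1b6ce54c8306b65068fbc1a2cdf8a351474cb6746b3268da741e0e3acb3061b353060b34a480c17eccfccfecad89d305db99333d6bff33b91b2abccce3058ccd5ef9c156cbfa9c98faccc2728c146cb99b6ec65b35704fb2d1f11a2ea10ca1f7325b97aaa3c12b321a40f31fcc7a4a5991e0f4cc6b318ab2b044b2828a9c10ec9dcc4b042b26b30fc106c97b22a2b0aaaf30acc21ed7cc15ca4a9f9cf6c0eee40cc03039b221cc7a3172fda30b036b20b2f893894ddcbdde8cc0cec7baa2f032cbbf031b1db2eec0c32ecc0bec71cb9ea73cb9228599ff02cb1ab2dec0aec67b9432d9c0a6c63cb4f2d1cb3b2ccb287026b173025b16aa83c092c57cafb023b152a78cae32b6cacf020b13b01fb132c93c07ac49ca9b01db11b29fca73299ca5b295c06ac3fc066c3db1e682aca1f017b0e3281c05ac35c9eac52c9d6c6ec9c3013b0bb269c99aa18c98b010b0a325bc967256c94f00db08b24dc92f248c91700ab07323ec8f323ac8df234c01ec15c8b7006b04b227c016c0fc887004b03321bc00ec09c853211c83b20bc823000b00b201,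
  nat_lit 0xc5311603d9d7424d5f1166d6d33a8d3710d6d7a52b5550964ac8cf625490d1d345db615d11f3e9456f4fc3ad94b94391656b99941451e4fb4b728da5ba58f5455555a6b86f3fc3360f1c322f3bc31b366bce30c38516f35c305ef96bc9559bcc30bb6411f1c536ecd59c2e92f7c468ba44f6f25c2bb3636ccaf21c2a94e3c2a30a764520ea5c7b0a3bc630a25d0d1589bb4b56bc4b09b82caf0fc26335f75762b0cd73092bc230917b5ef05c23e52aaaa611fbc03089731dd0ac211cfdab81abc8303080c1f5e8ccd4e2a49cce0f3cd4aeefc1df074cd47072cd4172e74deee7c1bf34ebb9306d8b5a67fcd29b48bb7b06859fb349a2dead8c1933468242320bad6ed3c186ed1c1820f8bb3b05fcd0305e7bbaca1ab653277a1b33caa156facce6a83ccdb334bafb0559bb28c4ccc6ab1bae305164b7050ccb2eb3c13f329cca249493df326ab3271ab24f322aa7a302646f0478a99e8ea2b3319b976e9fc111b03ba73043cc4ee99c10b310ba5b041c10330cb929efecc27307cc1a8f4837607cb1e6a95cc06e87c0e72ff91b1efcb162e81c0da2d0a1ae88d9abf2f6b9eb033b8eec52cbc2e75c0c60cbb1ba8bdb9c302fcba2e30cb962c5cb8ae69c0b32dfb99b02baadacc9b98b029cb532d2cb3ecadcb2ae5bc09ae59c0972c2b95b024cafee53c08ee32cae6c65cad2e4dc082e4bc07f2abb92301e9296e45c0772a0ca7729aca5ec8ab8fb01ab8f3019ca2f018ca22e37c05f282b8d3016c9ef278c9db273c9c6e2dc04f26ac99e63ac98ee27c04325cc96b257c952e21c03724ec933249c91ae1bc02b23fc8f682ac8e3235b853007c8bae11c01b228b83b005c88ae0bc01321cb823003c857212c83f20cc826e01c003202]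
noncomputable def TO4 (k u : ℕ) : ℕ := Nat.land (Nat.shiftRight (nth (nat_lit 0) TO4d k) (Nat.mul u (nat_lit 14))) (nat_lit 16383)
noncomputable def IO4d : List ℕ := [nat_lit 0x20c30000030000c00000c30070020000001400000000001c00000031402c500020300b0000000090040001810000000010000001000800c20170080000067400016d800100000004210004010e0800421400000420c00002401020c000000008008100f48008a0000400807001130800401c100000100000004018101a00100564354100100100000044018000000004100030000104300800028700100001401000101f0000000000010405800000010010010021210400a004000000104030104004100004000104104000100104100000104178000104104100100104104100104104004104004004104004004104000004004000104104000100104100104008104104004104004004104d,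
  nat_lit 0x800030000830001400800000c00c00800841040000840800000c00040c00080073000800061000000800002801020800c01800000000003c04c02400400c008004004300010000204a5c01800000810060180050000000000820001c004008100000808100000000100904100001a00008001100000200000038100000000108705000000100200104204000000101500104000300100000304004064004004000200050004000104200014058100100534000104100000100000148100004100100100004104005b00100004100104104104100104004014004104104000100104100100100104100100104204100104004000104204004004100104104100100104100100100104b,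
  nat_lit 0x801040020c00021000031070040c00000000000010000060000c01800000000800000001000000c50000c51400040003400000000090820000c20000010000000000000400020000000001460000030880030020800034000000020020400000000000000000004c000008000000000000c0000420c01410012830400400003c00400000020000000004413830010010424800410000000000400010000800010400400c00140400000010000010000400000000400010010000400400000010002c1000041041000000000000040000041040000000000040001041041000000002040001000040040040001043040001041040001041040001041041000040001000040001000041041040001,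
  nat_lit 0x20030801030800021400c01031000820820021001420850c21c40000c20030020010800020021800801cd2021800820020010020040002030000800003c00801420010020400800820002400800800002061000020530000420000400400020010805820400801810c30010c04420020000800400020000c10c004204108000005708000004200104c0010000811400000120015420000800420010800011c00410400140800420011c02420004000010802c204200008008004e04004200108000008004104004200200108004200a040042002001080002001041040080080040042001080041041042001040042001041042001041042001040041080042001080042001080041041042001]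
noncomputable def IO4 (k u : ℕ) : ℕ := Nat.land (Nat.shiftRight (nth (nat_lit 0) IO4d k) (Nat.mul u (nat_lit 6))) (nat_lit 63)
noncomputable def DO4d : ℕ := nat_lit 0x9a6513ae25844988927116a222c440887710da218442f885b109620e440c880b0fd21f0c3dc87af0f1e1dbc3af875d0e6e1cac3908712ee1ddb9bb7176d8ed8ddacbb4d7692ed11d9c3b37766ceca1d913b1b7634ec51d87bb0e7610ec1dd833b0375f2ebe1d77baee75c2eb81d6c3ad775aaeb41d65bac77582eaedd5d3ab1755aeaadd553aa57544ea79d4e3a987522ea39d45ba8a7502ea01d3eba7c74dee9b9d34ba6374c4e961d2aba53749ae929d23ba467486e8fdd1f3a3d7470e8d5d13ba267436e855d093a107418e825d02ba0273ece7cdcf839e973d0e785cf039df73bce749ce639ca7392e715ce0b9bf737ce6f1cdbb9b67362e6bd8d431a46346c6898d0b1996330c6518c9318d6318c6258c43187630cc60d8c1318162fec5f98be317a62f2c5dd8b8316d62d8c5a58b4316562c8c58d8aeb15862aec5598a8b1506298c5218a3b146628ac5098a0b13f627cc4e589c31356268c4c5898312d6256c4a5892b1216240c47988e31196230c45588a31136224c441887b10e621ac42d8853108620ec4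19881310061fac3f187cb0f861eac3d1878b0f061dec3b587430e761ccc391870b0e061b8c36d86d30d961aac351868b0d0619ec33986630cb6192c31d86330c46186c30585fb0be6178c2e585c30b56168a2cd45928b1515ea2b945628a9514ea29945228a15140a27544e289b5134a25d44b28955126a249448a88f511ca231444a8855108a20d441287f50fca1f543da87a50f0a1dd43b287450e2a1c1436a86c50d6a1a9433a86650caa189430285f50bca17542da85a50b0a15542a285150a0a13d42720494090811502220434084810501ea039407080dd01b2034406280c1016202b405480a5012a0244042808100fa01e4038606cc0d1819302e6058c0a181330246044c07980e3018402480410052008200c4010000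
noncomputable def DO4 (u : ℕ) : ℕ := Nat.land (Nat.shiftRight DO4d (Nat.mul u (nat_lit 15))) (nat_lit 32767)
noncomputable def EO4 (_ : ℕ) : ℕ := nat_lit 0
noncomputable def JO4 (_ : ℕ) : ℕ := nat_lit 0
noncomputable def WO4 (_ : ℕ) : ℕ := nat_lit 0
noncomputable def RLO4 : List (List Rule) := [[.rel (nat_lit 0) (nat_lit 0) [nat_lit 1], .defn, .rel (nat_lit 30) (nat_lit 0) [nat_lit 3, nat_lit 0, nat_lit 3, nat_lit 0, nat_lit 3, nat_lit 0, nat_lit 3], .rel (nat_lit 20) (nat_lit 0) [nat_lit 0, nat_lit 0, nat_lit 0, nat_lit 0, nat_lit 0, nat_lit 0], .rel (nat_lit 36) (nat_lit 12) [nat_lit 2, nat_lit 0, nat_lit 0, nat_lit 0, nat_lit 3, nat_lit 0, nat_lit 0, nat_lit 2, nat_lit 1, nat_lit 3, nat_lit 1, nat_lit 1, nat_lit 2], .rel (nat_lit 32) (nat_lit 1) [nat_lit 3, nat_lit 0, nat_lit 0, nat_lit 3, nat_lit 0, nat_lit 0, nat_lit 3, nat_lit 0, nat_lit 0, nat_lit 3, nat_lit 0], .rel (nat_lit 34) (nat_lit 1) [nat_lit 0, nat_lit 2, nat_lit 0, nat_lit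 0, nat_lit 3, nat_lit 1, nat_lit 2, nat_lit 1, nat_lit 1, nat_lit 3, nat_lit 1, nat_lit 2, nat_lit 0], .rel (nat_lit 34) (nat_lit 2) [nat_lit 2, nat_lit 0, nat_lit 0, nat_lit 3, nat_lit 1, nat_lit 2, nat_lit 1, nat_lit 1, nat_lit 3, nat_lit 1, nat_lit 2, nat_lit 0, nat_lit 0], .rel (nat_lit 34) (nat_lit 0) [nat_lit 0, nat_lit 0, nat_lit 2, nat_lit 0, nat_lit 0, nat_lit 3, nat_lit 1, nat_lit 2, nat_lit 1, nat_lit 1, nat_lit 3, nat_lit 1, nat_lit 2], .rel (nat_lit 34) (nat_lit 5) [nat_lit 3, nat_lit 1, nat_lit 2, nat_lit 1, nat_lit 1, nat_lit 3, nat_lit 1, nat_lit 2, nat_lit 0, nat_lit 0, nat_lit 0, nat_lit 2, nat_lit 0], .rel (nat_lit 35) (nat_lit 3) [nat_lit 0, nat_lit 3, nat_lit 0, nat_lit 2, nat_lit 1, nat_lit 1, nat_lit 3, nat_lit 1, nat_lit 1, nat_lit 1, nat_lit 3, nat_lit 0, nat_lit 2], .rel (nat_lit 37) (nat_lit 6) [nat_lit 3, nat_lit 1, nat_lit 1, nat_lit 2, nat_lit 1, nat_lit 1, nat_lit 1, nat_lit 3, nat_lit 1, nat_lit 3, nat_lit 0,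 nat_lit 0, nat_lit 2], .rel (nat_lit 39) (nat_lit 5) [nat_lit 2, nat_lit 1, nat_lit 2, nat_lit 0, nat_lit 2, nat_lit 1, nat_lit 1, nat_lit 1, nat_lit 3, nat_lit 0, nat_lit 0, nat_lit 2, nat_lit 0], .sub (nat_lit 0) [] [], .rel (nat_lit 34) (nat_lit 4) [nat_lit 0, nat_lit 3, nat_lit 1, nat_lit 2, nat_lit 1, nat_lit 1, nat_lit 3, nat_lit 1, nat_lit 2, nat_lit 0, nat_lit 0, nat_lit 0, nat_lit 2], .rel (nat_lit 35) (nat_lit 1) [nat_lit 2, nat_lit 0, nat_lit 0, nat_lit 3, nat_lit 0, nat_lit 2, nat_lit 1, nat_lit 1, nat_lit 3, nat_lit 1, nat_lit 1, nat_lit 1, nat_lit 3], .rel (nat_lit 35) (nat_lit 4) [nat_lit 3, nat_lit 0, nat_lit 2, nat_lit 1, nat_lit 1, nat_lit 3, nat_lit 1, nat_lit 1, nat_lit 1, nat_lit 3, nat_lit 0, nat_lit 2, nat_lit 0], .rel (nat_lit 35) (nat_lit 6) [nat_lit 2, nat_lit 1, nat_lit 1, nat_lit 3, nat_lit 1, nat_lit 1, nat_lit 1, nat_lit 3, nat_lit 0, nat_lit 2, nat_lit 0, nat_lit 0, nat_lit 3], .rel (nat_lit 36) (nat_lit 2) [nat_lit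 3, nat_lit 0, nat_lit 0, nat_lit 2, nat_lit 1, nat_lit 3, nat_lit 1, nat_lit 1, nat_lit 2, nat_lit 0, nat_lit 2, nat_lit 0, nat_lit 0], .rel (nat_lit 36) (nat_lit 4) [nat_lit 0, nat_lit 2, nat_lit 1, nat_lit 3, nat_lit 1, nat_lit 1, nat_lit 2, nat_lit 0, nat_lit 2, nat_lit 0, nat_lit 0, nat_lit 0, nat_lit 3], .rel (nat_lit 38) (nat_lit 2) [nat_lit 3, nat_lit 1, nat_lit 3, nat_lit 0, nat_lit 3, nat_lit 1, nat_lit 1, nat_lit 3, nat_lit 1, nat_lit 1, nat_lit 2, nat_lit 0, nat_lit 0], .rel (nat_lit 38) (nat_lit 6) [nat_lit 3, nat_lit 1, nat_lit 1, nat_lit 3, nat_lit 1, nat_lit 1, nat_lit 2, nat_lit 0, nat_lit 0, nat_lit 0, nat_lit 3, nat_lit 1, nat_lit 3], .rel (nat_lit 44) (nat_lit 9) [nat_lit 2, nat_lit 0, nat_lit 3, nat_lit 0, nat_lit 2, nat_lit 0, nat_lit 0, nat_lit 0, nat_lit 2, nat_lit 0, nat_lit 2, nat_lit 1, nat_lit 1, nat_lit 2], .rel (nat_lit 44) (nat_lit 11) [nat_lit 3, nat_lit 0, nat_lit 2, nat_lit 0, nat_lit 0, nat_lit 0, nat_lit 2,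 nat_lit 0, nat_lit 2, nat_lit 1, nat_lit 1, nat_lit 2, nat_lit 0, nat_lit 2], .rel (nat_lit 45) (nat_lit 8) [nat_lit 3, nat_lit 1, nat_lit 3, nat_lit 1, nat_lit 1, nat_lit 1, nat_lit 3, nat_lit 1, nat_lit 2, nat_lit 1, nat_lit 3, nat_lit 1, nat_lit 3, nat_lit 0], .rel (nat_lit 46) (nat_lit 1) [nat_lit 0, nat_lit 2, nat_lit 1, nat_lit 1, nat_lit 1, nat_lit 2, nat_lit 0, nat_lit 0, nat_lit 3, nat_lit 0, nat_lit 2, nat_lit 0, nat_lit 2, nat_lit 0], .rel (nat_lit 46) (nat_lit 9) [nat_lit 3, nat_lit 0, nat_lit 2, nat_lit 0, nat_lit 2, nat_lit 0, nat_lit 0, nat_lit 0, nat_lit 2, nat_lit 1, nat_lit 1, nat_lit 1, nat_lit 2, nat_lit 0], .rel (nat_lit 48) (nat_lit 7) [nat_lit 3, nat_lit 0, nat_lit 0, nat_lit 0, nat_lit 2, nat_lit 1, nat_lit 3, nat_lit 0, nat_lit 0, nat_lit 0, nat_lit 2, nat_lit 1, nat_lit 1, nat_lit 2], .rel (nat_lit 48) (nat_lit 10) [nat_lit 0, nat_lit 2, nat_lit 1, nat_lit 3, nat_lit 0, nat_lit 0, nat_lit 0, nat_lit 2, nat_lit 1, nat_lit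 1, nat_lit 2, nat_lit 0, nat_lit 3, nat_lit 0], .rel (nat_lit 52) (nat_lit 11) [nat_lit 3, nat_lit 1, nat_lit 2, nat_lit 0, nat_lit 0, nat_lit 0, nat_lit 2, nat_lit 1, nat_lit 3, nat_lit 1, nat_lit 2, nat_lit 0, nat_lit 0, nat_lit 3], .rel (nat_lit 55) (nat_lit 8) [nat_lit 3, nat_lit 1, nat_lit 2, nat_lit 1, nat_lit 1, nat_lit 1, nat_lit 2, nat_lit 0, nat_lit 2, nat_lit 0, nat_lit 0, nat_lit 3, nat_lit 1, nat_lit 2], .rel (nat_lit 57) (nat_lit 6) [nat_lit 2, nat_lit 0, nat_lit 2, nat_lit 0, nat_lit 2, nat_lit 1, nat_lit 1, nat_lit 1, nat_lit 2, nat_lit 0, nat_lit 3, nat_lit 1, nat_lit 2, nat_lit 0], .rel (nat_lit 57) (nat_lit 10) [nat_lit 2, nat_lit 1, nat_lit 1, nat_lit 1, nat_lit 2, nat_lit 0, nat_lit 3, nat_lit 1, nat_lit 2, nat_lit 0, nat_lit 0, nat_lit 2, nat_lit 0, nat_lit 2], .rel (nat_lit 60) (nat_lit 2) [nat_lit 2, nat_lit 0, nat_lit 0, nat_lit 3, nat_lit 0, nat_lit 3, nat_lit 1, nat_lit 3, nat_lit 1, nat_lit 3, nat_lit 0, nat_lit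 0, nat_lit 3, nat_lit 0, nat_lit 0]],
  [.rel (nat_lit 0) (nat_lit 1) [nat_lit 0], .defn, .rel (nat_lit 21) (nat_lit 0) [nat_lit 1, nat_lit 1, nat_lit 1, nat_lit 1, nat_lit 1, nat_lit 1], .rel (nat_lit 31) (nat_lit 1) [nat_lit 2, nat_lit 1, nat_lit 2, nat_lit 1, nat_lit 2, nat_lit 1, nat_lit 2], .rel (nat_lit 34) (nat_lit 10) [nat_lit 3, nat_lit 1, nat_lit 2, nat_lit 0, nat_lit 0, nat_lit 0, nat_lit 2, nat_lit 0, nat_lit 0, nat_lit 3, nat_lit 1, nat_lit 2, nat_lit 1], .rel (nat_lit 33) (nat_lit 2) [nat_lit 2, nat_lit 1, nat_lit 1, nat_lit 2, nat_lit 1, nat_lit 1, nat_lit 2, nat_lit 1, nat_lit 1, nat_lit 2, nat_lit 1], .rel (nat_lit 36) (nat_lit 7) [nat_lit 3, nat_lit 1, nat_lit 1, nat_lit 2, nat_lit 0, nat_lit 2, nat_lit 0, nat_lit 0, nat_lit 0, nat_lit 3, nat_lit 0, nat_lit 0, nat_lit 2], .rel (nat_lit 38) (nat_lit 4) [nat_lit 3, nat_lit 0, nat_lit 3, nat_lit 1, nat_lit 1, nat_lit 3, nat_lit 1, nat_lit 1, nat_lit 2, nat_lit 0, nat_lit 0, nat_lit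 0, nat_lit 3], .rel (nat_lit 33) (nat_lit 1) [nat_lit 1, nat_lit 2, nat_lit 1, nat_lit 1, nat_lit 2, nat_lit 1, nat_lit 1, nat_lit 2, nat_lit 1, nat_lit 1, nat_lit 2], .rel (nat_lit 34) (nat_lit 7) [nat_lit 2, nat_lit 1, nat_lit 1, nat_lit 3, nat_lit 1, nat_lit 2, nat_lit 0, nat_lit 0, nat_lit 0, nat_lit 2, nat_lit 0, nat_lit 0, nat_lit 3], .rel (nat_lit 35) (nat_lit 13) [nat_lit 3, nat_lit 0, nat_lit 2, nat_lit 0, nat_lit 0, nat_lit 3, nat_lit 0, nat_lit 2, nat_lit 1, nat_lit 1, nat_lit 3, nat_lit 1, nat_lit 1], .sub (nat_lit 2) [] [], .rel (nat_lit 34) (nat_lit 9) [nat_lit 1, nat_lit 3, nat_lit 1, nat_lit 2, nat_lit 0, nat_lit 0, nat_lit 0, nat_lit 2, nat_lit 0, nat_lit 0, nat_lit 3, nat_lit 1, nat_lit 2], .rel (nat_lit 35) (nat_lit 8) [nat_lit 1, nat_lit 3, nat_lit 1, nat_lit 1, nat_lit 1, nat_lit 3, nat_lit 0, nat_lit 2, nat_lit 0, nat_lit 0, nat_lit 3, nat_lit 0, nat_lit 2], .rel (nat_lit 35) (nat_lit 11) [nat_lit 1, nat_lit 1, nat_lit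 3, nat_lit 0, nat_lit 2, nat_lit 0, nat_lit 0, nat_lit 3, nat_lit 0, nat_lit 2, nat_lit 1, nat_lit 1, nat_lit 3], .rel (nat_lit 36) (nat_lit 10) [nat_lit 2, nat_lit 0, nat_lit 2, nat_lit 0, nat_lit 0, nat_lit 0, nat_lit 3, nat_lit 0, nat_lit 0, nat_lit 2, nat_lit 1, nat_lit 3, nat_lit 1], .rel (nat_lit 37) (nat_lit 8) [nat_lit 1, nat_lit 2, nat_lit 1, nat_lit 1, nat_lit 1, nat_lit 3, nat_lit 1, nat_lit 3, nat_lit 0, nat_lit 0, nat_lit 2, nat_lit 0, nat_lit 3], .rel (nat_lit 37) (nat_lit 13) [nat_lit 3, nat_lit 1, nat_lit 3, nat_lit 0, nat_lit 0, nat_lit 2, nat_lit 0, nat_lit 3, nat_lit 1, nat_lit 1, nat_lit 2, nat_lit 1, nat_lit 1], .rel (nat_lit 38) (nat_lit 8) [nat_lit 1, nat_lit 3, nat_lit 1, nat_lit 1, nat_lit 2, nat_lit 0, nat_lit 0, nat_lit 0, nat_lit 3, nat_lit 1, nat_lit 3, nat_lit 0, nat_lit 3], .rel (nat_lit 39) (nat_lit 7) [nat_lit 2, nat_lit 0, nat_lit 2, nat_lit 1, nat_lit 1, nat_lit 1, nat_lit 3, nat_lit 0, nat_lit 0, nat_lit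 2, nat_lit 0, nat_lit 0, nat_lit 2], .rel (nat_lit 39) (nat_lit 11) [nat_lit 1, nat_lit 1, nat_lit 3, nat_lit 0, nat_lit 0, nat_lit 2, nat_lit 0, nat_lit 0, nat_lit 2, nat_lit 1, nat_lit 2, nat_lit 0, nat_lit 2], .rel (nat_lit 39) (nat_lit 12) [nat_lit 1, nat_lit 3, nat_lit 0, nat_lit 0, nat_lit 2, nat_lit 0, nat_lit 0, nat_lit 2, nat_lit 1, nat_lit 2, nat_lit 0, nat_lit 2, nat_lit 1], .rel (nat_lit 41) (nat_lit 3) [nat_lit 2, nat_lit 0, nat_lit 2, nat_lit 0, nat_lit 3, nat_lit 0, nat_lit 0, nat_lit 3, nat_lit 1, nat_lit 1, nat_lit 2, nat_lit 1, nat_lit 3], .rel (nat_lit 43) (nat_lit 1) [nat_lit 3, nat_lit 1, nat_lit 3, nat_lit 1, nat_lit 3, nat_lit 1, nat_lit 3, nat_lit 1, nat_lit 3, nat_lit 1, nat_lit 3, nat_lit 1, nat_lit 3], .rel (nat_lit 47) (nat_lit 6) [nat_lit 3, nat_lit 0, nat_lit 0, nat_lit 0, nat_lit 3, nat_lit 1, nat_lit 1, nat_lit 1, nat_lit 3, nat_lit 1, nat_lit 3, nat_lit 1, nat_lit 2, nat_lit 1], .rel (nat_lit 53) (nat_lit 6)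 [nat_lit 3, nat_lit 0, nat_lit 2, nat_lit 0, nat_lit 3, nat_lit 1, nat_lit 1, nat_lit 1, nat_lit 3, nat_lit 0, nat_lit 2, nat_lit 1, nat_lit 2, nat_lit 1], .rel (nat_lit 64) (nat_lit 14) [nat_lit 2, nat_lit 0, nat_lit 0, nat_lit 2, nat_lit 0, nat_lit 2, nat_lit 1, nat_lit 1, nat_lit 3, nat_lit 1, nat_lit 2, nat_lit 0, nat_lit 3, nat_lit 0, nat_lit 2], .rel (nat_lit 69) (nat_lit 9) [nat_lit 3, nat_lit 1, nat_lit 2, nat_lit 1, nat_lit 3, nat_lit 1, nat_lit 2, nat_lit 1, nat_lit 2, nat_lit 0, nat_lit 3, nat_lit 0, nat_lit 2, nat_lit 1, nat_lit 2]],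
  [.rel (nat_lit 4) (nat_lit 0) [nat_lit 3], .defn, .rel (nat_lit 22) (nat_lit 0) [nat_lit 2, nat_lit 2], .rel (nat_lit 31) (nat_lit 0) [nat_lit 1, nat_lit 2, nat_lit 1, nat_lit 2, nat_lit 1, nat_lit 2, nat_lit 1], .rel (nat_lit 34) (nat_lit 3) [nat_lit 0, nat_lit 0, nat_lit 3, nat_lit 1, nat_lit 2, nat_lit 1, nat_lit 1, nat_lit 3, nat_lit 1, nat_lit 2, nat_lit 0, nat_lit 0, nat_lit 0], .rel (nat_lit 35) (nat_lit 2) [nat_lit 0, nat_lit 0, nat_lit 3, nat_lit 0, nat_lit 2, nat_lit 1, nat_lit 1, nat_lit 3, nat_lit 1, nat_lit 1, nat_lit 1, nat_lit 3, nat_lit 0], .rel (nat_lit 33) (nat_lit 0) [nat_lit 1, nat_lit 1, nat_lit 2, nat_lit 1, nat_lit 1, nat_lit 2, nat_lit 1, nat_lit 1, nat_lit 2, nat_lit 1, nat_lit 1], .rel (nat_lit 35) (nat_lit 7) [nat_lit 1, nat_lit 1, nat_lit 3, nat_lit 1, nat_lit 1, nat_lit 1, nat_lit 3, nat_lit 0, nat_lit 2, nat_lit 0, nat_lit 0, nat_lit 3, nat_lit 0], .rel (nat_lit 36) (nat_lit 6) [nat_lit 1, nat_lit 3, nat_lit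 1, nat_lit 1, nat_lit 2, nat_lit 0, nat_lit 2, nat_lit 0, nat_lit 0, nat_lit 0, nat_lit 3, nat_lit 0, nat_lit 0], .rel (nat_lit 36) (nat_lit 11) [nat_lit 0, nat_lit 2, nat_lit 0, nat_lit 0, nat_lit 0, nat_lit 3, nat_lit 0, nat_lit 0, nat_lit 2, nat_lit 1, nat_lit 3, nat_lit 1, nat_lit 1], .rel (nat_lit 36) (nat_lit 13) [nat_lit 0, nat_lit 0, nat_lit 0, nat_lit 3, nat_lit 0, nat_lit 0, nat_lit 2, nat_lit 1, nat_lit 3, nat_lit 1, nat_lit 1, nat_lit 2, nat_lit 0], .rel (nat_lit 37) (nat_lit 5) [nat_lit 0, nat_lit 3, nat_lit 1, nat_lit 1, nat_lit 2, nat_lit 1, nat_lit 1, nat_lit 1, nat_lit 3, nat_lit 1, nat_lit 3, nat_lit 0, nat_lit 0], .rel (nat_lit 37) (nat_lit 10) [nat_lit 1, nat_lit 1, nat_lit 1, nat_lit 3, nat_lit 1, nat_lit 3, nat_lit 0, nat_lit 0, nat_lit 2, nat_lit 0, nat_lit 3, nat_lit 1, nat_lit 1], .rel (nat_lit 38) (nat_lit 13) [nat_lit 0, nat_lit 0, nat_lit 0, nat_lit 3, nat_lit 1, nat_lit 3, nat_lit 0, nat_lit 3, nat_lit 1, nat_lit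 1, nat_lit 3, nat_lit 1, nat_lit 1], .rel (nat_lit 40) (nat_lit 11) [nat_lit 0, nat_lit 3, nat_lit 0, nat_lit 0, nat_lit 2, nat_lit 1, nat_lit 1, nat_lit 2, nat_lit 1, nat_lit 3, nat_lit 1, nat_lit 3, nat_lit 0], .rel (nat_lit 41) (nat_lit 4) [nat_lit 0, nat_lit 2, nat_lit 0, nat_lit 3, nat_lit 0, nat_lit 0, nat_lit 3, nat_lit 1, nat_lit 1, nat_lit 2, nat_lit 1, nat_lit 3, nat_lit 1], .rel (nat_lit 41) (nat_lit 6) [nat_lit 0, nat_lit 3, nat_lit 0, nat_lit 0, nat_lit 3, nat_lit 1, nat_lit 1, nat_lit 2, nat_lit 1, nat_lit 3, nat_lit 1, nat_lit 2, nat_lit 0], .rel (nat_lit 44) (nat_lit 5) [nat_lit 1, nat_lit 1, nat_lit 2, nat_lit 0, nat_lit 2, nat_lit 0, nat_lit 3, nat_lit 0, nat_lit 2, nat_lit 0, nat_lit 0, nat_lit 0, nat_lit 2, nat_lit 0], .rel (nat_lit 46) (nat_lit 3) [nat_lit 1, nat_lit 1, nat_lit 1, nat_lit 2, nat_lit 0, nat_lit 0, nat_lit 3, nat_lit 0, nat_lit 2, nat_lit 0, nat_lit 2, nat_lit 0, nat_lit 0, nat_lit 0], .rel (nat_lit 48) (nat_lit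 6) [nat_lit 0, nat_lit 3, nat_lit 0, nat_lit 0, nat_lit 0, nat_lit 2, nat_lit 1, nat_lit 3, nat_lit 0, nat_lit 0, nat_lit 0, nat_lit 2, nat_lit 1, nat_lit 1], .rel (nat_lit 49) (nat_lit 6) [nat_lit 1, nat_lit 3, nat_lit 0, nat_lit 0, nat_lit 3, nat_lit 1, nat_lit 1, nat_lit 1, nat_lit 2, nat_lit 0, nat_lit 3, nat_lit 1, nat_lit 1, nat_lit 1]],
  [.rel (nat_lit 4) (nat_lit 1) [nat_lit 2], .defn, .rel (nat_lit 23) (nat_lit 0) [nat_lit 3, nat_lit 3], .rel (nat_lit 30) (nat_lit 1) [nat_lit 0, nat_lit 3, nat_lit 0, nat_lit 3, nat_lit 0, nat_lit 3, nat_lit 0], .rel (nat_lit 34) (nat_lit 11) [nat_lit 1, nat_lit 2, nat_lit 0, nat_lit 0, nat_lit 0, nat_lit 2, nat_lit 0, nat_lit 0, nat_lit 3, nat_lit 1, nat_lit 2, nat_lit 1, nat_lit 1], .rel (nat_lit 35) (nat_lit 10) [nat_lit 1, nat_lit 1, nat_lit 1, nat_lit 3, nat_lit 0, nat_lit 2, nat_lit 0, nat_lit 0, nat_lit 3, nat_lit 0, nat_lit 2, nat_lit 1, nat_lit 1], .rel (nat_lit 35) (nat_lit 0) [nat_lit 0,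 nat_lit 2, nat_lit 0, nat_lit 0, nat_lit 3, nat_lit 0, nat_lit 2, nat_lit 1, nat_lit 1, nat_lit 3, nat_lit 1, nat_lit 1, nat_lit 1], .rel (nat_lit 37) (nat_lit 2) [nat_lit 0, nat_lit 0, nat_lit 2, nat_lit 0, nat_lit 3, nat_lit 1, nat_lit 1, nat_lit 2, nat_lit 1, nat_lit 1, nat_lit 1, nat_lit 3, nat_lit 1], .rel (nat_lit 34) (nat_lit 6) [nat_lit 1, nat_lit 2, nat_lit 1, nat_lit 1, nat_lit 3, nat_lit 1, nat_lit 2, nat_lit 0, nat_lit 0, nat_lit 0, nat_lit 2, nat_lit 0, nat_lit 0], .rel (nat_lit 32) (nat_lit 2) [nat_lit 0, nat_lit 0, nat_lit 3, nat_lit 0, nat_lit 0, nat_lit 3, nat_lit 0, nat_lit 0, nat_lit 3, nat_lit 0, nat_lit 0], .rel (nat_lit 35) (nat_lit 5) [nat_lit 0, nat_lit 2, nat_lit 1, nat_lit 1, nat_lit 3, nat_lit 1, nat_lit 1, nat_lit 1, nat_lit 3, nat_lit 0, nat_lit 2, nat_lit 0, nat_lit 0], .rel (nat_lit 36) (nat_lit 3) [nat_lit 0, nat_lit 0, nat_lit 2, nat_lit 1, nat_lit 3, nat_lit 1, nat_lit 1, nat_lit 2, nat_lit 0, nat_lit 2, nat_lit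 0, nat_lit 0, nat_lit 0], .rel (nat_lit 36) (nat_lit 8) [nat_lit 1, nat_lit 1, nat_lit 2, nat_lit 0, nat_lit 2, nat_lit 0, nat_lit 0, nat_lit 0, nat_lit 3, nat_lit 0, nat_lit 0, nat_lit 2, nat_lit 1], .rel (nat_lit 37) (nat_lit 7) [nat_lit 1, nat_lit 1, nat_lit 2, nat_lit 1, nat_lit 1, nat_lit 1, nat_lit 3, nat_lit 1, nat_lit 3, nat_lit 0, nat_lit 0, nat_lit 2, nat_lit 0], .rel (nat_lit 38) (nat_lit 5) [nat_lit 0, nat_lit 3, nat_lit 1, nat_lit 1, nat_lit 3, nat_lit 1, nat_lit 1, nat_lit 2, nat_lit 0, nat_lit 0, nat_lit 0, nat_lit 3, nat_lit 1], .rel (nat_lit 40) (nat_lit 7) [nat_lit 1, nat_lit 3, nat_lit 0, nat_lit 2, nat_lit 0, nat_lit 3, nat_lit 0, nat_lit 0, nat_lit 2, nat_lit 1, nat_lit 1, nat_lit 2, nat_lit 1], .rel (nat_lit 40) (nat_lit 9) [nat_lit 0, nat_lit 2, nat_lit 0, nat_lit 3, nat_lit 0, nat_lit 0, nat_lit 2, nat_lit 1, nat_lit 1, nat_lit 2, nat_lit 1, nat_lit 3, nat_lit 1], .rel (nat_lit 41) (nat_lit 8) [nat_lit 0, nat_lit 0,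 nat_lit 3, nat_lit 1, nat_lit 1, nat_lit 2, nat_lit 1, nat_lit 3, nat_lit 1, nat_lit 2, nat_lit 0, nat_lit 2, nat_lit 0], .rel (nat_lit 47) (nat_lit 2) [nat_lit 1, nat_lit 2, nat_lit 1, nat_lit 1, nat_lit 3, nat_lit 0, nat_lit 0, nat_lit 0, nat_lit 3, nat_lit 1, nat_lit 1, nat_lit 1, nat_lit 3, nat_lit 1], .rel (nat_lit 48) (nat_lit 14) [nat_lit 0, nat_lit 0, nat_lit 0, nat_lit 2, nat_lit 1, nat_lit 1, nat_lit 2, nat_lit 0, nat_lit 3, nat_lit 0, nat_lit 0, nat_lit 0, nat_lit 2, nat_lit 1], .rel (nat_lit 49) (nat_lit 2) [nat_lit 1, nat_lit 1, nat_lit 1, nat_lit 2, nat_lit 1, nat_lit 3, nat_lit 0, nat_lit 0, nat_lit 3, nat_lit 1, nat_lit 1, nat_lit 1, nat_lit 2, nat_lit 0], .rel (nat_lit 50) (nat_lit 9) [nat_lit 1, nat_lit 3, nat_lit 0, nat_lit 0, nat_lit 2, nat_lit 0, nat_lit 0, nat_lit 0, nat_lit 2, nat_lit 1, nat_lit 2, nat_lit 0, nat_lit 2, nat_lit 0], .rel (nat_lit 51) (nat_lit 9) [nat_lit 0, nat_lit 3, nat_lit 1, nat_lit 1, nat_lit 1, nat_lit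 3, nat_lit 1, nat_lit 1, nat_lit 2, nat_lit 0, nat_lit 2, nat_lit 1, nat_lit 3, nat_lit 1], .rel (nat_lit 55) (nat_lit 9) [nat_lit 1, nat_lit 2, nat_lit 1, nat_lit 1, nat_lit 1, nat_lit 2, nat_lit 0, nat_lit 2, nat_lit 0, nat_lit 0, nat_lit 3, nat_lit 1, nat_lit 2, nat_lit 0]]]
noncomputable def cO4 : TCert2 := ⟨360, 360, 360, 4, 511, 2047, 0, TO4, IO4, DO4, EO4, JO4, WO4, [[nat_lit 0],
  [nat_lit 1]], RLO4⟩
noncomputable def TO6d : List ℕ := [nat_lit 0xb1143756b2c5c9c3c0,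
  nat_lit 0x2665b327b1c4c8c0,
  nat_lit 0x98b39775a4c692a1c0,
  nat_lit 0xa8a6b36594c7a291c0,
  nat_lit 0x876645a483b092c1,
  nat_lit 0x7776559493a1b0c2]
noncomputable def TO6 (k u : ℕ) : ℕ := Nat.land (Nat.shiftRight (nth (nat_lit 0) TO6d k) (Nat.mul u (nat_lit 8))) (nat_lit 255)
noncomputable def IO6d : List ℕ := [nat_lit 0xc024a,
  nat_lit 0xc404a,
  nat_lit 0x2c419,
  nat_lit 0x5600501,
  nat_lit 0x404001,
  nat_lit 0xe0a81]
noncomputable def IO6 (k u : ℕ) : ℕ := Nat.land (Nat.shiftRight (nth (nat_lit 0) IO6d k) (Nat.mul u (nat_lit 3))) (nat_lit 7)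
noncomputable def DO6d : ℕ := nat_lit 0x8c87d5d4d28d86454400
noncomputable def DO6 (u : ℕ) : ℕ := Nat.land (Nat.shiftRight DO6d (Nat.mul u (nat_lit 8))) (nat_lit 255)
noncomputable def EO6td : ℕ := nat_lit 0x18c2
noncomputable def EO6t (u : ℕ) : ℕ := Nat.land (Nat.shiftRight EO6td (Nat.mul u (nat_lit 7))) (nat_lit 127)
noncomputable def JO6td : ℕ := nat_lit 0x36
noncomputable def JO6t (u : ℕ) : ℕ := Nat.land (Nat.shiftRight JO6td (Nat.mul u (nat_lit 5))) (nat_lit 31)
noncomputable def WO6td : ℕ := nat_lit 6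
noncomputable def WO6t (u : ℕ) : ℕ := Nat.land (Nat.shiftRight WO6td (Nat.mul u (nat_lit 2))) (nat_lit 3)
@[irreducible] noncomputable def EO6 (a : ℕ) : ℕ := force (Nat.sub a (nat_lit 8)) EO6t
@[irreducible] noncomputable def JO6 (a : ℕ) : ℕ := force (Nat.sub a (nat_lit 8)) JO6t
@[irreducible] noncomputable def WO6 (a : ℕ) : ℕ := force (Nat.sub a (nat_lit 8)) WO6t
noncomputable def RLO6 : List (List Rule) := [[.rel (nat_lit 0) (nat_lit 0) [nat_lit 1], .defn, .sub (nat_lit 0) [] [], .rel (nat_lit 191) (nat_lit 11) [nat_lit 3, nat_lit 1, nat_lit 5, nat_lit 1, nat_lit 1, nat_lit 1, nat_lit 5, nat_lit 0, nat_lit 0, nat_lit 0, nat_lit 4]],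
  [.rel (nat_lit 0) (nat_lit 1) [nat_lit 0], .defn, .sub (nat_lit 2) [] [], .rel (nat_lit 62) (nat_lit 6) [nat_lit 1, nat_lit 1, nat_lit 2, nat_lit 1, nat_lit 3, nat_lit 0, nat_lit 3, nat_lit 1, nat_lit 3, nat_lit 0, nat_lit 0, nat_lit 0, nat_lit 2, nat_lit 1, nat_lit 2], .rel (nat_lit 195) (nat_lit 5) [nat_lit 3, nat_lit 0, nat_lit 2, nat_lit 0, nat_lit 5, nat_lit 0, nat_lit 3, nat_lit 1, nat_lit 4, nat_lit 1, nat_lit 3]],
  [.rel (nat_lit 4) (nat_lit 0) [nat_lit 3], .sub (nat_lit 4) [] [], .defn, .rel (nat_lit 70) (nat_lit 2) [nat_lit 5, nat_lit 3, nat_lit 4], .rel (nat_lit 86) (nat_lit 3) [nat_lit 0, nat_lit 4, nat_lit 1, nat_lit 3, nat_lit 0, nat_lit 5, nat_lit 1], .rel (nat_lit 194) (nat_lit 11) [nat_lit 1, nat_lit 4, nat_lit 1, nat_lit 3, nat_lit 1, nat_lit 2, nat_lit 0, nat_lit 2, nat_lit 0, nat_lit 5, nat_lit 0]],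
  [.rel (nat_lit 4) (nat_lit 1) [nat_lit 2], .sub (nat_lit 6) [] [], .defn, .rel (nat_lit 23) (nat_lit 0) [nat_lit 3, nat_lit 3], .rel (nat_lit 70) (nat_lit 0) [nat_lit 4, nat_lit 2, nat_lit 5], .rel (nat_lit 86) (nat_lit 7) [nat_lit 0, nat_lit 5, nat_lit 1, nat_lit 2, nat_lit 0, nat_lit 4, nat_lit 1]],
  [.rel (nat_lit 8) (nat_lit 0) [nat_lit 5], .defn, .rel (nat_lit 70) (nat_lit 1) [nat_lit 2, nat_lit 5, nat_lit 3], .rel (nat_lit 190) (nat_lit 5) [nat_lit 0, nat_lit 0, nat_lit 0, nat_lit 4, nat_lit 0, nat_lit 2, nat_lit 1, nat_lit 5, nat_lit 1, nat_lit 1, nat_lit 1], .rel (nat_lit 196) (nat_lit 5) [nat_lit 0, nat_lit 4, nat_lit 0, nat_lit 2, nat_lit 0, nat_lit 2, nat_lit 1, nat_lit 3, nat_lit 1, nat_lit 5, nat_lit 1]],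
  [.rel (nat_lit 8) (nat_lit 1) [nat_lit 4], .defn, .rel (nat_lit 25) (nat_lit 0) [nat_lit 5, nat_lit 5], .rel (nat_lit 70) (nat_lit 3) [nat_lit 3, nat_lit 4, nat_lit 2], .rel (nat_lit 193) (nat_lit 2) [nat_lit 3, nat_lit 1, nat_lit 1, nat_lit 5, nat_lit 0, nat_lit 0, nat_lit 2, nat_lit 4, nat_lit 0, nat_lit 2, nat_lit 1], .rel (nat_lit 200) (nat_lit 11) [nat_lit 1, nat_lit 5, nat_lit 0, nat_lit 5, nat_lit 1, nat_lit 4, nat_lit 0, nat_lit 4, nat_lit 1, nat_lit 4, nat_lit 0]]]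
noncomputable def cO6 : TCert2 := ⟨8, 8, 10, 6, 15, 63, 1, TO6, IO6, DO6, EO6, JO6, WO6, [[nat_lit 0],
  [nat_lit 1],
  [nat_lit 2],
  [nat_lit 3]], RLO6⟩
noncomputable def TO8d0 : BT := (.node (.node (.node (.leaf (nat_lit 0x18015000060128000000000000000000000000000005c3b80000000000005c3c800000000c024800030a6b85346426614c40001852a0000000030a400000c2860000000018504c00680000000184f6c006613c309d984e8000056232c0220000c25300003092e000000005a08b08d57c0b0a23e1b1f005b8662c32de18770c318608c301e17b70bcf85dcc2eb617030b75859eac366005ec18f8572c2b36156f0aa5854cc2a2e14e30a598443c28ae1446b04b7c13c26ee002b099784c9c26361317097f84bac25b612c3000f8006c24d6001709136024b40961202c0d38004c218e10bf08d18461c22ee117308b56c08c22a6000b0841841ec2285903b08338001c207e102708078400)) (.leaf (nat_lit 0x145b300005782400000000c0990000000000000000000000000000000000000000000000000000000000000000a2d10000000000000000000002a24800000000000000000000000006046ee2ab7d4a00006045c0000000000006044eda920000c08900000000000000000000000001810a000000000000000007f25c2883020a000000000000000000000000000000000180fb000000002cbe4000000000000000015289c07ae03cc00015a6bb0918000284cc0000c077d9a3ed244000000005ca8c0000fe0f000000000000000000000000000000000000006038400000000000000000000000000000000000000000000000000301aa000000000000000000000000057ad400000000)))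 (.leaf (nat_lit 0xc01a000030d540000000061a9b00f9807a00000000000000000000000000000000000000000000000000000000000000018032000061a6300ec0000c0398000000000000000061a4300e0000000000000000000000000000000000000000000000030d16000000000000000000000c03580000d4960000000000003005d867fc33f569ec0001867ac33c800000000000000005e9530cec00000000000000000000000000000000000000c335000030cd000000000000000000000000000000300c000000000600ac000000000000600ab0c9c00000000000000001864a0000000000001805e000000000000161b2a03a5223800000000))) (.node (.node (.leaf (nat_lit 0xa8468000000000000c31b800030c6d80590000000000001805700000000300ac000000000000300aa0000c311e18880001861f00005467000000000000000003005000000000000000000000000005610000018052c3068000300a2000000000000000000000000000002d1ee000000005a3e70c0400000000000030bf800000000000030be8000000000000000000000c2f2de33b0bc40000c00f8000000000000000000000000185da000000000000160ebb411800030ba585cfc0278000000000000c02700000000185b8000060070000000000000000030b63804dc2d6000000001804c000000000000185a3c00d000000001859bc2cc6164c00000000c2c8e00600000000000000000000000000))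 (.leaf (nat_lit 0x224400000000000000000000000000606370319818b000000000000000000000605e4000152b600000000000000000c0b700000000135ad0000605b000000000000000000000000000000000000000000000000000302b20000a6ce8000302af7a1600000000000018148b2c26050c000000000000604f00000000000000000000000000))) (.leaf (nat_lit 0xc06400000000166a20000000000000000000000000000000000000000000000000000000000000000000000000000000000000000000000000000000000000000000000000000000000000000c0595a3d000000000c01d8000000000000000000000000180a80000000000000000000000000000000000c05200000000000000000000000000000000000000000000000000000001fd7a00000000000000001809f0000602780000000000005b2f80000f24300000000000016cbd000000000000000000000000000000000000000000000000000c3618000000000000000000000000186be0000000000000000000000000000018086000000000000000000000000000001803600000000000000000))))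
noncomputable def TO8d1 : BT := (.node (.node (.node (.leaf (nat_lit 0x1856d0000615b000000000000061566f8bb4503c2ab800000001855100000000000015c37c29fe0126c82a00000000000000000000000000000300218519000061423001f800e00006003709f00000c27a613c709db800b00006136309aa0000c253e128f093184940000611eb08d600000c23d29030cdf8663c0166187b0c3354dac302617bb0bd185ddc2ebe17070b775ce2c2c7616130aed8573c2b3e15730027854dc009614e7088b851cc28b6144b09c984e1c26f6133ab8536418b255db12b09818009c25be00230955849ec24de123f000b8486c21b6120708f98475bc145b05eb8a38462c001da01b08b78457bc246109b0005700cc20ee107308358414c000e102b08098400)) (.leaf (nat_lit 0x604dc00000000ae9b604d3026600000000604b4000000000000000000000000000000000000000000af16000000001812100004f8a4000000000000000000000000000000000000000000000000000000000000000000022329752e0000000000000000000000000000000000812180000000000000000000000000000076d63e6e4000000000000000000000000000000000000000000c07de03e400000000000000000000000000000000000000000000000000000000000000000000000000000000603aa2a470ebdc07400000000000000000000000000000000005da40000000000000000000000000081100000301ae0000000000002b4f400000000000000000000000006032400000000)))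 (.leaf (nat_lit 0x30d5c0000000000000000000000000600d000000000000061a9c000186a2000000000000000000000600cc0000000000000000000000000000000000000000000000000030d2b8694c34880002ecb200000000000000000000000000000000000000000000002d4a3868c00000000000000000c3450000000000000000000000000186860000000000000000000000000300d380680000619df00cc0000000000000000000000000601900000000000000000000014e61b315db89400018061af168000000000000c32d0000000000000c32b0000000000000c3296193c000000000000000000001805f000061921014186440000000030c83805c00000000000000000))) (.node (.node (.leaf (nat_lit 0xc31c00002c99400000000601630c5f65dac3175b1b800000000c313dd1c80001805500000000000018054000000000000000000000000030c2c0000000000000000000000000000000001860f0000000030c1200000000000000000000000005f2e800000000000000003004985ffb21a80003004400000000000000000000000005a6bad3500000000060080000000000000000000000000000006176c0000000000000000000000000000000000000185d000006013c000185c700000000000000000c2da616c80000000000006006c00000000c02680000000000000000000000000000000005340aa9ff5c52000000000000000000000616300000000000000000000000000))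 (.leaf (nat_lit 0xc0cd80000000000000000606500000000000000000000000000000055ab2c404000000000000000000000000000000000000000000605c40000000000000000000000000bb115a7f000000000000000000000000000000000000001815a0000000000000000000000000000018152b1130000000000000c0a280002ac6000000000000000000000000000000000000000))) (.leaf (nat_lit 0x180c50000000000000000000000000000000000b4d4d88d4000000000000000000000000000000000000000000000000003017600000000602e4000000000000000000000000000000000000000000000000000000000000000602a400000000c054000000000000000000000000000000000000000000000000000000000000000000000000000000000000000000000180a00000000000000000000005941301320000000000002654980970000000000000000000000000000000000c048000030d900000000000000000154e60000000000001808b00000000000000000000000003010e00000000000030d6d86b5c35a0000000000000000000002d1f5628b00000000000000000))))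
noncomputable def TO8d2 : BT := (.node (.node (.node (.leaf (nat_lit 0x5f0580001856e0000000030ac4000000005e0c80000000000006004c0000000000006004800000000aa7fe14f70a6c0000be24df044b0cb70670000614980000000000005e17f0a0a0000ac3580002f81d7c0dc27adc166e0b184e900006002af0a40000be045f01c0001704e00005e054000180030223deb170ce1791dc32e5e86ebbb17a05bc65617bf0bd385deb0716170b0b79859fc00c61616e86b6837c2b4600530aa7786ec2a3614eb0a5b8444bc855e42709cb643bbc6b6133f0999843fbc615e306e03584bbc25c612c70957849fb40ddd02709156c34ba0bde1ef00098476c238e10c2f0c77848c22f5e15af0ab8002bc06611470843784dbc2660006f00d844ac2086102f080b8400)) (.leaf (nat_lit 0xbd3e0000000018132aeb300000000000000000000000000000000000000302538128000000002fa46000000005e99c000000000000000000000000000000000000000000000057968000000000000579600000000000005796400000000b71b800000000000000004087c0000000091238000000000000000000000000181030000000000000000000000000000000000000000000000165b0000000000000180f6bb11000000001662cc07880000000000000000000000000000000000000301d17a2100000000000017c4200000000000000000be2080000000000000000000018c2200000000000000000000000003782800000000be20000000000000000000000000000000)))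 (.leaf (nat_lit 0x61ab400000000ad1b000030d5786a80000000030d4b86a300000000000000000000000002f53c000000005e58c0001869b00000000000000000000061a66b4fc0000c3490000000000000000000002caa200000000000000000000000000000000000000000000000000000000000000000001806cc344e1a1c0000000000000000000018680c034de4df0cfb867b00000000000000000000000002f25c0000c03280000000000000000000000000000000000000300c3866600000000300580000000000002ca3200000000000030caa000000005b8940001864dc3265f0aef855864bc32480002e21b8645bd2100002f20c000000005540800000000))) (.node (.node (.leaf (nat_lit 0xc02d5b3cae9f3863300000000000000000ba7980002d22c0000000000002e2240000000060152f1d58620bd0d600a4000000000000000000000000000000000000000000000000002f84f8610000000002d94c00000000000000000000000004f1d40000000000006009000018600c2fe800000000000000005a246d120000000000000000000000000000003003f78b9b26b80000000000000000600780000000000005e74c0001801dbc5600002d1dd60f7c2e661726d92a00000000000000001801cbc50616cc00000000000000002d1df85ae00005d25b0b5585a8000000002d8476c22c2d08000000017994c00cde22c00000000000061634000000000000615f800000000))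 (.leaf (nat_lit 0x5f11ae58c0000000000002e3698197c0cb00000000000000000000000000000000000000000000000c0c200002fb020000bebe58ae00001817200000000302e00000b4d1800000001816cbd520000000000000beb2000000000000000006056800000000a95b000000000000000000000000000000000000000000000000000000000001813ebd4457a180000000000000000302700000))) (.leaf (nat_lit 0x6031c00000000000000003018980c30000000000000000000000000000000000bcf800000000000000000000000000000000005f2f800000000c05d0000000000000000000000b518000000004e4d000000000b0e9000000000000000000000301516db6000048918000179cdb16100002d1aa0000badb80000000000000000000000000000000000000000000000000000002f94200000000000000001759800000000000000000000000003012e000000005a29701280000c04900000000165a400006023c00018038bcd0000030d88000000005f236f91986c1000000002e334000000000000000000000be43800000000000000000000000000000000000000000186b200000000000000000))))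
noncomputable def TO8d3 : BT := (.node (.node (.node (.leaf (nat_lit 0xbe0b000030ac600000000600530ab000000000000000000000000005f0c000018540ae2d800030a6e0000ba32000030a560000be08e149f0a420000be2f6003f0a0c0000c27fe13eee8ad745500005f03af81b84ea00005f14700140000ba26dd132f8117c0700006001000017c100423deb1b0ce3802cc32ede872f42f7a07c012617c30bd585dfb4146170f0b7b85a0b61a6161ae06b7018c2b4df1db0aa98012c2a3e14ef0a5d851dbc875e43709cd84e2bc6ce1343099b84cab448da243001384bcc25ce12cb095984a0b60ddb08709178437b80bde1faf8958432c239611baf0cd8003c22fde166f0b17c0bc0016114ae035784fbc275f01700038415c22461033080d8400)) (.leaf (nat_lit 0x57567026b7e7bc09a000000000000000000000000000000000000000000000000000000000000000000000000000000000bf3360480000000000000000000000000000000000000000000000000002b4a562560000000000000000000000000000016e2e0000000030221810fc08600003021600008f23c773b02100000bb215f41c00014e3fa881800000000000000000000000000000b527d75cc00000000c07c000000000000076cc000000001622cb48b0000000000000000000002e2240000829000002fc4180e800000000000000000be215f39c0000000000000000000000000000032848000180d80000000000000000000000000000000000000000002f880000000000000000000000)))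 (.leaf (nat_lit 0x16887000061ab0000186a9000000000000186a4000000002fad180330000569dc00017a9fbeb1601e40000000000000000000000000000061a6b0d2c0000c3498000000000000000000002c2a2000000005f1bc00000000000000000000000000000000000000000000000000000000000000061a2300d40000be9d600b800018681be9b601a40001867c0000619e00000000000005f4b7005a00000000000030cdb866cbe936018800000000bd348000000018667000000002f8898661000000002c232000000005b3c40000000000005d3b400000000000000002ea12000000005f0aef85525cc00005f41700ba0000c3200000000000000))) (.node (.node (.leaf (nat_lit 0xac358000000000000000000002e1f20000b254618c300ae0000b879800030c560000b64cdb2a70c4a000000005f3a700a98621000000000000000000000590ec000000000000000000000000000000000000000000b05bdf09c0000000000000000000017ccfc013000000000000000005f0fc00018601c2ff00000000185f9c2fc5f08ef844000000005e79800000000c0106178ef971801f000000000000000000000000000000000000000000000017cabc00e80000000185d1c2e6da35400000000c2e300002f3737c9fc00e0000000000000000000000000185afc2d6dc258000185a900006169c000164c1c2d100002f3340000be456006400000000000000000000000000000615fc0001857b))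 (.leaf (nat_lit 0x5db16f88d819d00005972c000000000000557f00000000000000000000015eaeb35a0000000000000bf59606100000000000000000302ec00000000000000001817000000000000017ea3c0b60000000000000bb4edf59400000000c0b00000302b400000000569f800000000bf496055c0000000000000000000016a27000000003027f7e87c09f56a180000000000000000000018138))) (.leaf (nat_lit 0x3018e000000000000000000000000000002d34a000000000000000017defc01f0000000000000000000000000000000000000000000924a000000000000000000000000000000000098b6ce9ec00016041000000002d1b575d3be575775ec1ee0000000000002fb9980a7000000003014c000000000000000000000bee1600e8000000000000000000000000000000000000000000b8e38000000016ec1c04f0000000016234bed76026000000000000060256fb518094000000000000161a4b353df687011f7d9fc01c000000000000000005d65400000000c36061afc00017c8c00000000000000000000000003010c000000000000000000000000000000000186b300000000000000000))))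
noncomputable def TO8d4 : BT := (.node (.node (.node (.leaf (nat_lit 0xc2bc8000000000000c025000030ac8000000000000000018013000000000000180120000000030a8785410000302fad1d6000000005e19c000180100000000030a45851ac286e142400000000c280613f00001785900006002ef0ad6c69bc138000000000000c00300003000a000000000000300078466115de00e30ce58664c32f600a6f1c78024b100617c70bd785e0c2ec617130b7d659dc2c7e161f0aef8574c2b561576e063854ec2a4614f30a5f851ec007de0af09cf8441c00561346e04b68c8c004de08f098384bdb60fe12cf095b84a1c24e6124309198487c2426001308fb8477c239e11bef0938463c2156000af01d8458c22ae114f08458001bc046113b0899844bc208e1037080f8400)) (.leaf (nat_lit 0x5ba3400000000000000000000000000000604a800000000c09280003024200000000000000000000000000000000000000000000000000000000000000000000000000000000000018113000000000000000000000000000000000000002378c0000000000000000000000000000060414000000000000603f800000000bd1e00001e57561e5000000000000000000000000000000000000000000000000000000000002f45570f20000000000000000000000000000000000000000000000180e6c072800000000000000000000000000000c06e6036ef42400004cf2800000000000000000000000000000c065000000000000000000000000000000)))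 (.leaf (nat_lit 0xc35780000000000000000000000000000000000000000000000000000000000000000000000000000000000003d0fb00f20000c34fe1a74000000000000000000000000000000000000000000000000000000000000000000000000000000000000000000000c34700003005f7949000000000000000000000601b0000000000000000000001649a000000000000186820000000000000000000000000000000000000000000000000000000000000000000000000000000000000c030de48c0000000000000000000000000c0300000000000000c32b8000000000000c32980000000000000000000000000000000000000000000000c02e800000000000000000000000017901))) (.node (.node (.leaf (nat_lit 0x618f70c76000000005b266d92c0000b64ae18c400000000ba79dd3bc00018629c314000000000acec000000000000000000000000030c34000000006185c00000000c30a0000000000000c3088000300a40000c3076014400000000000000000000000000000000000000000000000000000000000b86380000000185fa00000000000000000c2f9e0080000000005e9e800000000000000000000000000000000000000000000000000600740000d0ac000000002e95374a500006172b0b9174a4000000000000185b9c2da800000000000000005a0b8000000000000000030b5600000000000030035789100005b23b0033788dc2cce16500001801800000000000000000c2c1616000001857c))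 (.leaf (nat_lit 0x60683033e00000000000000000000000000000000000000555d80000000000000000000000000000000000000302ff817b0000000000000000000000000000000000000000000000000000000000000000000000006058800018161000000000000000000000000000000000000000000000000000000000000000000000000000000000000000000000000000000c09c0000000000000))) (.leaf (nat_lit 0x5c7fad3fa0000c0620000000000000000000000000000000000600faf3e4000000000000000000000000000000000000000000000000000000000000000000000000000000000000000000000000000000000000000000000000000c055d88eacb54000053120000000000000000000000000170a80000000000000000000000000000000000000000000000000000000000000000000000000000000000000000000002c472000000000000000000000b47b80000000000000000000000000000000000000000000000af620000000016d9c00000000000000000000000003011400000000000030d72000000000000000000000b4c900000000000000000000000000000000005e60f01040000))))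
noncomputable def TO8d5 : BT := (.node (.node (.node (.leaf (nat_lit 0xc2bd000000001856f0000000030aca000000000000000017c73c0098000000017c6fc009000030a898542000030082e0a80000be336012000017c63c008000030a47851bc2876142b0a0e0000c280ac16af8b1800c00005f157001784ebc0056136709ac000000006001800018005c002611eef82384670e23d96770ce78665c32fdf39f005168c8c302e17cb0bd985e1c2ece17170b7f8446c2c8616230af18575c2b5e157ae863854fc2a4d926b0a61851fbe156003f088584e3be29e134ae84b8440be1160027098584beb40fe12d3095d84a2c24ee1247091b8488c242df12f08fd8478c23a611c300078464c215df03700058459c22b6109f08477c07c000e113f089b8416c224e103b08118400)) (.leaf (nat_lit 0xc08980000000000000000000000000000000000000000000000000000000000132a30000000000000000000000000301fd7e3bc07e80002cb6200000000000000000000000005972f01ec00000000000000000000000005f8a701e180ef0000000000000a9cf000000000000000000000000000000000000006039400000000c071000000000000000005f84701b60000000000000000000006d058000000000000000000002c4000000000000002c995643f)))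 (.leaf (nat_lit 0xc3588000000018080c3585f5e700fe0000000000000000000000000000000000000000000000000000000beb5600cc00000000000000002fac98079000061a7b0d3800000000000000000000000000000000000000000000000000000000000000000000000000000000000000000c34780002fa91802f00000000000017d43c0368000300d800000000000000001802e00000000000018683b4755a3a40000000000000000000000000000000000000000000000619b8000000000000000030cd60000be91601870cd200000000600b0000000000000601800000000000000000000000000c32a000000000000000005f43700be000000005f42700bc000000006190f0c840000000000002fa01805b))) (.node (.node (.leaf (nat_lit 0x618fb0c79805a0000000000000000000000000000000000bc79800000001862ab8795e3b800000000b6348000000000000c014e18730c360000be20800000001861500000000000018613c309000000000000000000000000000000000000000000000000000000000000000000006181c00016c24ba6380000000185fb0000000000000000000005f2f7004185e6000061790000000000000000000000000000000000000000000000000000000185d4c2e980002f1536dc8000000002e15178a400000000300380000000000002f939801b0000584f2d1f4000000005a3e400000000000000002f921801a00005c23af9198019c2cd6165400017c87c00c00002f9098017c2c1e160400000000))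 (.leaf (nat_lit 0x2bd89619f0000000000000000000000000000000000535ddfae7032200000000000000000000000000000000017eafc0bd800000000000000000000000000000000000000000000000000000000000000000000000302c40000000000000000000000000000000000000000000000000000000bf476052ee4ec000000000000000000000000000000000000000000604e000000000))) (.leaf (nat_lit 0x5b7fadbfa0000befd60310000000000000000000000000000005f7c7007cf2770000000000000000000000000000000000000000002bc70000000000000000000000000000000000000000000000000001803b000000000000000000000000000000000000000000000000000000060298000180a500000000000000000000000000000000000000000000000000000000000301400000000000003013e00000000000000000000000000000000000000c04a800000000000000000000000000000000000000000186c6c36280002d071719c00005f667011600000000000000001808ac35edb62f0d740000000000000000000000000000000000000000000000000000000bec16020c00018082))))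
noncomputable def TO8d6 : BT := (.node (.node (.node (.leaf (nat_lit 0x1857000000000000000000c2b08000000000000b42a0000000000000b075800030093786db235e14faf05c00000000614caf05a0000c294000030a49782cc2878000000000000c281613f709f384f70000613cb09dc0000c26d8000309ae0000c2546129000018495c23fde12b08d80000c021db11b0ce9724dc3305c84ef4237040c30360082f07d801ebc57e0072f075788eb81be1627002b7835c00a6157f0aab8550c2a5600470021800fc28be144f00157829c26fe134f00137825c263de08b0987843db806e12d708778439b8066124b08718004bc0c6120b08698479c001de04f08d38465c2305f03ae8117405be05e10a30849841fbe03df01b08378417c20960002f0058401)) (.leaf (nat_lit 0x2da6d7537000000000000000000000000000000000000000000000000000000000000000000000000568af02320000be8d00000000000000000000030224000000000000000000000000000002f8880000c08400000000000000000000000001524000005774abb620000755d603f2f474000000000000301f000000000603d800000000bb178000301e20000000000000000000000000603b4000180ec000000000000000000000000000000000000000000000000000000000002f8857c4100000000000000000000000002b2e580d6000000000000000000000000000000000000000000000000000)))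 (.leaf (nat_lit 0x301000000000000000000000000000000000000000000000000300f8000000000000000000000000000000000000000000000030d40000000000000000000000000000000000000000000601d80000000000000000000000000000000002a9fe0000000000000000000000000000000001868d00000000000000000ba3800002f8de0000000000000000171420000000000001868400000000000000000c033000000000000000005d0c000000000be370000300c7792900000000300c2000000000000000000000000000002f49800000000000030cb0000000005a458000000000000619400001805fbc880000000000000c02f000000001864600000000000000000c02dde40c00000000))) (.node (.node (.leaf (nat_lit 0xc31fe0168000186390000601640001863400000000000000000c02b5e3cf0c580000c02a800000000000000000000000000000bd0900000000000000000000000000000000000000000018053bc6e6014800000000b655e182f0c14000000000000000000000000000000000000000000000000000000000000000000000000bc62617db0bea000000000000000000000000000000000000000000000000000000000000000000000000000000000000160e5b82880003009f78a900003829b009d78a500000000000000000c2db0000000000000000056513009b85b0000060132f12c00000000000030b4d85a40000600670b39748c000061658000000000000000030b16000000005e20c00000000))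 (.leaf (nat_lit 0x1759fbed000000000181910000000000000000000005bad8000000000000000000000000000000000000000000000000000000000000000000000000000000000000302d4000000000000000000000bb4c80002fad00000000000000000000000000000000000000000005a9d800000000000054a4c000000000000000030270000000000000000000000))) (.leaf (nat_lit 0xac9c8000000000000000000002e87f7ccac06100000000000000000000000000000000000000000000000000000000000000000000000000000000000000000000000000000000000000000000000000000000c1d8000000003015800000000000000000000000006029c000179ccc0535a8c40000000000000000000000000000000000000000000000000000000000000000000000000000c04fde6dc000170d50000000000000000000005a8cc00000000000000000000000000000000030120000000000000000000000000000003011a000000000000000000000c0455e65c0000000000006021f0d7600000000000030d6e0000b8c1000000000000000000000000000000be445d21400017c84))))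
noncomputable def TO8d7 : BT := (.node (.node (.node (.leaf (nat_lit 0xc0258000000018571000000003002800000000615680000000000000000000017143bca0de4aef8d98049b03580003002200000000614cf00200000c294800030a4b800fc2886142c00000000c281e13fb09f400000000613cf09de0000c26e6136ad9560000c254e12970933849600005d12b08da0000bf305a11b0ceb7a49c223de856f4296c40b8fcdf0f700417cb5c00edf0e700398019b61be162af8698015be3ce15830aad712ec2a5df1a6f8cb7c60c28c61452f851800ac27061352f8498009c2645d08b0989843ec004610f3095f843ac002e124f091d7c17c0026120f086b8433be096000f085d842dc2165e03ad83f6c1bbc05e10a7084b700dbc03de01ae0198418c209df00700018402)) (.leaf (nat_lit 0x1753700000000000000000000000000000000000000000000000000000000000000000000000000000000000000000000000001804300000000000000000000000002fcb18119bb298000000017d1e000000002fca18112000000002e8897d1d000000000000000000000604200000000000000000000014e40c07f8000000000000571ddf8e701f80000000000000000180f8b6d700002db940000000000002fc5980f1ab2d000000000000000000000000000000000000000000000000000000000000000000003386800000000000000002ec277611ba215f39ef882000000000000000017e0bc06b60354000000000000000000000000000000000000000000)))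 (.leaf (nat_lit 0x5f21c00000000000000000000000000000558340001807c00000000000000000000061a8400017a990000000000000000000000000300ee0000000000000000000000000000030d2e00000000000000000000000000000000000000000000000000000000000600bc0000000000000000000015c9a00005d4f2d1d600000000601a80000000000000000000018685b93600000000000000000601980000000000000000000000000000000002fa5180630000000000001806100000000000000000000000000000000000000000030cb2000000000000000000000c0156194400017d0fc02f80000000000000000000000001864700000000000000000be816016c00000000))) (.node (.node (.leaf (nat_lit 0xa8a8df3f700b5863a00000000300b38635c02c618c800000000be796015b0c5a0000be77601570c4d8624b2378000000000000000000002c95800000000582dc00017cdfc0138000000017cdbc0298000000000000c028e1832db680000000000000000000000000000000000000000005e7e000017cc7c0118000000017cc3c010e17dc000000000000000000000000000000000000000000000000003003c000000000000000000000be1d80000000185d5000000002f951804fc2e76172ef949804e00000000000000000c2db800000000000000005a1d00000000000005f25700980000000000000000185a500005f0e30b3a000000006165c00000000c2c90000000017980be41600580001857d))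 (.leaf (nat_lit 0xc0c8bb8ec00017eb7c0c6800000000000000000000000000000000000000000000000000000000000000000000000000000000000000002f539816500000000000017d6a0000000000000000000000000000000000a74555a180000000000000000302900000000000000000000000000000000001813800000000000000000))) (.leaf (nat_lit 0x6030b01820000000000000000000000000000000000000000000000000000000000000000000000000000000000000000000000000000000000000000000000000000000000000000000000000000000000000000000000000000000000000000000000000000000000000000000000000000000000000000000000000000000000000000000bedb6027c0000000000000000000018098000000000000000000000596a800000000b665602440001809000000000000017abf0000000000001808d000000000000186c2becb602280000000000005e5eb0d7800000000000030d700000000000000000000000000000000000000000000000000000000))))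
noncomputable def TO8d : List BT := [TO8d0, TO8d1, TO8d2, TO8d3, TO8d4, TO8d5, TO8d6, TO8d7]
noncomputable def TO8 (k u : ℕ) : ℕ := force (Nat.shiftRight u (nat_lit 7)) fun j => Nat.land (Nat.shiftRight ((nth (BT.leaf (nat_lit 0)) TO8d k).get j) (Nat.mul (Nat.land u (nat_lit 127)) (nat_lit 17))) (nat_lit 131071)
noncomputable def IO8d : List ℕ := [nat_lit 0x3400000000000000000000000000000100000000000000000000028002000001000000000000000000b008000000000000000000000088000002e00000000014000000030000000000000000000000000000000000100000000000000380064000000000000000000000000000000000000000000000000000000000000000000000000000000000000000000000080000000000000000000000000000000000000003a0000000000000c0a0000400000000000000008000000010000000000000000000000000000000000000000000200040000000000000000000000004000000000400000000000000020000000000000001080010800001c200000000000080200000000000000000002000001000000000000000000000802000000000000000008401000000000000000020000800000000002a0018200002000020000000802000000000010000718021000000000100000000200800000001000010840008000000000000000000000000000001800000210040100020080010000100421000800802000036004010842108421084210000108421084210840508021084210840008020004000842108420080210802008429,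
  nat_lit 0x30600000000000000000000058c000000000000000000000000000000e0000000000000000700000000000000000004000000000000000000000000000000000000000780000000000000000000000000000000000000000000000000000000000000000000000000800000000000000000000000000000000001000000000000000000000000000000000000000000000000000000000000000000000000000000000c0000000000000000000020000050000000000000000002108000000e000000000000002000000000000040100000000000000000000000210808000000000000000100000080000000100000000000040000000000000000010800a80000800008000084000000000401000200000000000080000002008000094000000000000000200000000001000200000000c0000001280000000000000000000000000400000000000100001000000840000000000000000002042000000040000000000010040000471080010001208120000000000100400000200842000420084210042031821004200842108424084210840100421084210848400820080210840108421050010242100406084210042a,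
  nat_lit 0x800000e0000000000000000000401ac000000020000000001800000000780000000000000000000200000000000000000080000000000000000040000000000000000020000000002c00200000340030000000000000000000000050000020005000000000000000000020000018000000400000001400100000000000000000000000000000000000000000800000000000000000200000000902800000e04800000000000000006000004000000000001c0000005000000002000861000000000018000000000000100000000000000000400000210002100000000000000100000004000800000100000000000000000000000840000001000210000000000000000000000001000000022000020000010886108001000000140000000018a10000030000000000000100000000000000000041000800000000000000010800000860000000000048000000000000000000084c000000004000000101821000430800000000004000040000801000200000000000000000042010c00004000002000043080010000010c000000000020080000042100421004c008020084210002000421000e1084210102028001084000800000420000010842c,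
  nat_lit 0xc6001c00034000000040000100000000000000000020000020c000000000800100000000600002000000000002402000000000000000000000000010000000000000000008000000000800000000000000018c02280000000002400000000000010000000400004000000190000000002800000000000000060000000000000000000a000002000000000000000000000000000004000e3180400004000000000001000000000000000000000000100000004000000008020000000c00084040000000000000000000100000000000000000004004010000100040000001000000000004200800000000010000000000000000000040010001100010040000800000211000000001000410000001800018000008000c8000800080001000000000284000002039420008010000000800000000000000c000000200000008010800108c80000000044000000000000000200001080000800200000000010800100400080001000000000004010000018020000200000000801300201802020420100200846400c8100800190640000270020080000042150421104050882008421000210042100001084212802100041084000800200400008010842b,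
  nat_lit 0x28000000000000000000000000000000000000000000000000000000000000000000000000000000000000000000000000000000000000000000000000000000000000000000010000000000000000000000d0000000000000000000200000000000000000000000000000000000000000000000000010000000000000000000000000000000000000000000000000000002c800000000002000000000000000000000000000000000001000000000000000000000000000000002000000000000000000000000000800000000000000000000000000000840000000000000000000000000000800000000000000000200001000000000000000000000000000000000000000008000080000000000000000000000000420020602840000c01080090000000020004000800008000080000000000000000000000100000080003800000000000000000000003004200000108000028000002000000000000840000000084010800000020000000000000021000000000000021084000840000000000000000000001000210800000421084200842108401084210002100400000211842108421080210840108001084200042108426,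
  nat_lit 0x4400000000000080000000000020000000000000000000000000000000000000000100e000000000000000000000000000000000000000000000000000000000000000000000000000000000000000000d0000000002000e00000000c000000000800000090000000000000000000000800000005800000040000c400080100000000000806000000000000000000000000000000000000000000000000000000000000000000000000000000000000000000000000000108065008000000008c200000000000000001000008000088000000000000000001000000040004200000000000000000000000000080400000200000000000000131000000000000000400000201002000000000000000008000008000080000420000400042000000000001800101400100000042010001000010800000000000000000000403280010000000801004000000000000000010806000005000000004000000000000004000c400840200040084000800100020000020000200021000e01000200021084200804000801004200000000441008210880208421084210842108541080211002110461100210042108421088210840108801084220042108428,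
  nat_lit 0x2100000000002400000000000000000000000000000000300c000000000000200003400000000000000000000000000000000000420000000000000000000001400180000000000000000c00000000002011000000000000000004800000000000000000000000000000008300000001800000000000000005800000042000000000000000000000000000000000000000600000000000000500000000000000000000000000000900000000000000000000000000000000000000000002000020380000000020c030000000000000000000000000000000002000000000000000000000000a00000000001000001806000000000010000000000008001000000000000000000000020040000040000000000010000000000080010000100000000200000000000000000000000000000003842000000000000000000000004200000000000000000000000000280000000000000080000000100000000210002a00400000200000000001000000800040000000007840000400080200800008421004200802008401094200102008004080000000010400004210800008400084000a8213842138420004210002109062304211882108001,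
  nat_lit 0x100200000000000000000000000000004000003000000000001c0000000000000000000000000000000600000000000000000000000000000000000000402000300040000a5000000000000000000000080000000381200004000000000000000000000010000010418c800000200000000000000000000000000000000000000000000000000000000000000000000000000000000000000000000000000000000010000000000000001400300000000000000000011000000820000200000000000000000000000c000000000000000000040000000000000000000020000000000000000000000000300c8000000000010000000000000000004000000000000000000020000000040200000000010000010000008010000100400100201002118000000a0018020000200000004000000000000000020000200400000000000000000000001000100040084400000008000028000080000001008200040008000100010000100000004000000000040000000040008020084000842000420084000842100020100200800000802008000044010420088420844008440080210042100422004211002108000004200000108801]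
noncomputable def IO8 (k u : ℕ) : ℕ := Nat.land (Nat.shiftRight (nth (nat_lit 0) IO8d k) (Nat.mul u (nat_lit 5))) (nat_lit 31)
noncomputable def DO8d : ℕ := nat_lit 0xcd09c230cd05ccfdcceaccd8ccc7ccc2ccbbccb3cca0cc9dcc8fcc8ecc8dcc8ccc6fcc6ecc69cc61cc59cc23cc22cbfdcbddcbdccbc9cbb2cb93cb8acb88cb83cb82cb71cb70cb6acb63cb62cb61cb57cb2ecb1ccb15cb14cb0dcb02cad3cad2cad0cacfcacbcac9cac1cabbcabacab9ca90ca5dca5cca46ca41ca28ca19c9fac9f3c9f2c9e1c9c7c9c6c9c5c9c4c9c3c9c2c9c0c9b8c9aac9a3c9a2c9a0c998c993c991c968c22fc22ec22dc22cc22bc22ac229c955c94bc943c92dc918c90dc908c903c902c225c224c221c220c8e3c21ec21dc21cc21bc21ac218c8d9c8cfc8cec8bcc8b9c8aac89dc89cc899c897c896c891c888c882c87ac862c860c85ac851c847c846c842c841c835c82dc829a81ba7fea7f5a7f4a7eda7eca7e7a7e6a7d9a7d8a7c8a7c7a7c6a7c2a7b7a7b4a7b3a7a9a799a78fa78ea78ba785a784a77ca779a76fa76ba767a758a750a743a742a740a211a210a735a72da72ca209a208a714a709a705a6fca6e5a6dda6dca6c2a6c1a6bca6b8a6b7a6b6a6aea6a9a200a655a1fea1fda1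f9a1f8a648a643a642a641a63ba63aa628a625a624a623a61ba617a616a60ea608a5fca1f5a1f4a1f3a1f2a1f1a1f0a1eda1eca1eba1eaa1e9a1e8a5e5a5d8a5d5a5d3a5c8a1e5a1e4a1e3a1e2a1e1a1e0a591a580a1dda1dca1d9a1d8a567a565a55da548a543a541a540a53fa53ba53aa537a534a532a52ca521a51ba1d5a1d4a1d3a1d2a1d1a1d0a1cda1cca1cba1caa1c9a1c8a504a500a4ffa4fea4fca4f9a4f2a4f1a4c8a4c6a4c3a4c2a4bba4b8a4aca4aaa4a3a4a2a493a48ea487a486a480a47ba47aa1c3a1c2a1c0a46fa46ea460a45da45ca458a457a456a455a454a450a43fa438a1bda1bca1b9a432a431a42ea1b7a1b6a1b5a1b4a1b3a1b2a1b1a41da41ca415a414a413a412a407a404a403a3fda3fca1ada1aca1a9a1a5a1a4a1a1a1a0a3e7a3e6a3e5a3e2a3e1a3d1a19da19ca19ba19aa199a198a3cda3cca3cba3caa3bea197a196a195a194a191a190a3b7a3b1a3aba399a18fa18ea18ba18aa188a381a186a185a184a181a180a17fa17ea17da17ca17ba17aa178a36da36ca365a364a363a359a356a352a174a173a172a171a170a34ba34aa348a340a337a336a330a16da16ca16ba16aa168a32ba320a31fa31ea313a312a30fa30ea30da30ca30ba308a165a164a163a161a305a304a301a15fa15ea159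a158a157a156a151a150a2ffa2fea2fda2fca2f8a2f7a2f5a2f4a2f1a2eda2eba2ea82e082df82de82dd82dc82db82d782d682d482d382cf82ce82c982c682c082ba82b982b782b682b182b082af82ae82a982a882a582a382a282a0814c814b814a8149814581438141813f813e81398138829f829e829782958291828e828d82898137813681358134813381328131812b812a812881238120811f811e81188110810f810e810d810c810981088105810481038102810080fb80fa80f980f880f680f580f480f380f280f080ef80ed80ec80eb80ea80e9827f827e8279827882778276827180e580e480e380e280e180dd80dc80d980d8826f8269826882678266826180d780d680d580d480d180cf80cd80cc80cb80ca80c880c580c480c180bd80bc80b780b680b180b0825e80ad80ac80a98255825180a680a580a480a280a1809d809c809b809a809580948093824f824e82498248808e80888245824480868085808480818080807e807b807a8078607060696068606560646061605d605c6058605460536052603860356034602d602c60246022601d601bc21fa1c5a169a162a160814d8144812581228107810680f780ee80e780e680ce80c380b980af80ae80a780a3809880928090808f8087807f807d807c6057605660556051604f604e604d604c604a60486046604060396031602e6029602860276026602560236021601f601e601c601a6018401540144013401240114010400d400c400b400a40094008200720060000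
noncomputable def DO8 (u : ℕ) : ℕ := Nat.land (Nat.shiftRight DO8d (Nat.mul u (nat_lit 16))) (nat_lit 65535)
noncomputable def EO8td : ℕ := nat_lit 0x14a7d1421134e0988444df7f213a725e45e61870000459561c84f63d31422c8edec72f1a80000300dcb31c0000193190775eb90d57b6cbdbd251fca0bd8e7efabf47dfae0fd7096074d4126bb6f8a07c4fbe27945404684266f95118bae2a56554fbbd261eb5ef4be5e1a52566926f44ba26f7000009b1c4830513c8000000003663241617204d0145da02ecf80000c47a244752a4290bc908448460a16d356400013dda000028938c0b46dd02e3c8000018860c470622030bc18840c460617302fcdb866dbd30e2c68840001115c00004288c685e353816200c0dcc37625381219890fc508039dd1c1b00000a3ba4d6700000f878d11a594c000011611585cb06954289a4f4c8880000330480000d0887dc634099a04a594ef5b5369e9c1aa0914583f00002f7489ad4b19100002e3f969fa9e0f522900001f866fc797e3b3e5f5f2f8f97b0000405da434b21a49060c415219d701752eeea94cd50c650343000bd6d0c03860894af20b11858665046249c0000080603ce12cb5101048856451726c41203c90569c5a000035830ab3c617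1000000000c17c30447cc4150fca2d4443a2a2310101f30e5dd528ebac0516065191528c41461ca07e00003014aa5a0a1bf1d2362953e598a08c5964246f920d08a3e4c3d261e920f4907a4c38241d1a174000000000000160e4b8685d752e17174ec58822428000017074a0485040241214100a866d4ac6c5598701f2fc61bb30dd190b6521000007253385f4000061bf00001b088b874603a2aa9983b8b2e04d6b2e97970b4c2fc5c702e5c930c1eb36f5ad00001c4c8e0ce640ca07a3e455f322f96256613e5690a126d117cc0980c190c8c8497cc4aa58a02e30170942b00000000054792ab1930f4a07c503d3a249a400d8b60000326400000c8446cff848280000ca70502d329d8d11188d85c3700001430cb842484126143e0fdf8483c43000000000c0de00007c541753cc020dc80321300001f0990035801aad4dca06100ef8037120f8907c4c3d800d4c1700000fc1c241f8a10cb87660281821150e09270454828149935d50f25ce62a0cab0c95864602a2a11ac08d706b40ce281b95078a878543a280f940e4b99a5c302a1e150d090724441280a173f9527038442614930e0983e0000300b00000c138c0863629180e0b8466488281c993bc984a10452c0f150340000a51132069907d48aa5c392a1b970c0c0245c342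e3298038e07470392c1116234c874643936271c018c82264061c148e108707c581f00000000068564441202148088c0c44821241b2b044b864682c00001b0ad112e685d36161c0ace8546c03000000000d97cfc2b2e1b1530cd1165c623204940ccc05eb45a506c40062002f00147e413f20000006007821ac10d249210c69301e172d550cc60b02e021815cb0040000206f950e0985e343e241b170cc5078380f1e16140aca02050362a6198320c04460ab2c1c191f000004c10261698098c04c5465304013058b04a54252a383f0d88876543b5a3b2b2fa38565436261519028d146500f2e069606988d45027281113054a862503a303c950b0b062600b300a98034c02c58aa2a11b5075a03a58142e47150d4c8746439340819018c05a000030311c040e0c878113a3319040a8265817301b99061f90eac9138153f210c824cc67300d18068d0a3047c3011960c8a840706b30051a08cb822541234171806cc0e664132a08981c0a82a5c657e02c1156081650208006c0018a05eac14560a16074a01a60172a0d9904cc826502e2c0c180b4c818641b320d19064b02ca82a00001a020a04c64063a0e1509cd89e382736079c03ca84300222e2995052080900162e05c2054c83c580c2c109908cc032600b340e19040d8226803800641038d00a6407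
noncomputable def EO8t (u : ℕ) : ℕ := Nat.land (Nat.shiftRight EO8td (Nat.mul u (nat_lit 17))) (nat_lit 131071)
noncomputable def JO8td : ℕ := nat_lit 0x630081008033014804020000df006038140a030000000000180c0805010000600018040403001c0f002018000e07018100a040300806010100c0069000000001008000000008000602018000c060201404033217c0000000040202000000c07020140403000100402021c800f0000040805000040007020140403008000000000000201000000e030000406000080006980301cd005018040002000b80a04000140c00018000c07018180a02000000c070136008040001806060180002014c8080204020000001028040e07020100a030009c02060000006010201c0a00008040a030000806010201404000301c0e010080408050101c02040280806000080800000000408050100c0c01000000805030040c033b00406000081804000101400040000008050180c00040281404030101000010001c0a004800402030181804010200c04030381c0c07018000002018040c07028140400030000803028000204010080e00000180405030080201000000a00010100a07000000a04028000a050001c0c070200000000200c06070380c0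4050181c0e02038100a01008180e01000180e020300400070300c00040281c02030100c0200028000a020001c00050180c00000281400010301c0204010080601030040c070100c0c070280404010201404030000000060300c000603818020600014ea01030140200000000a010001c0802028180a07000180e000380400030301c00050301c0401000000400028180600020080207030000206038180800038100006038100a03018000c03008000207008040206000080600020040202018040e02010040204028080600030080a00030040c07018040c00000100a65010000a07000100a02018140f000301c0000000000800018000404030080a06030100007038100a05020000e04028080004030080607030080c070000408010000804050181008060201004030280c06040080002010280c0401018100001028080a02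
noncomputable def JO8t (u : ℕ) : ℕ := Nat.land (Nat.shiftRight JO8td (Nat.mul u (nat_lit 9))) (nat_lit 511)
noncomputable def WO8td : ℕ := nat_lit 0x27d10ac6b16c4909c98bec0002beaf63daeeba8e6b8002b6ad400ace59ac6b0abeae942ac7d51f691a4a9d0476ea4a8ea2a86a0a7e9ea769ca6c986bcbea5e964dcbaa4c00a4690a3c000028ca2e8aa2688a1c00af2a15202fb14460b5590027c0027a9e5d09dc00a1684a0e82a06800b8bf9b66c9ae210015c002661e565809579869c0cd6baceb20d8009665800256afa5400252946ad93e4393400824009264891e4629e4490ec322a400023e8f5b1000fe8e6388dc008d6348ce328c6300022e8b62c8ac548a62889e268962499a228862087e560ce1c86c000c0e185e168561484e128445a0020c8360c0000092eb581e408143a11a02805d57fdfe7f5fc7edfa7e4007dd687d5237cdf27c5f07be93aa99c672a9aa0e60e85d00000001243ca280b93b96428001da090407fc40755d42add2745d073dce4200072e32001c8002482a4a970cee8b23e720a5744f79e1cf66dad001b66d5b43d1b26c5b0a65ae425ac6adaa6a5a869db0695a468c00000b758d9c6759c6e59a6640065c006559464c006442d63eac6358c0010269dfbb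003f61584000006ac002a1d172a318c0005e4f33ce950c0ef1b9725c5700696e0016c0fd845a5f69616659564a6da658560145fd7f668148235655855c553bc3a9b5e2335aa9b14e0e65452cfe525f0a1d3e07c0050c00504861493e90c880e574095384dd36001344cd32154a8ac430918f24ad2a4a5286548d4952448d224852067ec50f91c0000046441109166c853371120c9100010e4350c42d0a6e108000004150440d0222d15650feae4fc3ecfa3e4f83dcf6001b33ccf2240f03bcee3b4ec3acea3a400b10d7a203e310330f0e039c2ba88dc36cda364d835c900017d0b6b0abcd020016545511c0ca320c81da980ad03408c228c0f9b88c2f46249c159e0b81e42c3b80b1580d160b0568ae074ac2ae7e2a4a8914a62940028c101901127c10275410dc182669a43496254941ac6b260f14fd110808c22e41880122654021496044f7054801fc5502c8d1ec7a3f5fe7f9da4cc171ce4791c2e1bdce1b46c1ac6a1a42a0000809922071001842717c5e7982216e101645815c564c622084230640b13d23135080300e01407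
noncomputable def WO8t (u : ℕ) : ℕ := Nat.land (Nat.shiftRight WO8td (Nat.mul u (nat_lit 10))) (nat_lit 1023)
@[irreducible] noncomputable def EO8 (a : ℕ) : ℕ := force (Nat.sub a (nat_lit 72)) EO8t
@[irreducible] noncomputable def JO8 (a : ℕ) : ℕ := force (Nat.sub a (nat_lit 72)) JO8t
@[irreducible] noncomputable def WO8 (a : ℕ) : ℕ := force (Nat.sub a (nat_lit 72)) WO8t
noncomputable def RLO8 : List (List Rule) := [[.rel (nat_lit 0) (nat_lit 0) [nat_lit 1], .defn, .rel (nat_lit 20) (nat_lit 0) [nat_lit 0, nat_lit 0, nat_lit 0, nat_lit 0, nat_lit 0, nat_lit 0], .rel (nat_lit 86) (nat_lit 4) [nat_lit 4, nat_lit 1, nat_lit 3, nat_lit 0, nat_lit 5, nat_lit 1, nat_lit 2], .rel (nat_lit 87) (nat_lit 1) [nat_lit 5, nat_lit 1, nat_lit 3, nat_lit 0, nat_lit 4, nat_lit 1, nat_lit 2], .rel (nat_lit 88) (nat_lit 4) [nat_lit 6, nat_lit 1, nat_lit 7, nat_lit 0, nat_lit 7, nat_lit 1, nat_lit 6], .rel (nat_lit 90) (nat_lit 5) [nat_lit 4, nat_lit 6, nat_lit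 5, nat_lit 1, nat_lit 2, nat_lit 6, nat_lit 3], .rel (nat_lit 93) (nat_lit 6) [nat_lit 7, nat_lit 5, nat_lit 6, nat_lit 1, nat_lit 2, nat_lit 7, nat_lit 3], .rel (nat_lit 94) (nat_lit 1) [nat_lit 4, nat_lit 6, nat_lit 5, nat_lit 1, nat_lit 6, nat_lit 3, nat_lit 7], .sub (nat_lit 0) [] [], .rel (nat_lit 35) (nat_lit 4) [nat_lit 3, nat_lit 0, nat_lit 2, nat_lit 1, nat_lit 1, nat_lit 3, nat_lit 1, nat_lit 1, nat_lit 1, nat_lit 3, nat_lit 0, nat_lit 2, nat_lit 0], .rel (nat_lit 41) (nat_lit 7) [nat_lit 3, nat_lit 0, nat_lit 0, nat_lit 3, nat_lit 1, nat_lit 1, nat_lit 2, nat_lit 1, nat_lit 3, nat_lit 1, nat_lit 2, nat_lit 0, nat_lit 2], .rel (nat_lit 48) (nat_lit 2) [nat_lit 2, nat_lit 1, nat_lit 1, nat_lit 2, nat_lit 0, nat_lit 3, nat_lit 0, nat_lit 0, nat_lit 0, nat_lit 2, nat_lit 1, nat_lit 3, nat_lit 0, nat_lit 0], .rel (nat_lit 50) (nat_lit 6) [nat_lit 2, nat_lit 0, nat_lit 3, nat_lit 1, nat_lit 3, nat_lit 0, nat_lit 0, nat_lit 2, nat_lit 0,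 nat_lit 0, nat_lit 0, nat_lit 2, nat_lit 1, nat_lit 2], .rel (nat_lit 52) (nat_lit 1) [nat_lit 0, nat_lit 2, nat_lit 1, nat_lit 3, nat_lit 1, nat_lit 2, nat_lit 0, nat_lit 0, nat_lit 3, nat_lit 0, nat_lit 3, nat_lit 1, nat_lit 2, nat_lit 0], .rel (nat_lit 55) (nat_lit 1) [nat_lit 2, nat_lit 0, nat_lit 0, nat_lit 3, nat_lit 1, nat_lit 2, nat_lit 0, nat_lit 3, nat_lit 1, nat_lit 2, nat_lit 1, nat_lit 1, nat_lit 1, nat_lit 2], .rel (nat_lit 56) (nat_lit 11) [nat_lit 2, nat_lit 1, nat_lit 3, nat_lit 0, nat_lit 0, nat_lit 0, nat_lit 3, nat_lit 1, nat_lit 3, nat_lit 1, nat_lit 3, nat_lit 1, nat_lit 1, nat_lit 3], .rel (nat_lit 60) (nat_lit 7) [nat_lit 3, nat_lit 1, nat_lit 3, nat_lit 1, nat_lit 3, nat_lit 0, nat_lit 0, nat_lit 3, nat_lit 0, nat_lit 0, nat_lit 0, nat_lit 2, nat_lit 0, nat_lit 0, nat_lit 3], .rel (nat_lit 66) (nat_lit 6) [nat_lit 0, nat_lit 3, nat_lit 1, nat_lit 3, nat_lit 0, nat_lit 0, nat_lit 3, nat_lit 0, nat_lit 2, nat_lit 0, nat_lit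 0, nat_lit 2, nat_lit 1, nat_lit 1, nat_lit 2], .rel (nat_lit 86) (nat_lit 0) [nat_lit 5, nat_lit 1, nat_lit 2, nat_lit 0, nat_lit 4, nat_lit 1, nat_lit 3], .rel (nat_lit 89) (nat_lit 1) [nat_lit 7, nat_lit 1, nat_lit 7, nat_lit 0, nat_lit 6, nat_lit 1, nat_lit 6], .rel (nat_lit 91) (nat_lit 6) [nat_lit 4, nat_lit 7, nat_lit 5, nat_lit 1, nat_lit 2, nat_lit 7, nat_lit 3], .rel (nat_lit 116) (nat_lit 7) [nat_lit 3, nat_lit 6, nat_lit 2, nat_lit 1, nat_lit 2, nat_lit 1, nat_lit 6, nat_lit 0, nat_lit 3], .rel (nat_lit 121) (nat_lit 1) [nat_lit 7, nat_lit 5, nat_lit 1, nat_lit 7, nat_lit 0, nat_lit 4, nat_lit 6, nat_lit 1, nat_lit 3], .rel (nat_lit 123) (nat_lit 9) [nat_lit 4, nat_lit 1, nat_lit 6, nat_lit 3, nat_lit 0, nat_lit 7, nat_lit 1, nat_lit 2, nat_lit 7], .rel (nat_lit 145) (nat_lit 7) [nat_lit 5, nat_lit 6, nat_lit 4, nat_lit 7, nat_lit 4, nat_lit 1, nat_lit 6, nat_lit 3, nat_lit 7], .rel (nat_lit 194) (nat_lit 10) [nat_lit 2, nat_lit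 1, nat_lit 4, nat_lit 1, nat_lit 3, nat_lit 1, nat_lit 2, nat_lit 0, nat_lit 2, nat_lit 0, nat_lit 5], .rel (nat_lit 195) (nat_lit 11) [nat_lit 3, nat_lit 1, nat_lit 4, nat_lit 1, nat_lit 3, nat_lit 1, nat_lit 3, nat_lit 0, nat_lit 2, nat_lit 0, nat_lit 5], .rel (nat_lit 197) (nat_lit 9) [nat_lit 2, nat_lit 0, nat_lit 3, nat_lit 1, nat_lit 3, nat_lit 1, nat_lit 5, nat_lit 1, nat_lit 5, nat_lit 0, nat_lit 4], .rel (nat_lit 202) (nat_lit 3) [nat_lit 0, nat_lit 2, nat_lit 1, nat_lit 1, nat_lit 2, nat_lit 5, nat_lit 0, nat_lit 2, nat_lit 1, nat_lit 4, nat_lit 3], .rel (nat_lit 203) (nat_lit 5) [nat_lit 3, nat_lit 1, nat_lit 1, nat_lit 2, nat_lit 5, nat_lit 0, nat_lit 3, nat_lit 1, nat_lit 4, nat_lit 3, nat_lit 0], .rel (nat_lit 204) (nat_lit 4) [nat_lit 2, nat_lit 1, nat_lit 3, nat_lit 4, nat_lit 0, nat_lit 0, nat_lit 2, nat_lit 1, nat_lit 1, nat_lit 5, nat_lit 2], .rel (nat_lit 205) (nat_lit 5) [nat_lit 3, nat_lit 1, nat_lit 3, nat_lit 4, nat_lit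 0, nat_lit 0, nat_lit 3, nat_lit 1, nat_lit 1, nat_lit 5, nat_lit 2]],
  [.rel (nat_lit 0) (nat_lit 1) [nat_lit 0], .defn, .rel (nat_lit 86) (nat_lit 6) [nat_lit 3, nat_lit 0, nat_lit 5, nat_lit 1, nat_lit 2, nat_lit 0, nat_lit 4], .rel (nat_lit 21) (nat_lit 0) [nat_lit 1, nat_lit 1, nat_lit 1, nat_lit 1, nat_lit 1, nat_lit 1], .rel (nat_lit 88) (nat_lit 6) [nat_lit 7, nat_lit 0, nat_lit 7, nat_lit 1, nat_lit 6, nat_lit 0, nat_lit 6], .rel (nat_lit 90) (nat_lit 1) [nat_lit 2, nat_lit 6, nat_lit 3, nat_lit 0, nat_lit 4, nat_lit 6, nat_lit 5], .rel (nat_lit 94) (nat_lit 5) [nat_lit 6, nat_lit 3, nat_lit 7, nat_lit 0, nat_lit 4, nat_lit 6, nat_lit 5], .rel (nat_lit 31) (nat_lit 1) [nat_lit 2, nat_lit 1, nat_lit 2, nat_lit 1, nat_lit 2, nat_lit 1, nat_lit 2], .rel (nat_lit 91) (nat_lit 2) [nat_lit 2, nat_lit 7, nat_lit 3, nat_lit 0, nat_lit 4, nat_lit 7, nat_lit 5], .rel (nat_lit 92) (nat_lit 1) [nat_lit 2, nat_lit 6, nat_lit 3, nat_lit 0, nat_lit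 7, nat_lit 4, nat_lit 6], .sub (nat_lit 2) [] [], .rel (nat_lit 33) (nat_lit 1) [nat_lit 1, nat_lit 2, nat_lit 1, nat_lit 1, nat_lit 2, nat_lit 1, nat_lit 1, nat_lit 2, nat_lit 1, nat_lit 1, nat_lit 2], .rel (nat_lit 33) (nat_lit 2) [nat_lit 2, nat_lit 1, nat_lit 1, nat_lit 2, nat_lit 1, nat_lit 1, nat_lit 2, nat_lit 1, nat_lit 1, nat_lit 2, nat_lit 1], .rel (nat_lit 45) (nat_lit 13) [nat_lit 1, nat_lit 3, nat_lit 1, nat_lit 2, nat_lit 1, nat_lit 3, nat_lit 1, nat_lit 3, nat_lit 0, nat_lit 0, nat_lit 3, nat_lit 1, nat_lit 3, nat_lit 1], .rel (nat_lit 52) (nat_lit 4) [nat_lit 3, nat_lit 1, nat_lit 2, nat_lit 0, nat_lit 0, nat_lit 3, nat_lit 0, nat_lit 3, nat_lit 1, nat_lit 2, nat_lit 0, nat_lit 0, nat_lit 0, nat_lit 2], .rel (nat_lit 54) (nat_lit 6) [nat_lit 3, nat_lit 0, nat_lit 2, nat_lit 1, nat_lit 1, nat_lit 3, nat_lit 1, nat_lit 3, nat_lit 0, nat_lit 0, nat_lit 0, nat_lit 3, nat_lit 0, nat_lit 2], .rel (nat_lit 61) (nat_lit 15) [nat_lit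 2, nat_lit 1, nat_lit 1, nat_lit 2, nat_lit 0, nat_lit 2, nat_lit 0, nat_lit 2, nat_lit 1, nat_lit 2, nat_lit 1, nat_lit 1, nat_lit 3, nat_lit 1, nat_lit 1], .rel (nat_lit 89) (nat_lit 3) [nat_lit 7, nat_lit 0, nat_lit 6, nat_lit 1, nat_lit 6, nat_lit 0, nat_lit 7], .rel (nat_lit 96) (nat_lit 5) [nat_lit 6, nat_lit 3, nat_lit 7, nat_lit 0, nat_lit 7, nat_lit 4, nat_lit 6], .rel (nat_lit 108) (nat_lit 3) [nat_lit 2, nat_lit 0, nat_lit 4, nat_lit 1, nat_lit 4, nat_lit 3, nat_lit 5, nat_lit 0, nat_lit 5], .rel (nat_lit 122) (nat_lit 5) [nat_lit 2, nat_lit 7, nat_lit 0, nat_lit 5, nat_lit 1, nat_lit 6, nat_lit 3, nat_lit 0, nat_lit 6], .rel (nat_lit 125) (nat_lit 2) [nat_lit 7, nat_lit 3, nat_lit 7, nat_lit 2, nat_lit 6, nat_lit 0, nat_lit 4, nat_lit 7, nat_lit 5]],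
  [.rel (nat_lit 4) (nat_lit 0) [nat_lit 3], .defn, .rel (nat_lit 71) (nat_lit 3) [nat_lit 4, nat_lit 3, nat_lit 5], .rel (nat_lit 70) (nat_lit 2) [nat_lit 5, nat_lit 3, nat_lit 4], .rel (nat_lit 31) (nat_lit 0) [nat_lit 1, nat_lit 2, nat_lit 1, nat_lit 2, nat_lit 1, nat_lit 2, nat_lit 1], .rel (nat_lit 76) (nat_lit 3) [nat_lit 7, nat_lit 2, nat_lit 6, nat_lit 3, nat_lit 6], .rel (nat_lit 76) (nat_lit 5) [nat_lit 6, nat_lit 3, nat_lit 6, nat_lit 2, nat_lit 7], .rel (nat_lit 22) (nat_lit 0) [nat_lit 2, nat_lit 2], .rel (nat_lit 86) (nat_lit 3) [nat_lit 0, nat_lit 4, nat_lit 1, nat_lit 3, nat_lit 0, nat_lit 5, nat_lit 1], .rel (nat_lit 90) (nat_lit 2) [nat_lit 6, nat_lit 3, nat_lit 0, nat_lit 4, nat_lit 6, nat_lit 5, nat_lit 1], .rel (nat_lit 77) (nat_lit 4) [nat_lit 7, nat_lit 3, nat_lit 6, nat_lit 3, nat_lit 7], .rel (nat_lit 91) (nat_lit 3) [nat_lit 7, nat_lit 3, nat_lit 0, nat_lit 4, nat_lit 7, nat_lit 5, nat_lit 1], .sub (nat_lit 4) [] [],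 .rel (nat_lit 36) (nat_lit 6) [nat_lit 1, nat_lit 3, nat_lit 1, nat_lit 1, nat_lit 2, nat_lit 0, nat_lit 2, nat_lit 0, nat_lit 0, nat_lit 0, nat_lit 3, nat_lit 0, nat_lit 0], .rel (nat_lit 66) (nat_lit 2) [nat_lit 1, nat_lit 1, nat_lit 2, nat_lit 0, nat_lit 0, nat_lit 3, nat_lit 1, nat_lit 3, nat_lit 0, nat_lit 0, nat_lit 3, nat_lit 0, nat_lit 2, nat_lit 0, nat_lit 0], .rel (nat_lit 117) (nat_lit 1) [nat_lit 1, nat_lit 2, nat_lit 1, nat_lit 7, nat_lit 0, nat_lit 3, nat_lit 0, nat_lit 3, nat_lit 7], .rel (nat_lit 118) (nat_lit 2) [nat_lit 1, nat_lit 6, nat_lit 0, nat_lit 3, nat_lit 0, nat_lit 7, nat_lit 3, nat_lit 6, nat_lit 1], .rel (nat_lit 120) (nat_lit 9) [nat_lit 0, nat_lit 7, nat_lit 5, nat_lit 1, nat_lit 6, nat_lit 0, nat_lit 4, nat_lit 6, nat_lit 1]],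
  [.rel (nat_lit 4) (nat_lit 1) [nat_lit 2], .defn, .rel (nat_lit 23) (nat_lit 0) [nat_lit 3, nat_lit 3], .rel (nat_lit 70) (nat_lit 0) [nat_lit 4, nat_lit 2, nat_lit 5], .rel (nat_lit 71) (nat_lit 1) [nat_lit 5, nat_lit 2, nat_lit 4], .rel (nat_lit 76) (nat_lit 1) [nat_lit 6, nat_lit 2, nat_lit 7, nat_lit 2, nat_lit 6], .rel (nat_lit 86) (nat_lit 7) [nat_lit 0, nat_lit 5, nat_lit 1, nat_lit 2, nat_lit 0, nat_lit 4, nat_lit 1], .rel (nat_lit 77) (nat_lit 0) [nat_lit 6, nat_lit 3, nat_lit 7, nat_lit 2, nat_lit 7], .rel (nat_lit 90) (nat_lit 4) [nat_lit 0, nat_lit 4, nat_lit 6, nat_lit 5, nat_lit 1, nat_lit 2, nat_lit 6], .rel (nat_lit 30) (nat_lit 1) [nat_lit 0, nat_lit 3, nat_lit 0, nat_lit 3, nat_lit 0, nat_lit 3, nat_lit 0], .rel (nat_lit 77) (nat_lit 2) [nat_lit 7, nat_lit 2, nat_lit 7, nat_lit 3, nat_lit 6], .sub (nat_lit 6) [] [], .rel (nat_lit 40) (nat_lit 7) [nat_lit 1, nat_lit 3, nat_lit 0, nat_lit 2, nat_lit 0, nat_lit 3, nat_lit 0,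 nat_lit 0, nat_lit 2, nat_lit 1, nat_lit 1, nat_lit 2, nat_lit 1], .rel (nat_lit 40) (nat_lit 13) [nat_lit 0, nat_lit 0, nat_lit 2, nat_lit 1, nat_lit 1, nat_lit 2, nat_lit 1, nat_lit 3, nat_lit 1, nat_lit 3, nat_lit 0, nat_lit 2, nat_lit 0], .rel (nat_lit 128) (nat_lit 5) [nat_lit 0, nat_lit 5, nat_lit 6, nat_lit 4, nat_lit 7, nat_lit 4, nat_lit 1, nat_lit 2, nat_lit 6]],
  [.rel (nat_lit 8) (nat_lit 0) [nat_lit 5], .defn, .rel (nat_lit 24) (nat_lit 0) [nat_lit 4, nat_lit 4], .rel (nat_lit 78) (nat_lit 3) [nat_lit 6, nat_lit 5, nat_lit 7, nat_lit 5, nat_lit 6], .rel (nat_lit 70) (nat_lit 1) [nat_lit 2, nat_lit 5, nat_lit 3], .rel (nat_lit 79) (nat_lit 0) [nat_lit 7, nat_lit 5, nat_lit 7, nat_lit 4, nat_lit 6], .sub (nat_lit 8) [] [], .rel (nat_lit 71) (nat_lit 0) [nat_lit 3, nat_lit 5, nat_lit 2], .rel (nat_lit 79) (nat_lit 4) [nat_lit 6, nat_lit 4, nat_lit 7, nat_lit 5, nat_lit 7], .rel (nat_lit 86) (nat_lit 5) [nat_lit 1, nat_lit 3, nat_lit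 0, nat_lit 5, nat_lit 1, nat_lit 2, nat_lit 0], .rel (nat_lit 90) (nat_lit 6) [nat_lit 6, nat_lit 5, nat_lit 1, nat_lit 2, nat_lit 6, nat_lit 3, nat_lit 0], .rel (nat_lit 91) (nat_lit 7) [nat_lit 7, nat_lit 5, nat_lit 1, nat_lit 2, nat_lit 7, nat_lit 3, nat_lit 0], .rel (nat_lit 121) (nat_lit 7) [nat_lit 6, nat_lit 1, nat_lit 3, nat_lit 0, nat_lit 7, nat_lit 5, nat_lit 1, nat_lit 7, nat_lit 0], .rel (nat_lit 195) (nat_lit 2) [nat_lit 1, nat_lit 3, nat_lit 1, nat_lit 3, nat_lit 0, nat_lit 2, nat_lit 0, nat_lit 5, nat_lit 0, nat_lit 3, nat_lit 1]],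
  [.rel (nat_lit 8) (nat_lit 1) [nat_lit 4], .defn, .rel (nat_lit 25) (nat_lit 0) [nat_lit 5, nat_lit 5], .rel (nat_lit 78) (nat_lit 1) [nat_lit 6, nat_lit 4, nat_lit 6, nat_lit 5, nat_lit 7], .rel (nat_lit 70) (nat_lit 3) [nat_lit 3, nat_lit 4, nat_lit 2], .rel (nat_lit 78) (nat_lit 5) [nat_lit 7, nat_lit 5, nat_lit 6, nat_lit 4, nat_lit 6], .rel (nat_lit 71) (nat_lit 2) [nat_lit 2, nat_lit 4, nat_lit 3], .rel (nat_lit 90) (nat_lit 0) [nat_lit 1, nat_lit 2, nat_lit 6, nat_lit 3, nat_lit 0, nat_lit 4, nat_lit 6], .sub (nat_lit 10) [] [], .rel (nat_lit 91) (nat_lit 1) [nat_lit 1, nat_lit 2, nat_lit 7, nat_lit 3, nat_lit 0, nat_lit 4, nat_lit 7], .rel (nat_lit 122) (nat_lit 9) [nat_lit 1, nat_lit 6, nat_lit 3, nat_lit 0, nat_lit 6, nat_lit 1, nat_lit 2, nat_lit 7, nat_lit 0], .rel (nat_lit 144) (nat_lit 9) [nat_lit 7, nat_lit 4, nat_lit 1, nat_lit 6, nat_lit 2, nat_lit 7, nat_lit 0, nat_lit 5, nat_lit 6], .rel (nat_lit 190) (nat_lit 1) [nat_lit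 1, nat_lit 1, nat_lit 1, nat_lit 4, nat_lit 0, nat_lit 0, nat_lit 0, nat_lit 4, nat_lit 0, nat_lit 2, nat_lit 1], .rel (nat_lit 204) (nat_lit 2) [nat_lit 2, nat_lit 0, nat_lit 2, nat_lit 1, nat_lit 3, nat_lit 4, nat_lit 0, nat_lit 0, nat_lit 2, nat_lit 1, nat_lit 1], .rel (nat_lit 206) (nat_lit 11) [nat_lit 0, nat_lit 0, nat_lit 4, nat_lit 2, nat_lit 0, nat_lit 2, nat_lit 1, nat_lit 3, nat_lit 5, nat_lit 1, nat_lit 1]],
  [.rel (nat_lit 12) (nat_lit 0) [nat_lit 7], .defn, .rel (nat_lit 76) (nat_lit 2) [nat_lit 2, nat_lit 7, nat_lit 2, nat_lit 6, nat_lit 3], .rel (nat_lit 78) (nat_lit 4) [nat_lit 5, nat_lit 7, nat_lit 5, nat_lit 6, nat_lit 4], .rel (nat_lit 78) (nat_lit 2) [nat_lit 4, nat_lit 6, nat_lit 5, nat_lit 7, nat_lit 5], .rel (nat_lit 90) (nat_lit 3) [nat_lit 3, nat_lit 0, nat_lit 4, nat_lit 6, nat_lit 5, nat_lit 1, nat_lit 2], .rel (nat_lit 76) (nat_lit 0) [nat_lit 3, nat_lit 6, nat_lit 2, nat_lit 7, nat_lit 2], .rel (nat_lit 26) (nat_lit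 0) [nat_lit 6, nat_lit 6], .rel (nat_lit 79) (nat_lit 5) [nat_lit 4, nat_lit 7, nat_lit 5, nat_lit 7, nat_lit 4], .rel (nat_lit 116) (nat_lit 4) [nat_lit 0, nat_lit 3, nat_lit 0, nat_lit 3, nat_lit 6, nat_lit 2, nat_lit 1, nat_lit 2, nat_lit 1], .rel (nat_lit 90) (nat_lit 7) [nat_lit 5, nat_lit 1, nat_lit 2, nat_lit 6, nat_lit 3, nat_lit 0, nat_lit 4], .rel (nat_lit 88) (nat_lit 3) [nat_lit 0, nat_lit 6, nat_lit 1, nat_lit 7, nat_lit 0, nat_lit 7, nat_lit 1], .rel (nat_lit 88) (nat_lit 5) [nat_lit 1, nat_lit 7, nat_lit 0, nat_lit 7, nat_lit 1, nat_lit 6, nat_lit 0], .rel (nat_lit 94) (nat_lit 6) [nat_lit 3, nat_lit 7, nat_lit 0, nat_lit 4, nat_lit 6, nat_lit 5, nat_lit 1], .rel (nat_lit 97) (nat_lit 5) [nat_lit 1, nat_lit 6, nat_lit 2, nat_lit 7, nat_lit 0, nat_lit 7, nat_lit 5], .rel (nat_lit 120) (nat_lit 4) [nat_lit 0, nat_lit 4, nat_lit 6, nat_lit 1, nat_lit 2, nat_lit 0, nat_lit 7, nat_lit 5, nat_lit 1], .rel (nat_lit 122) (nat_lit 1)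 [nat_lit 3, nat_lit 0, nat_lit 6, nat_lit 1, nat_lit 2, nat_lit 7, nat_lit 0, nat_lit 5, nat_lit 1]],
  [.rel (nat_lit 12) (nat_lit 1) [nat_lit 6], .defn, .rel (nat_lit 27) (nat_lit 0) [nat_lit 7, nat_lit 7], .rel (nat_lit 78) (nat_lit 0) [nat_lit 5, nat_lit 6, nat_lit 4, nat_lit 6, nat_lit 5], .rel (nat_lit 79) (nat_lit 1) [nat_lit 5, nat_lit 7, nat_lit 4, nat_lit 6, nat_lit 4], .rel (nat_lit 76) (nat_lit 4) [nat_lit 2, nat_lit 6, nat_lit 3, nat_lit 6, nat_lit 2], .rel (nat_lit 77) (nat_lit 3) [nat_lit 2, nat_lit 7, nat_lit 3, nat_lit 6, nat_lit 3], .rel (nat_lit 91) (nat_lit 4) [nat_lit 3, nat_lit 0, nat_lit 4, nat_lit 7, nat_lit 5, nat_lit 1, nat_lit 2], .rel (nat_lit 79) (nat_lit 3) [nat_lit 4, nat_lit 6, nat_lit 4, nat_lit 7, nat_lit 5], .rel (nat_lit 91) (nat_lit 0) [nat_lit 5, nat_lit 1, nat_lit 2, nat_lit 7, nat_lit 3, nat_lit 0, nat_lit 4], .rel (nat_lit 92) (nat_lit 6) [nat_lit 4, nat_lit 6, nat_lit 1, nat_lit 2, nat_lit 6, nat_lit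 3, nat_lit 0], .rel (nat_lit 119) (nat_lit 9) [nat_lit 2, nat_lit 6, nat_lit 1, nat_lit 2, nat_lit 1, nat_lit 7, nat_lit 0, nat_lit 3, nat_lit 0]]]
noncomputable def cO8 : TCert2 := ⟨72, 72, 713, 8, 1023, 8191, 3, TO8, IO8, DO8, EO8, JO8, WO8, [[nat_lit 0],
  [nat_lit 1],
  [nat_lit 2],
  [nat_lit 3],
  [nat_lit 4],
  [nat_lit 5]], RLO8⟩
noncomputable def TO10d : List ℕ := [nat_lit 0x45a7000000000000000506e0000000000000000000000497e0000000000000000000b8ec00000005f4a000000000000000000000000009236000000000000000000000000000000000000000000001161c000000000000000000490f000000000000000921a000000000000000000255b8000000116400004aac0000000000000000ad609dc1b449580ebd25443b7166f929211d64a0096930b62dd0ca20e5314e63ce84368c470ee2598c81c867218d524d649a4a7620ba399ca29135412d924acaa3143c1ec42594baba04d923ea541227a72c524129c0e53965f26b3245ce9b8e60605ac4aa48b0d646a50496932623b94763244e533214e24ad2984e9dca5c5e3adcba487172f5906c50de18c90c94aad0cd4a5b70f80492429f91c1117652cd0a4842e267e25182588f41419494e0ca4834015948b088651fca3d952b28e24824a3695172a26402ca85944f289651149029439286250a49019417281e501ca00,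
  nat_lit 0x121e00009302000000000000000000121d800000000000000497c00000000000000089780000000000000000000000000000000000000000000000000000000000000000000000000000000000467e000000000000000921e000248700000000000248600005a5e000255c000000012ac00004aad00000000000000002ed25702b70c6a16ce1d80431c94a2ae019c44b288570cee357c53604751ab524e45290e402ec4394e49b0f442a9019cc8adc93432d64cf8923ca742ca24cde49592581ad04d665392a4e4a9a88e10a8273d5453246e537983c1ac8515648b9a69645cc88a10e4a6d922a6cee48a15545b5439988b0c9124f6f244252f4a5d6654e469e9697493d4ed8c98a1a84c94acc909d11b43f9216bc824853f277c4b242618b2a4b949ec875819c907953ee839a87c906948d2905f8c49059475007e1124a8e951928c6543ca2c9207289a28f4a2192052866386ca11920328225024a00,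
  nat_lit 0x30b80000000000000000000000000028370000000000000000000000000000000000000000000000000000000000000000000248d8000000000000000000000125e8000000000000000000000000010e2e48880000000000000000000000000000000007f0a0000000000000012af400000000000000000045950000000000000001cee21d87b1856c92a8215c9b992702adf2510bb68b6134d629ba49d476992722d9ce201a6420b46d2053a49358ec031c892e925b386929d4b18135834bc552492a94712aa66128ba8c4504c9f087e126aa4c923850ace233fac8f331558edb8b6a8a871509a109d375c58b8f969ec9138e7929a06333b4e94cb298a52f915c644d0cba018972f94b3103a216c4192ca4e8a9a99c90b5c22bca6012c6246683092e191c4207871241e38f43229541086961fc118948f1c5a1c8c4289477144a20aca8f8c1f28ca481c70d8a29240a3854808943b2406383470494192826502ca00,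
  nat_lit 0x122f64c100000000000000031bc4d6e0000000000000000000000000000000000000404800000000000000000000000000000000000002450491b0000000000000000000000242380000000000233e00000000000220a800000000000000000085240000000000000000001f43800000012af8000000000000000000000000012a6800000001eee1dda4ad0b6128e23578aaa137028de2da8b36847432d63112434493a18cc34e649b99641ceb24d8536485f926a6d5c8ae923422b83d8e49794580ee519189aaca732ca654acc28c5504a9ef0e20a6a94c86446548a2b1a62922e76f0e22ca6e8c871109a119b655a32bcf971ec83b922729a6533bd1f53686d225301b5b6c53243a09895595d4f08ca196ad3f2a94eca981345145c2accce092c524884310719a0c320829d2076483ca4b95430c6a19642189533185a288c60b9479184a548ca908a1f0cba4064903945120264814708943d2016480c804941b282a5034a00,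
  nat_lit 0x2fb4000000000002a3700000000000000000000000000000086690e2800000000000000000000008b4e000000000000000000000000000000000233f35970000000000000000000000000048790000000000000000000000224a0000882a00000000000830e00000000000000000021c0800000000000000477c0000000000000001ed621b4a388b680ee4218c9af0b760cee25d03b80b6934de45847220c6e8c7870ec8ae0c551ce7058891d426726cc65d47b212563a92ed5222cb45368b475946aeb35730a30548bac49244c9890fd227a54d84971929aa04448888eb2be2229d6c922d1d0dc971d5b6c4f10f95a8436086bf29aa409bb8b85510cda21cab468442c099d9544308c5ed8a5b18b6118656d4b59a0c328469cbc8e292ac3d82651c8a187441a83251c7a28ec41c88372021a8ac6188c2f2909c9c46148a6b241220fc6108c2528ce306c60c8a171c2a284c5208e0f181a302c70f90071c0a400ca00,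
  nat_lit 0x2ebc0000000000000000000000000000000000000000043378d4e0000000000000000000000000000000000000000000000000000000000000000000458d0001087c000000000000000000000000010ab8000000000000000000000000000002240800000011674000467c000000023ca00000ede31c0d2f0a6e1ec619cc9ba886d36d635a03bb1e441cef24e85360a7486c0517cf2b0e5d0ee50988835443c887651c472a90653c80d55e2ac985168a845705b23a5a66b10148ba9ac3d469a889d326254f82971528e2dc5488a8ea8d21a28d6990852459a14b449469d14f9692456736cc458629aba15537110da309c2af921d088da96c3308a5ee105b15361f8456f0c5a9742286a7ec4ca312ca50604d188a099c6088623187a30ec31c86371481a9c47188a2f290e1c5c5148e731c3e549471090091086286c70c8817182a304c71a900f141a382ca128e07200a380ca00,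
  nat_lit 0x313e00000000000000000000000000000000000000000243c87070e080000000000000000000000834e000000000000000000000000000000000219b800000000000000487a0000000000000000000000000000000000000243c0000784400000000000000000000000000000000023da0000000119f800047a800000000000000020c011d47b1167428e649645380b4a18ac2998c369d4992743d94db49b451cd4311cd33c9368ec815d83b7915c40be7178daeca777eb7196882ac82f8ab03d849b9482b8aa8e549d28c550509f24763a7491c569729c59d8c24838dd0d18e9dc8178c86d0661a0c5447898b5b17131b6b36d070f2157c2388837298e40845358c6704ca318c3308eaf2432397382c8ea7242e3953928784ec452192c9098e48cd0a28549078e410c7a526bd3f8f3b1445a9144188e81241638b2f3d8a271086303473492071c3e286ca2d94531c4a511c808943f286a50ac704941d1c0a400ca00,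
  nat_lit 0x48810000d271a24800086720000000000000000000000487c854e000000000000000000000000000000000240d800000000000000000090f40000000468200000000000000000000000000000000000000000000000000000000000000000000000000000000000000000000000000000478d92b819881bb157426e651564a5097110c2751cbb6ae3e3878359cd349c3b36ca25b87354863926c39d482b0f773ebe6d78e2e906080b715688b94657905e2dbc7acc6539056e149da8c4504e9f213648ebd3f549629c0e36434816cd1118d3446408a86d08a120c8177c38c2f180a23b04b6f29ae341c338853b299231a48108a6708ca398c2308eb120b6486392c8ea920a6485ba287a4eb4f6112c8239212ee2e289481f920f087a5274a4c866f24199a143188e892056482b2268c27202a20d4735901d240e206ca2e9455108651247089441144650b4804941f200a380ca00,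
  nat_lit 0x244d0000000000023dd0000000000000004923000000023d90000924200000000000000000000000000923c000248ec7a5000000024508000563a00000004919000000000000000922a000000000000000000000000000000000000000000000000000000000000000000000009214000248480000000000000000000001241400000002aee39d8b3a8c741ce62dc8ab8917024de31b8a36c93d2cd659a8628176826ce41989b295642ac65988a3095602ebe59788ae975c9264653c8ac984e329a4d589aa964c307e692e4939943346264b8d16972a36505d2a3ce4918908ea8ccba2c79816d261b0c28c79732532450da1173c327660ea489195b8f265cda487c90e365868e252d47888f0d296252ba9b88f092952529ca5236832aee55ccab595672ac65574aaa95512a9a5524aa28ef72a76524ca9b8ef529125204a9692092a5251bc903951b2a2a5184a2f94572a0a5404a7e94f9286e50bca7994f124023814a01,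
  nat_lit 0x122e64928000000000000000000000122c64910000915d24840000000000000000000000914d247a452491d914524723d0c6be00000000000484992311ef40004844908124500004912906e00000000000000000024878000000124380004830000120bc000482b9105242800000000001242000049079037205e48249032cee3dd8aba8b741ae631c8b38927022de2db89b699422ad65da8621986824ce459893294642cc65d889b094602cbe5d7882e985c347124c482cc92e925a515892ac92a925324a0ca08b6930b45d60c2b955432a4592a48cc89b8e8e74b0c22c91634a068f4d13c9152ea7225a536163c30765cea44a1b32922258da446c88a568d296cda7c90d92186138ca69c3392166130d1f9a4b94a32af255d4ab695692aca557caab95532a9e552caa3920d2a7a54e4a48920b2a6254bca3e90f328e6549c878946b28d25444a8695092a0e540ca7f94fb29ee53d4a13942120064804a02]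
noncomputable def TO10 (k u : ℕ) : ℕ := Nat.land (Nat.shiftRight (nth (nat_lit 0) TO10d k) (Nat.mul u (nat_lit 15))) (nat_lit 32767)
noncomputable def IO10d : List ℕ := [nat_lit 0x700000014000000000000000001100050000000000000000000000000000001900000000000000000000000004000000100000000f0006006c200000000001200200000000000000100654d3005c01c04c00000000010066800000000000800000000400010010090000000000500000802800c300000400004000b040041041001041101041040041040041048,
  nat_lit 0x84000000000018000000000000000000000000000000000000000000000002500000000000000000050004000100100000000014214288000008064429b00015560001d00068041100100200000004420d0875c004058001310008100001e00070000004100720000008304f0000230000000d204b3000400000410000640c1041041001001001001001049,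
  nat_lit 0xc0000000000000002c000000100000000000000000f0ca00d0001001070800000000c24830000001131c10c0008000000000102182000000000000005380400000001000041040003000042195500000000002000005000000040000042000040001141000000008040000041049,
  nat_lit 0x20000000121c000000000000000e0000000000000000800000000000800007000000800000000000000000000010000000000010000c00060860c800200000508009300000000200b01a00000a0076c12803c401100008e00000000110030020b3020010551400405001806400003d71420183400c900000200104300d0400c9044041000080042000042007041050,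
  nat_lit 0x30000170000000000000c100000000000000000000000004300000000000100000000000038000070000000000000000100000024421109200000000300558009021a0006c00004c60c100100000004100028d2800860400181800005401000000070d40000051400010443c004000214000000400000200b0590000470040002400070802c200000200018004c,
  nat_lit 0x40800000000000000000000000000040030000000000000000000000000800000000000002450501c00052c70020000001c80400010070412c00840441000000000030003400000020400000c04400021400000930080800010000003c000e0000121460c000a00004000300500600000318228900100004020004600200c,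
  nat_lit 0x40000000000000000111010000000000000000000000000400000040000000000000000405000000000000000000010000000001872031501930c50c400e24818f00000000520300200158100000100100a0c000024200000000128b0c00001c00000000421002c00010000000000000001c000030000508000600700000000030000014208009208208008004d,
  nat_lit 0x10011000400000000040400000000000001000000000400040000000000000000000000000000000000000000000090000070001460010c000c18000300040000014004000410000410004000300300000100700400d00420024038204800204100b14000300f0030061400030004430000820000000030120530000c000208008008008708100a,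
  nat_lit 0x4800000000000000000000000000000000000000004c00000000000000000000000000000000000000000000000000000000000000001440c00001031001c04000c01470002c314010000250208020208200000e18034c0002400000000000003c928a000011000000040001046001041201041041041041041001041001041001040041041041041041041040001,
  nat_lit 0x20000000000020000800000000000800800800100000020000020800000800000000000000020020020800000000000820000c60000050c60000020043c30070000cc00000500708000001100000008000000000000200024010000000204000008b00008220138000000200d280041041041041041041001041001041081042041041041041041041042001]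
noncomputable def IO10 (k u : ℕ) : ℕ := Nat.land (Nat.shiftRight (nth (nat_lit 0) IO10d k) (Nat.mul u (nat_lit 6))) (nat_lit 63)
noncomputable def DO10d : ℕ := nat_lit 0x2517945a185861217b85ea50b942a17185c2167859a15d85724ed854e15293664d8852614884fe13e84d613484ae12a84861208446110843e10d843210383e24c783a60e5836e0d082fa0bc82ce0af82b60a3828a0a1827a097825a094823208b820e08181e207761b586c618d8626165858613d84e611583b60c1826ce7b398ce1b371cd2f32babaaae4ab6eaabaa06a6ba92ea48a91ea46a8f6a3aa8a2a23a88aa1ea872a15a852a13a826a08a7f69f2a7629d4a72a9afa6ba9aca68a998a63e16d84de12984a211f846e10e840a0f983a20e7839a0e483860e083760da834a0d183220c183020bf82f60b482ca0a0827e095824208e823608a820207f81fa07981da07581d207181b98656191861618185a614584d61318496121846611184260f583c60e983960e183260c582d60a58276095824608582060790174059015405100d403100b40288092020000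
noncomputable def DO10 (u : ℕ) : ℕ := Nat.land (Nat.shiftRight DO10d (Nat.mul u (nat_lit 14))) (nat_lit 16383)
noncomputable def EO10td : ℕ := nat_lit 0x21058805d497465a186521e467915e447859e407855d1470f9d3a7cde011984dc36783de357839e3460c190db27de0c58ad70b7d1e0177cbdf127ce5e2664961027c6df247c8dc229df201a7c8772cbc9e210844237e7c83828d865f1fec6981ee031e1ddc3561c806e1067c5df057811e13740dd10802a0097c21e07
noncomputable def EO10t (u : ℕ) : ℕ := Nat.land (Nat.shiftRight EO10td (Nat.mul u (nat_lit 14))) (nat_lit 16383)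
noncomputable def JO10td : ℕ := nat_lit 0xdd80804d0410040082012080481c1000048180001040241009048f4640804b70060900020120404824040603825b00704001580101cdc088c018151a086f82402080480810090402410010400c0a07
noncomputable def JO10t (u : ℕ) : ℕ := Nat.land (Nat.shiftRight JO10td (Nat.mul u (nat_lit 9))) (nat_lit 511)
noncomputable def WO10td : ℕ := nat_lit 0xbe01491918b946b744164015b2b1b0afae13ac0f350e34a70d9fa4a30ba1a02f12399c259a1b9897227c9421929110107e8d8c8b8a891e0c1d0d1c83821705041303900a7a7978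
noncomputable def WO10t (u : ℕ) : ℕ := Nat.land (Nat.shiftRight WO10td (Nat.mul u (nat_lit 8))) (nat_lit 255)
@[irreducible] noncomputable def EO10 (a : ℕ) : ℕ := force (Nat.sub a (nat_lit 120)) EO10t
@[irreducible] noncomputable def JO10 (a : ℕ) : ℕ := force (Nat.sub a (nat_lit 120)) JO10t
@[irreducible] noncomputable def WO10 (a : ℕ) : ℕ := force (Nat.sub a (nat_lit 120)) WO10t
noncomputable def RLO10 : List (List Rule) := [[.rel (nat_lit 0) (nat_lit 0) [nat_lit 1], .defn, .rel (nat_lit 20) (nat_lit 0) [nat_lit 0, nat_lit 0, nat_lit 0, nat_lit 0, nat_lit 0, nat_lit 0], .rel (nat_lit 89) (nat_lit 1) [nat_lit 7, nat_lit 1, nat_lit 7, nat_lit 0, nat_lit 6, nat_lit 1, nat_lit 6], .rel (nat_lit 148) (nat_lit 7) [nat_lit 3, nat_lit 9, nat_lit 2, nat_lit 1, nat_lit 2, nat_lit 1, nat_lit 8, nat_lit 0, nat_lit 3], .rel (nat_lit 167) (nat_lit 4) [nat_lit 9, nat_lit 1, nat_lit 1, nat_lit 6, nat_lit 2, nat_lit 8, nat_lit 3, nat_lit 7, nat_lit 0], .rel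 (nat_lit 184) (nat_lit 7) [nat_lit 8, nat_lit 5, nat_lit 9, nat_lit 1, nat_lit 9, nat_lit 0, nat_lit 4, nat_lit 1, nat_lit 8], .rel (nat_lit 208) (nat_lit 7) [nat_lit 5, nat_lit 8, nat_lit 2, nat_lit 1, nat_lit 8, nat_lit 7, nat_lit 0, nat_lit 5, nat_lit 1, nat_lit 7, nat_lit 0, nat_lit 9, nat_lit 3, nat_lit 1, nat_lit 9], .sub (nat_lit 0) [] [], .rel (nat_lit 34) (nat_lit 5) [nat_lit 3, nat_lit 1, nat_lit 2, nat_lit 1, nat_lit 1, nat_lit 3, nat_lit 1, nat_lit 2, nat_lit 0, nat_lit 0, nat_lit 0, nat_lit 2, nat_lit 0], .rel (nat_lit 50) (nat_lit 8) [nat_lit 3, nat_lit 1, nat_lit 3, nat_lit 0, nat_lit 0, nat_lit 2, nat_lit 0, nat_lit 0, nat_lit 0, nat_lit 2, nat_lit 1, nat_lit 2, nat_lit 0, nat_lit 2], .rel (nat_lit 68) (nat_lit 2) [nat_lit 3, nat_lit 0, nat_lit 2, nat_lit 0, nat_lit 3, nat_lit 0, nat_lit 3, nat_lit 1, nat_lit 2, nat_lit 1, nat_lit 3, nat_lit 0, nat_lit 3, nat_lit 0, nat_lit 2], .rel (nat_lit 87) (nat_lit 5) [nat_lit 4, nat_lit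 1, nat_lit 2, nat_lit 0, nat_lit 5, nat_lit 1, nat_lit 3], .rel (nat_lit 91) (nat_lit 6) [nat_lit 4, nat_lit 7, nat_lit 5, nat_lit 1, nat_lit 2, nat_lit 7, nat_lit 3], .rel (nat_lit 117) (nat_lit 8) [nat_lit 3, nat_lit 7, nat_lit 2, nat_lit 1, nat_lit 2, nat_lit 1, nat_lit 7, nat_lit 0, nat_lit 3], .rel (nat_lit 122) (nat_lit 8) [nat_lit 5, nat_lit 1, nat_lit 6, nat_lit 3, nat_lit 0, nat_lit 6, nat_lit 1, nat_lit 2, nat_lit 7], .rel (nat_lit 127) (nat_lit 2) [nat_lit 7, nat_lit 3, nat_lit 5, nat_lit 2, nat_lit 6, nat_lit 1, nat_lit 2, nat_lit 7, nat_lit 3], .rel (nat_lit 148) (nat_lit 5) [nat_lit 3, nat_lit 0, nat_lit 3, nat_lit 9, nat_lit 2, nat_lit 1, nat_lit 2, nat_lit 1, nat_lit 8], .rel (nat_lit 154) (nat_lit 1) [nat_lit 7, nat_lit 1, nat_lit 6, nat_lit 0, nat_lit 6, nat_lit 1, nat_lit 8, nat_lit 7, nat_lit 9], .rel (nat_lit 156) (nat_lit 5) [nat_lit 7, nat_lit 5, nat_lit 0, nat_lit 9, nat_lit 1, nat_lit 4, nat_lit 6, nat_lit 1, nat_lit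 8], .rel (nat_lit 157) (nat_lit 9) [nat_lit 8, nat_lit 1, nat_lit 4, nat_lit 6, nat_lit 1, nat_lit 9, nat_lit 0, nat_lit 7, nat_lit 5], .rel (nat_lit 160) (nat_lit 1) [nat_lit 9, nat_lit 1, nat_lit 2, nat_lit 0, nat_lit 8, nat_lit 1, nat_lit 4, nat_lit 3, nat_lit 5], .rel (nat_lit 165) (nat_lit 2) [nat_lit 8, nat_lit 1, nat_lit 7, nat_lit 0, nat_lit 9, nat_lit 1, nat_lit 9, nat_lit 6, nat_lit 8], .rel (nat_lit 166) (nat_lit 3) [nat_lit 8, nat_lit 1, nat_lit 1, nat_lit 6, nat_lit 2, nat_lit 9, nat_lit 3, nat_lit 7, nat_lit 0], .rel (nat_lit 172) (nat_lit 8) [nat_lit 5, nat_lit 1, nat_lit 9, nat_lit 2, nat_lit 0, nat_lit 4, nat_lit 1, nat_lit 3, nat_lit 8], .rel (nat_lit 191) (nat_lit 7) [nat_lit 0, nat_lit 0, nat_lit 4, nat_lit 0, nat_lit 3, nat_lit 1, nat_lit 5, nat_lit 1, nat_lit 1, nat_lit 1, nat_lit 5], .rel (nat_lit 194) (nat_lit 8) [nat_lit 5, nat_lit 0, nat_lit 2, nat_lit 1, nat_lit 4, nat_lit 1, nat_lit 3, nat_lit 1, nat_lit 2, nat_lit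 0, nat_lit 2], .rel (nat_lit 203) (nat_lit 11) [nat_lit 3, nat_lit 1, nat_lit 4, nat_lit 3, nat_lit 0, nat_lit 0, nat_lit 3, nat_lit 1, nat_lit 1, nat_lit 2, nat_lit 5]],
  [.rel (nat_lit 0) (nat_lit 1) [nat_lit 0], .defn, .rel (nat_lit 21) (nat_lit 0) [nat_lit 1, nat_lit 1, nat_lit 1, nat_lit 1, nat_lit 1, nat_lit 1], .rel (nat_lit 90) (nat_lit 1) [nat_lit 2, nat_lit 6, nat_lit 3, nat_lit 0, nat_lit 4, nat_lit 6, nat_lit 5], .rel (nat_lit 92) (nat_lit 1) [nat_lit 2, nat_lit 6, nat_lit 3, nat_lit 0, nat_lit 7, nat_lit 4, nat_lit 6], .rel (nat_lit 150) (nat_lit 8) [nat_lit 3, nat_lit 0, nat_lit 9, nat_lit 5, nat_lit 1, nat_lit 2, nat_lit 0, nat_lit 4, nat_lit 8], .rel (nat_lit 102) (nat_lit 6) [nat_lit 7, nat_lit 0, nat_lit 9, nat_lit 1, nat_lit 6, nat_lit 0, nat_lit 8], .rel (nat_lit 116) (nat_lit 3) [nat_lit 6, nat_lit 0, nat_lit 3, nat_lit 0, nat_lit 3, nat_lit 6, nat_lit 2, nat_lit 1, nat_lit 2], .rel (nat_lit 117) (nat_lit 4) [nat_lit 7,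 nat_lit 0, nat_lit 3, nat_lit 0, nat_lit 3, nat_lit 7, nat_lit 2, nat_lit 1, nat_lit 2], .sub (nat_lit 2) [] [], .rel (nat_lit 31) (nat_lit 1) [nat_lit 2, nat_lit 1, nat_lit 2, nat_lit 1, nat_lit 2, nat_lit 1, nat_lit 2], .rel (nat_lit 51) (nat_lit 2) [nat_lit 2, nat_lit 0, nat_lit 2, nat_lit 1, nat_lit 3, nat_lit 1, nat_lit 3, nat_lit 0, nat_lit 3, nat_lit 1, nat_lit 1, nat_lit 1, nat_lit 3, nat_lit 1], .rel (nat_lit 59) (nat_lit 13) [nat_lit 1, nat_lit 2, nat_lit 0, nat_lit 3, nat_lit 1, nat_lit 3, nat_lit 0, nat_lit 2, nat_lit 0, nat_lit 2, nat_lit 1, nat_lit 3, nat_lit 0, nat_lit 3], .rel (nat_lit 86) (nat_lit 6) [nat_lit 3, nat_lit 0, nat_lit 5, nat_lit 1, nat_lit 2, nat_lit 0, nat_lit 4], .rel (nat_lit 88) (nat_lit 2) [nat_lit 6, nat_lit 0, nat_lit 6, nat_lit 1, nat_lit 7, nat_lit 0, nat_lit 7], .rel (nat_lit 89) (nat_lit 3) [nat_lit 7, nat_lit 0, nat_lit 6, nat_lit 1, nat_lit 6, nat_lit 0, nat_lit 7], .rel (nat_lit 91) (nat_lit 2) [nat_lit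 2, nat_lit 7, nat_lit 3, nat_lit 0, nat_lit 4, nat_lit 7, nat_lit 5], .rel (nat_lit 93) (nat_lit 2) [nat_lit 2, nat_lit 7, nat_lit 3, nat_lit 0, nat_lit 7, nat_lit 5, nat_lit 6], .rel (nat_lit 94) (nat_lit 5) [nat_lit 6, nat_lit 3, nat_lit 7, nat_lit 0, nat_lit 4, nat_lit 6, nat_lit 5], .rel (nat_lit 96) (nat_lit 5) [nat_lit 6, nat_lit 3, nat_lit 7, nat_lit 0, nat_lit 7, nat_lit 4, nat_lit 6], .rel (nat_lit 101) (nat_lit 3) [nat_lit 3, nat_lit 0, nat_lit 8, nat_lit 1, nat_lit 2, nat_lit 0, nat_lit 9], .rel (nat_lit 116) (nat_lit 1) [nat_lit 2, nat_lit 1, nat_lit 6, nat_lit 0, nat_lit 3, nat_lit 0, nat_lit 3, nat_lit 6, nat_lit 2], .rel (nat_lit 117) (nat_lit 2) [nat_lit 2, nat_lit 1, nat_lit 7, nat_lit 0, nat_lit 3, nat_lit 0, nat_lit 3, nat_lit 7, nat_lit 2], .rel (nat_lit 118) (nat_lit 1) [nat_lit 2, nat_lit 1, nat_lit 6, nat_lit 0, nat_lit 3, nat_lit 0, nat_lit 7, nat_lit 3, nat_lit 6], .rel (nat_lit 119) (nat_lit 2) [nat_lit 2, nat_lit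 1, nat_lit 7, nat_lit 0, nat_lit 3, nat_lit 0, nat_lit 7, nat_lit 2, nat_lit 6], .rel (nat_lit 131) (nat_lit 3) [nat_lit 2, nat_lit 7, nat_lit 3, nat_lit 0, nat_lit 6, nat_lit 5, nat_lit 7, nat_lit 4, nat_lit 7], .rel (nat_lit 148) (nat_lit 3) [nat_lit 8, nat_lit 0, nat_lit 3, nat_lit 0, nat_lit 3, nat_lit 9, nat_lit 2, nat_lit 1, nat_lit 2], .rel (nat_lit 152) (nat_lit 3) [nat_lit 2, nat_lit 0, nat_lit 5, nat_lit 8, nat_lit 1, nat_lit 3, nat_lit 0, nat_lit 9, nat_lit 4], .rel (nat_lit 156) (nat_lit 0) [nat_lit 4, nat_lit 6, nat_lit 1, nat_lit 8, nat_lit 0, nat_lit 7, nat_lit 5, nat_lit 0, nat_lit 9], .rel (nat_lit 159) (nat_lit 9) [nat_lit 6, nat_lit 0, nat_lit 9, nat_lit 6, nat_lit 1, nat_lit 7, nat_lit 0, nat_lit 7, nat_lit 8], .rel (nat_lit 166) (nat_lit 6) [nat_lit 6, nat_lit 2, nat_lit 9, nat_lit 3, nat_lit 7, nat_lit 0, nat_lit 0, nat_lit 8, nat_lit 1], .rel (nat_lit 167) (nat_lit 7) [nat_lit 6, nat_lit 2, nat_lit 8, nat_lit 3, nat_lit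 7, nat_lit 0, nat_lit 0, nat_lit 9, nat_lit 1], .rel (nat_lit 169) (nat_lit 6) [nat_lit 3, nat_lit 0, nat_lit 6, nat_lit 8, nat_lit 7, nat_lit 1, nat_lit 2, nat_lit 0, nat_lit 9], .rel (nat_lit 170) (nat_lit 5) [nat_lit 3, nat_lit 7, nat_lit 0, nat_lit 9, nat_lit 1, nat_lit 6, nat_lit 2, nat_lit 0, nat_lit 8], .rel (nat_lit 190) (nat_lit 2) [nat_lit 1, nat_lit 1, nat_lit 4, nat_lit 0, nat_lit 0, nat_lit 0, nat_lit 4, nat_lit 0, nat_lit 2, nat_lit 1, nat_lit 5], .rel (nat_lit 195) (nat_lit 1) [nat_lit 4, nat_lit 1, nat_lit 3, nat_lit 1, nat_lit 3, nat_lit 0, nat_lit 2, nat_lit 0, nat_lit 5, nat_lit 0, nat_lit 3], .rel (nat_lit 196) (nat_lit 4) [nat_lit 4, nat_lit 0, nat_lit 4, nat_lit 0, nat_lit 2, nat_lit 0, nat_lit 2, nat_lit 1, nat_lit 3, nat_lit 1, nat_lit 5], .rel (nat_lit 208) (nat_lit 5) [nat_lit 9, nat_lit 0, nat_lit 5, nat_lit 8, nat_lit 2, nat_lit 1, nat_lit 8, nat_lit 7, nat_lit 0, nat_lit 5, nat_lit 1, nat_lit 7, nat_lit 0, nat_lit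 9, nat_lit 3]],
  [.rel (nat_lit 4) (nat_lit 0) [nat_lit 3], .defn, .rel (nat_lit 76) (nat_lit 5) [nat_lit 6, nat_lit 3, nat_lit 6, nat_lit 2, nat_lit 7], .rel (nat_lit 22) (nat_lit 0) [nat_lit 2, nat_lit 2], .rel (nat_lit 86) (nat_lit 3) [nat_lit 0, nat_lit 4, nat_lit 1, nat_lit 3, nat_lit 0, nat_lit 5, nat_lit 1], .rel (nat_lit 70) (nat_lit 2) [nat_lit 5, nat_lit 3, nat_lit 4], .rel (nat_lit 76) (nat_lit 3) [nat_lit 7, nat_lit 2, nat_lit 6, nat_lit 3, nat_lit 6], .rel (nat_lit 84) (nat_lit 1) [nat_lit 4, nat_lit 3, nat_lit 8, nat_lit 5, nat_lit 9], .rel (nat_lit 100) (nat_lit 3) [nat_lit 0, nat_lit 8, nat_lit 1, nat_lit 3, nat_lit 0, nat_lit 9, nat_lit 1], .sub (nat_lit 4) [] [], .rel (nat_lit 31) (nat_lit 0) [nat_lit 1, nat_lit 2, nat_lit 1, nat_lit 2, nat_lit 1, nat_lit 2, nat_lit 1], .rel (nat_lit 40) (nat_lit 5) [nat_lit 1, nat_lit 3, nat_lit 1, nat_lit 3, nat_lit 0, nat_lit 2, nat_lit 0, nat_lit 3, nat_lit 0, nat_lit 0, nat_lit 2, nat_lit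 1, nat_lit 1], .rel (nat_lit 71) (nat_lit 3) [nat_lit 4, nat_lit 3, nat_lit 5], .rel (nat_lit 87) (nat_lit 0) [nat_lit 0, nat_lit 5, nat_lit 1, nat_lit 3, nat_lit 0, nat_lit 4, nat_lit 1], .rel (nat_lit 92) (nat_lit 2) [nat_lit 6, nat_lit 3, nat_lit 0, nat_lit 7, nat_lit 4, nat_lit 6, nat_lit 1], .rel (nat_lit 114) (nat_lit 8) [nat_lit 5, nat_lit 3, nat_lit 1, nat_lit 3, nat_lit 0, nat_lit 4, nat_lit 1, nat_lit 2, nat_lit 0], .rel (nat_lit 115) (nat_lit 9) [nat_lit 4, nat_lit 3, nat_lit 1, nat_lit 3, nat_lit 0, nat_lit 5, nat_lit 1, nat_lit 2, nat_lit 0], .rel (nat_lit 117) (nat_lit 3) [nat_lit 1, nat_lit 7, nat_lit 0, nat_lit 3, nat_lit 0, nat_lit 3, nat_lit 7, nat_lit 2, nat_lit 1], .rel (nat_lit 166) (nat_lit 8) [nat_lit 9, nat_lit 3, nat_lit 7, nat_lit 0, nat_lit 0, nat_lit 8, nat_lit 1, nat_lit 1, nat_lit 6], .rel (nat_lit 181) (nat_lit 9) [nat_lit 4, nat_lit 3, nat_lit 1, nat_lit 9, nat_lit 0, nat_lit 5, nat_lit 1, nat_lit 8, nat_lit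 0], .rel (nat_lit 186) (nat_lit 5) [nat_lit 8, nat_lit 2, nat_lit 8, nat_lit 3, nat_lit 9, nat_lit 3, nat_lit 9, nat_lit 3, nat_lit 8], .rel (nat_lit 194) (nat_lit 5) [nat_lit 0, nat_lit 2, nat_lit 0, nat_lit 5, nat_lit 0, nat_lit 2, nat_lit 1, nat_lit 4, nat_lit 1, nat_lit 3, nat_lit 1]],
  [.rel (nat_lit 4) (nat_lit 1) [nat_lit 2], .defn, .rel (nat_lit 23) (nat_lit 0) [nat_lit 3, nat_lit 3], .rel (nat_lit 76) (nat_lit 1) [nat_lit 6, nat_lit 2, nat_lit 7, nat_lit 2, nat_lit 6], .rel (nat_lit 70) (nat_lit 0) [nat_lit 4, nat_lit 2, nat_lit 5], .rel (nat_lit 71) (nat_lit 1) [nat_lit 5, nat_lit 2, nat_lit 4], .rel (nat_lit 86) (nat_lit 7) [nat_lit 0, nat_lit 5, nat_lit 1, nat_lit 2, nat_lit 0, nat_lit 4, nat_lit 1], .rel (nat_lit 100) (nat_lit 7) [nat_lit 0, nat_lit 9, nat_lit 1, nat_lit 2, nat_lit 0, nat_lit 8, nat_lit 1], .rel (nat_lit 30) (nat_lit 1) [nat_lit 0, nat_lit 3, nat_lit 0, nat_lit 3, nat_lit 0, nat_lit 3, nat_lit 0], .rel (nat_lit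 53) (nat_lit 11) [nat_lit 1, nat_lit 1, nat_lit 1, nat_lit 3, nat_lit 0, nat_lit 2, nat_lit 1, nat_lit 2, nat_lit 1, nat_lit 1, nat_lit 3, nat_lit 0, nat_lit 2, nat_lit 0], .rel (nat_lit 82) (nat_lit 1) [nat_lit 4, nat_lit 2, nat_lit 9, nat_lit 5, nat_lit 8], .rel (nat_lit 94) (nat_lit 7) [nat_lit 7, nat_lit 0, nat_lit 4, nat_lit 6, nat_lit 5, nat_lit 1, nat_lit 6], .rel (nat_lit 96) (nat_lit 7) [nat_lit 7, nat_lit 0, nat_lit 7, nat_lit 4, nat_lit 6, nat_lit 1, nat_lit 6], .rel (nat_lit 118) (nat_lit 9) [nat_lit 6, nat_lit 1, nat_lit 2, nat_lit 1, nat_lit 6, nat_lit 0, nat_lit 3, nat_lit 0, nat_lit 7], .rel (nat_lit 149) (nat_lit 9) [nat_lit 8, nat_lit 2, nat_lit 1, nat_lit 2, nat_lit 1, nat_lit 9, nat_lit 0, nat_lit 3, nat_lit 0], .rel (nat_lit 186) (nat_lit 1) [nat_lit 9, nat_lit 3, nat_lit 8, nat_lit 2, nat_lit 8, nat_lit 2, nat_lit 8, nat_lit 3, nat_lit 9], .sub (nat_lit 6) [] [], .rel (nat_lit 77) (nat_lit 0) [nat_lit 6, nat_lit 3, nat_lit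 7, nat_lit 2, nat_lit 7], .rel (nat_lit 101) (nat_lit 4) [nat_lit 0, nat_lit 8, nat_lit 1, nat_lit 2, nat_lit 0, nat_lit 9, nat_lit 1], .rel (nat_lit 113) (nat_lit 5) [nat_lit 0, nat_lit 5, nat_lit 1, nat_lit 4, nat_lit 2, nat_lit 5, nat_lit 0, nat_lit 4, nat_lit 1], .rel (nat_lit 115) (nat_lit 1) [nat_lit 1, nat_lit 3, nat_lit 0, nat_lit 5, nat_lit 1, nat_lit 2, nat_lit 0, nat_lit 2, nat_lit 4], .rel (nat_lit 116) (nat_lit 6) [nat_lit 0, nat_lit 3, nat_lit 6, nat_lit 2, nat_lit 1, nat_lit 2, nat_lit 1, nat_lit 6, nat_lit 0], .rel (nat_lit 116) (nat_lit 8) [nat_lit 6, nat_lit 2, nat_lit 1, nat_lit 2, nat_lit 1, nat_lit 6, nat_lit 0, nat_lit 3, nat_lit 0], .rel (nat_lit 127) (nat_lit 4) [nat_lit 5, nat_lit 2, nat_lit 6, nat_lit 1, nat_lit 2, nat_lit 7, nat_lit 3, nat_lit 0, nat_lit 7], .rel (nat_lit 134) (nat_lit 7) [nat_lit 7, nat_lit 3, nat_lit 6, nat_lit 2, nat_lit 0, nat_lit 4, nat_lit 6, nat_lit 5, nat_lit 1], .rel (nat_lit 174) (nat_lit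 0) [nat_lit 6, nat_lit 4, nat_lit 0, nat_lit 8, nat_lit 1, nat_lit 5, nat_lit 7, nat_lit 2, nat_lit 8], .rel (nat_lit 183) (nat_lit 9) [nat_lit 4, nat_lit 2, nat_lit 1, nat_lit 9, nat_lit 0, nat_lit 5, nat_lit 1, nat_lit 8, nat_lit 0], .rel (nat_lit 192) (nat_lit 11) [nat_lit 1, nat_lit 5, nat_lit 3, nat_lit 1, nat_lit 1, nat_lit 4, nat_lit 0, nat_lit 0, nat_lit 2, nat_lit 4, nat_lit 0], .rel (nat_lit 209) (nat_lit 5) [nat_lit 9, nat_lit 4, nat_lit 1, nat_lit 8, nat_lit 0, nat_lit 2, nat_lit 8, nat_lit 1, nat_lit 6, nat_lit 0, nat_lit 4, nat_lit 1, nat_lit 6, nat_lit 9, nat_lit 0]],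
  [.rel (nat_lit 8) (nat_lit 0) [nat_lit 5], .rel (nat_lit 72) (nat_lit 2) [nat_lit 9, nat_lit 5, nat_lit 8], .rel (nat_lit 70) (nat_lit 1) [nat_lit 2, nat_lit 5, nat_lit 3], .rel (nat_lit 73) (nat_lit 3) [nat_lit 8, nat_lit 5, nat_lit 9], .rel (nat_lit 86) (nat_lit 5) [nat_lit 1, nat_lit 3, nat_lit 0, nat_lit 5, nat_lit 1, nat_lit 2, nat_lit 0], .rel (nat_lit 24) (nat_lit 0) [nat_lit 4, nat_lit 4], .rel (nat_lit 98) (nat_lit 5) [nat_lit 1, nat_lit 9, nat_lit 0, nat_lit 5, nat_lit 1, nat_lit 8, nat_lit 0], .defn, .rel (nat_lit 71) (nat_lit 0) [nat_lit 3, nat_lit 5, nat_lit 2], .rel (nat_lit 78) (nat_lit 3) [nat_lit 6, nat_lit 5, nat_lit 7, nat_lit 5, nat_lit 6], .rel (nat_lit 190) (nat_lit 5) [nat_lit 0, nat_lit 0, nat_lit 0, nat_lit 4, nat_lit 0, nat_lit 2, nat_lit 1, nat_lit 5, nat_lit 1, nat_lit 1, nat_lit 1], .rel (nat_lit 198) (nat_lit 7) [nat_lit 1, nat_lit 2, nat_lit 4, nat_lit 3, nat_lit 5, nat_lit 3, nat_lit 0, nat_lit 5, nat_lit 1,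 nat_lit 2, nat_lit 0], .sub (nat_lit 8) [] [], .rel (nat_lit 79) (nat_lit 4) [nat_lit 6, nat_lit 4, nat_lit 7, nat_lit 5, nat_lit 7], .rel (nat_lit 91) (nat_lit 7) [nat_lit 7, nat_lit 5, nat_lit 1, nat_lit 2, nat_lit 7, nat_lit 3, nat_lit 0], .rel (nat_lit 92) (nat_lit 7) [nat_lit 6, nat_lit 1, nat_lit 2, nat_lit 6, nat_lit 3, nat_lit 0, nat_lit 7], .rel (nat_lit 95) (nat_lit 3) [nat_lit 7, nat_lit 5, nat_lit 1, nat_lit 6, nat_lit 2, nat_lit 7, nat_lit 0], .rel (nat_lit 108) (nat_lit 8) [nat_lit 3, nat_lit 5, nat_lit 0, nat_lit 5, nat_lit 1, nat_lit 2, nat_lit 0, nat_lit 4, nat_lit 1], .rel (nat_lit 109) (nat_lit 9) [nat_lit 2, nat_lit 5, nat_lit 0, nat_lit 5, nat_lit 1, nat_lit 3, nat_lit 0, nat_lit 4, nat_lit 1], .rel (nat_lit 126) (nat_lit 4) [nat_lit 2, nat_lit 6, nat_lit 1, nat_lit 2, nat_lit 6, nat_lit 3, nat_lit 0, nat_lit 7, nat_lit 3], .rel (nat_lit 134) (nat_lit 3) [nat_lit 6, nat_lit 5, nat_lit 1, nat_lit 3, nat_lit 7, nat_lit 3,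 nat_lit 6, nat_lit 2, nat_lit 0], .rel (nat_lit 136) (nat_lit 3) [nat_lit 2, nat_lit 5, nat_lit 7, nat_lit 0, nat_lit 7, nat_lit 5, nat_lit 6, nat_lit 1, nat_lit 6], .rel (nat_lit 146) (nat_lit 4) [nat_lit 7, nat_lit 2, nat_lit 5, nat_lit 7, nat_lit 2, nat_lit 6, nat_lit 4, nat_lit 3, nat_lit 6], .rel (nat_lit 156) (nat_lit 1) [nat_lit 6, nat_lit 1, nat_lit 8, nat_lit 0, nat_lit 7, nat_lit 5, nat_lit 0, nat_lit 9, nat_lit 1], .rel (nat_lit 157) (nat_lit 2) [nat_lit 6, nat_lit 1, nat_lit 9, nat_lit 0, nat_lit 7, nat_lit 5, nat_lit 0, nat_lit 8, nat_lit 1], .rel (nat_lit 174) (nat_lit 2) [nat_lit 0, nat_lit 8, nat_lit 1, nat_lit 5, nat_lit 7, nat_lit 2, nat_lit 8, nat_lit 3, nat_lit 6], .rel (nat_lit 181) (nat_lit 0) [nat_lit 3, nat_lit 1, nat_lit 9, nat_lit 0, nat_lit 5, nat_lit 1, nat_lit 8, nat_lit 0, nat_lit 2], .rel (nat_lit 191) (nat_lit 10) [nat_lit 0, nat_lit 3, nat_lit 1, nat_lit 5, nat_lit 1, nat_lit 1, nat_lit 1, nat_lit 5, nat_lit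 0, nat_lit 0, nat_lit 0], .rel (nat_lit 192) (nat_lit 5) [nat_lit 0, nat_lit 0, nat_lit 2, nat_lit 4, nat_lit 0, nat_lit 3, nat_lit 1, nat_lit 5, nat_lit 3, nat_lit 1, nat_lit 1]],
  [.rel (nat_lit 8) (nat_lit 1) [nat_lit 4], .rel (nat_lit 70) (nat_lit 3) [nat_lit 3, nat_lit 4, nat_lit 2], .rel (nat_lit 72) (nat_lit 0) [nat_lit 8, nat_lit 4, nat_lit 9], .rel (nat_lit 25) (nat_lit 0) [nat_lit 5, nat_lit 5], .rel (nat_lit 73) (nat_lit 1) [nat_lit 9, nat_lit 4, nat_lit 8], .rel (nat_lit 86) (nat_lit 1) [nat_lit 1, nat_lit 2, nat_lit 0, nat_lit 4, nat_lit 1, nat_lit 3, nat_lit 0], .defn, .rel (nat_lit 71) (nat_lit 2) [nat_lit 2, nat_lit 4, nat_lit 3], .rel (nat_lit 98) (nat_lit 1) [nat_lit 1, nat_lit 8, nat_lit 0, nat_lit 4, nat_lit 1, nat_lit 9, nat_lit 0], .rel (nat_lit 78) (nat_lit 5) [nat_lit 7, nat_lit 5, nat_lit 6, nat_lit 4, nat_lit 6], .rel (nat_lit 156) (nat_lit 7) [nat_lit 0, nat_lit 9, nat_lit 1, nat_lit 4, nat_lit 6, nat_lit 1, nat_lit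 8, nat_lit 0, nat_lit 7], .rel (nat_lit 174) (nat_lit 6) [nat_lit 7, nat_lit 2, nat_lit 8, nat_lit 3, nat_lit 6, nat_lit 4, nat_lit 0, nat_lit 8, nat_lit 1], .sub (nat_lit 10) [] [], .rel (nat_lit 90) (nat_lit 0) [nat_lit 1, nat_lit 2, nat_lit 6, nat_lit 3, nat_lit 0, nat_lit 4, nat_lit 6], .rel (nat_lit 91) (nat_lit 1) [nat_lit 1, nat_lit 2, nat_lit 7, nat_lit 3, nat_lit 0, nat_lit 4, nat_lit 7], .rel (nat_lit 93) (nat_lit 0) [nat_lit 6, nat_lit 1, nat_lit 2, nat_lit 7, nat_lit 3, nat_lit 0, nat_lit 7], .rel (nat_lit 110) (nat_lit 8) [nat_lit 3, nat_lit 4, nat_lit 0, nat_lit 5, nat_lit 1, nat_lit 2, nat_lit 0, nat_lit 4, nat_lit 1], .rel (nat_lit 132) (nat_lit 3) [nat_lit 2, nat_lit 4, nat_lit 7, nat_lit 0, nat_lit 7, nat_lit 5, nat_lit 6, nat_lit 1, nat_lit 6], .rel (nat_lit 143) (nat_lit 5) [nat_lit 6, nat_lit 3, nat_lit 4, nat_lit 6, nat_lit 3, nat_lit 7, nat_lit 5, nat_lit 2, nat_lit 7], .rel (nat_lit 200) (nat_lit 11) [nat_lit 1, nat_lit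 5, nat_lit 0, nat_lit 5, nat_lit 1, nat_lit 4, nat_lit 0, nat_lit 4, nat_lit 1, nat_lit 4, nat_lit 0]],
  [.rel (nat_lit 12) (nat_lit 0) [nat_lit 7], .rel (nat_lit 74) (nat_lit 2) [nat_lit 9, nat_lit 7, nat_lit 8], .defn, .rel (nat_lit 88) (nat_lit 3) [nat_lit 0, nat_lit 6, nat_lit 1, nat_lit 7, nat_lit 0, nat_lit 7, nat_lit 1], .rel (nat_lit 75) (nat_lit 3) [nat_lit 8, nat_lit 7, nat_lit 9], .rel (nat_lit 76) (nat_lit 2) [nat_lit 2, nat_lit 7, nat_lit 2, nat_lit 6, nat_lit 3], .rel (nat_lit 26) (nat_lit 0) [nat_lit 6, nat_lit 6], .rel (nat_lit 88) (nat_lit 5) [nat_lit 1, nat_lit 7, nat_lit 0, nat_lit 7, nat_lit 1, nat_lit 6, nat_lit 0], .rel (nat_lit 76) (nat_lit 0) [nat_lit 3, nat_lit 6, nat_lit 2, nat_lit 7, nat_lit 2], .rel (nat_lit 77) (nat_lit 1) [nat_lit 3, nat_lit 7, nat_lit 2, nat_lit 7, nat_lit 3], .rel (nat_lit 78) (nat_lit 2) [nat_lit 4, nat_lit 6, nat_lit 5, nat_lit 7, nat_lit 5], .rel (nat_lit 78) (nat_lit 4) [nat_lit 5, nat_lit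 7, nat_lit 5, nat_lit 6, nat_lit 4], .rel (nat_lit 95) (nat_lit 7) [nat_lit 2, nat_lit 7, nat_lit 0, nat_lit 4, nat_lit 7, nat_lit 5, nat_lit 1], .sub (nat_lit 12) [] [], .rel (nat_lit 79) (nat_lit 5) [nat_lit 4, nat_lit 7, nat_lit 5, nat_lit 7, nat_lit 4], .rel (nat_lit 89) (nat_lit 6) [nat_lit 1, nat_lit 6, nat_lit 0, nat_lit 7, nat_lit 1, nat_lit 7, nat_lit 0], .rel (nat_lit 94) (nat_lit 6) [nat_lit 3, nat_lit 7, nat_lit 0, nat_lit 4, nat_lit 6, nat_lit 5, nat_lit 1], .rel (nat_lit 96) (nat_lit 6) [nat_lit 3, nat_lit 7, nat_lit 0, nat_lit 7, nat_lit 4, nat_lit 6, nat_lit 1], .rel (nat_lit 102) (nat_lit 3) [nat_lit 0, nat_lit 8, nat_lit 1, nat_lit 7, nat_lit 0, nat_lit 9, nat_lit 1], .rel (nat_lit 116) (nat_lit 4) [nat_lit 0, nat_lit 3, nat_lit 0, nat_lit 3, nat_lit 6, nat_lit 2, nat_lit 1, nat_lit 2, nat_lit 1], .rel (nat_lit 126) (nat_lit 6) [nat_lit 1, nat_lit 2, nat_lit 6, nat_lit 3, nat_lit 0, nat_lit 7, nat_lit 3, nat_lit 4, nat_lit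 2], .rel (nat_lit 140) (nat_lit 0) [nat_lit 5, nat_lit 3, nat_lit 7, nat_lit 4, nat_lit 6, nat_lit 2, nat_lit 4, nat_lit 7, nat_lit 2], .rel (nat_lit 163) (nat_lit 0) [nat_lit 9, nat_lit 0, nat_lit 9, nat_lit 1, nat_lit 7, nat_lit 0, nat_lit 8, nat_lit 1, nat_lit 8], .rel (nat_lit 175) (nat_lit 2) [nat_lit 4, nat_lit 0, nat_lit 9, nat_lit 1, nat_lit 5, nat_lit 7, nat_lit 2, nat_lit 9, nat_lit 3]],
  [.rel (nat_lit 12) (nat_lit 1) [nat_lit 6], .rel (nat_lit 74) (nat_lit 0) [nat_lit 8, nat_lit 6, nat_lit 9], .defn, .rel (nat_lit 27) (nat_lit 0) [nat_lit 7, nat_lit 7], .rel (nat_lit 75) (nat_lit 1) [nat_lit 9, nat_lit 6, nat_lit 8], .rel (nat_lit 88) (nat_lit 7) [nat_lit 0, nat_lit 7, nat_lit 1, nat_lit 6, nat_lit 0, nat_lit 6, nat_lit 1], .rel (nat_lit 77) (nat_lit 3) [nat_lit 2, nat_lit 7, nat_lit 3, nat_lit 6, nat_lit 3], .rel (nat_lit 102) (nat_lit 7) [nat_lit 0, nat_lit 9, nat_lit 1, nat_lit 6, nat_lit 0, nat_lit 8, nat_lit 1], .rel (nat_lit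 88) (nat_lit 1) [nat_lit 1, nat_lit 6, nat_lit 0, nat_lit 6, nat_lit 1, nat_lit 7, nat_lit 0], .rel (nat_lit 89) (nat_lit 2) [nat_lit 1, nat_lit 7, nat_lit 0, nat_lit 6, nat_lit 1, nat_lit 6, nat_lit 0], .sub (nat_lit 14) [] [], .rel (nat_lit 76) (nat_lit 4) [nat_lit 2, nat_lit 6, nat_lit 3, nat_lit 6, nat_lit 2], .rel (nat_lit 77) (nat_lit 5) [nat_lit 3, nat_lit 6, nat_lit 3, nat_lit 7, nat_lit 2], .rel (nat_lit 79) (nat_lit 1) [nat_lit 5, nat_lit 7, nat_lit 4, nat_lit 6, nat_lit 4], .rel (nat_lit 95) (nat_lit 1) [nat_lit 0, nat_lit 4, nat_lit 7, nat_lit 5, nat_lit 1, nat_lit 6, nat_lit 2], .rel (nat_lit 117) (nat_lit 5) [nat_lit 0, nat_lit 3, nat_lit 0, nat_lit 3, nat_lit 7, nat_lit 2, nat_lit 1, nat_lit 2, nat_lit 1], .rel (nat_lit 120) (nat_lit 1) [nat_lit 5, nat_lit 1, nat_lit 6, nat_lit 0, nat_lit 4, nat_lit 6, nat_lit 1, nat_lit 2, nat_lit 0], .rel (nat_lit 125) (nat_lit 3) [nat_lit 3, nat_lit 7, nat_lit 2, nat_lit 6, nat_lit 0, nat_lit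 4, nat_lit 7, nat_lit 5, nat_lit 1], .rel (nat_lit 138) (nat_lit 6) [nat_lit 3, nat_lit 7, nat_lit 3, nat_lit 6, nat_lit 2, nat_lit 6, nat_lit 4, nat_lit 2, nat_lit 5], .rel (nat_lit 174) (nat_lit 7) [nat_lit 2, nat_lit 8, nat_lit 3, nat_lit 6, nat_lit 4, nat_lit 0, nat_lit 8, nat_lit 1, nat_lit 5]],
  [.rel (nat_lit 16) (nat_lit 0) [nat_lit 9], .defn, .rel (nat_lit 28) (nat_lit 0) [nat_lit 8, nat_lit 8], .rel (nat_lit 84) (nat_lit 4) [nat_lit 5, nat_lit 9, nat_lit 2, nat_lit 4, nat_lit 3], .rel (nat_lit 98) (nat_lit 3) [nat_lit 0, nat_lit 4, nat_lit 1, nat_lit 9, nat_lit 0, nat_lit 5, nat_lit 1], .rel (nat_lit 80) (nat_lit 4) [nat_lit 5, nat_lit 9, nat_lit 3, nat_lit 4, nat_lit 2], .rel (nat_lit 72) (nat_lit 1) [nat_lit 4, nat_lit 9, nat_lit 5], .rel (nat_lit 74) (nat_lit 1) [nat_lit 6, nat_lit 9, nat_lit 7], .rel (nat_lit 102) (nat_lit 5) [nat_lit 1, nat_lit 7, nat_lit 0, nat_lit 9, nat_lit 1, nat_lit 6, nat_lit 0], .rel (nat_lit 186) (nat_lit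 8) [nat_lit 3, nat_lit 9, nat_lit 3, nat_lit 9, nat_lit 3, nat_lit 8, nat_lit 2, nat_lit 8, nat_lit 2], .rel (nat_lit 209) (nat_lit 9) [nat_lit 0, nat_lit 2, nat_lit 8, nat_lit 1, nat_lit 6, nat_lit 0, nat_lit 4, nat_lit 1, nat_lit 6, nat_lit 9, nat_lit 0, nat_lit 3, nat_lit 9, nat_lit 4, nat_lit 1], .rel (nat_lit 100) (nat_lit 5) [nat_lit 1, nat_lit 3, nat_lit 0, nat_lit 9, nat_lit 1, nat_lit 2, nat_lit 0], .rel (nat_lit 101) (nat_lit 6) [nat_lit 1, nat_lit 2, nat_lit 0, nat_lit 9, nat_lit 1, nat_lit 3, nat_lit 0], .rel (nat_lit 103) (nat_lit 6) [nat_lit 1, nat_lit 6, nat_lit 0, nat_lit 9, nat_lit 1, nat_lit 7, nat_lit 0], .rel (nat_lit 105) (nat_lit 5) [nat_lit 2, nat_lit 8, nat_lit 4, nat_lit 9, nat_lit 3, nat_lit 9, nat_lit 5], .rel (nat_lit 170) (nat_lit 4) [nat_lit 1, nat_lit 3, nat_lit 7, nat_lit 0, nat_lit 9, nat_lit 1, nat_lit 6, nat_lit 2, nat_lit 0], .rel (nat_lit 177) (nat_lit 0) [nat_lit 4, nat_lit 1, nat_lit 7, nat_lit 0, nat_lit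 9, nat_lit 1, nat_lit 6, nat_lit 0, nat_lit 5], .rel (nat_lit 178) (nat_lit 4) [nat_lit 1, nat_lit 7, nat_lit 0, nat_lit 7, nat_lit 9, nat_lit 6, nat_lit 1, nat_lit 6, nat_lit 0], .rel (nat_lit 186) (nat_lit 6) [nat_lit 2, nat_lit 8, nat_lit 3, nat_lit 9, nat_lit 3, nat_lit 9, nat_lit 3, nat_lit 8, nat_lit 2], .rel (nat_lit 188) (nat_lit 4) [nat_lit 2, nat_lit 9, nat_lit 2, nat_lit 9, nat_lit 2, nat_lit 8, nat_lit 3, nat_lit 8, nat_lit 3], .rel (nat_lit 208) (nat_lit 9) [nat_lit 2, nat_lit 1, nat_lit 8, nat_lit 7, nat_lit 0, nat_lit 5, nat_lit 1, nat_lit 7, nat_lit 0, nat_lit 9, nat_lit 3, nat_lit 1, nat_lit 9, nat_lit 0, nat_lit 5]],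
  [.rel (nat_lit 16) (nat_lit 1) [nat_lit 8], .defn, .rel (nat_lit 29) (nat_lit 0) [nat_lit 9, nat_lit 9], .rel (nat_lit 74) (nat_lit 3) [nat_lit 7, nat_lit 8, nat_lit 6], .rel (nat_lit 72) (nat_lit 3) [nat_lit 5, nat_lit 8, nat_lit 4], .rel (nat_lit 98) (nat_lit 7) [nat_lit 0, nat_lit 5, nat_lit 1, nat_lit 8, nat_lit 0, nat_lit 4, nat_lit 1], .rel (nat_lit 100) (nat_lit 1) [nat_lit 1, nat_lit 2, nat_lit 0, nat_lit 8, nat_lit 1, nat_lit 3, nat_lit 0], .rel (nat_lit 102) (nat_lit 1) [nat_lit 1, nat_lit 6, nat_lit 0, nat_lit 8, nat_lit 1, nat_lit 7, nat_lit 0], .rel (nat_lit 73) (nat_lit 2) [nat_lit 4, nat_lit 8, nat_lit 5], .rel (nat_lit 75) (nat_lit 2) [nat_lit 6, nat_lit 8, nat_lit 7], .rel (nat_lit 104) (nat_lit 2) [nat_lit 4, nat_lit 8, nat_lit 2, nat_lit 8, nat_lit 5, nat_lit 9, nat_lit 3], .rel (nat_lit 107) (nat_lit 7) [nat_lit 4, nat_lit 8, nat_lit 3, nat_lit 9, nat_lit 5, nat_lit 8, nat_lit 2], .rel (nat_lit 148) (nat_lit 9) [nat_lit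 2, nat_lit 1, nat_lit 2, nat_lit 1, nat_lit 8, nat_lit 0, nat_lit 3, nat_lit 0, nat_lit 3], .rel (nat_lit 163) (nat_lit 1) [nat_lit 0, nat_lit 9, nat_lit 1, nat_lit 7, nat_lit 0, nat_lit 8, nat_lit 1, nat_lit 8, nat_lit 6], .rel (nat_lit 175) (nat_lit 5) [nat_lit 1, nat_lit 5, nat_lit 7, nat_lit 2, nat_lit 9, nat_lit 3, nat_lit 6, nat_lit 4, nat_lit 0], .rel (nat_lit 176) (nat_lit 9) [nat_lit 4, nat_lit 1, nat_lit 7, nat_lit 0, nat_lit 8, nat_lit 1, nat_lit 6, nat_lit 0, nat_lit 5], .rel (nat_lit 186) (nat_lit 2) [nat_lit 3, nat_lit 8, nat_lit 2, nat_lit 8, nat_lit 2, nat_lit 8, nat_lit 3, nat_lit 9, nat_lit 3], .rel (nat_lit 208) (nat_lit 6) [nat_lit 0, nat_lit 5, nat_lit 8, nat_lit 2, nat_lit 1, nat_lit 8, nat_lit 7, nat_lit 0, nat_lit 5, nat_lit 1, nat_lit 7, nat_lit 0, nat_lit 9, nat_lit 3, nat_lit 1]]]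
noncomputable def cO10 : TCert2 := ⟨120, 120, 191, 10, 255, 2047, 2, TO10, IO10, DO10, EO10, JO10, WO10, [[nat_lit 0],
  [nat_lit 1],
  [nat_lit 2],
  [nat_lit 3],
  [nat_lit 4],
  [nat_lit 5],
  [nat_lit 6],
  [nat_lit 7]], RLO10⟩
noncomputable def RH : List (List ℕ) := [[nat_lit 12, nat_lit 13],
  [nat_lit 0, nat_lit 0],
  [nat_lit 1, nat_lit 1],
  [nat_lit 2, nat_lit 2],
  [nat_lit 3, nat_lit 3],
  [nat_lit 4, nat_lit 4],
  [nat_lit 5, nat_lit 5],
  [nat_lit 6, nat_lit 6],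
  [nat_lit 7, nat_lit 7],
  [nat_lit 9, nat_lit 9],
  [nat_lit 10, nat_lit 10],
  [nat_lit 11, nat_lit 11],
  [nat_lit 0, nat_lit 2, nat_lit 0, nat_lit 2],
  [nat_lit 0, nat_lit 3, nat_lit 0, nat_lit 3],
  [nat_lit 0, nat_lit 4, nat_lit 0, nat_lit 4],
  [nat_lit 1, nat_lit 4, nat_lit 1, nat_lit 4],
  [nat_lit 1, nat_lit 7, nat_lit 1, nat_lit 7],
  [nat_lit 2, nat_lit 3, nat_lit 2, nat_lit 3],
  [nat_lit 2, nat_lit 4, nat_lit 2, nat_lit 4],
  [nat_lit 2, nat_lit 5, nat_lit 2, nat_lit 5],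
  [nat_lit 3, nat_lit 5, nat_lit 3, nat_lit 5],
  [nat_lit 4, nat_lit 5, nat_lit 4, nat_lit 5],
  [nat_lit 4, nat_lit 6, nat_lit 4, nat_lit 6],
  [nat_lit 4, nat_lit 7, nat_lit 4, nat_lit 7],
  [nat_lit 2, nat_lit 3, nat_lit 4, nat_lit 3, nat_lit 4],
  [nat_lit 0, nat_lit 5, nat_lit 0, nat_lit 5, nat_lit 0, nat_lit 5],
  [nat_lit 0, nat_lit 6, nat_lit 5, nat_lit 1, nat_lit 5, nat_lit 6],
  [nat_lit 1, nat_lit 6, nat_lit 1, nat_lit 6, nat_lit 1, nat_lit 6],
  [nat_lit 3, nat_lit 7, nat_lit 3, nat_lit 7, nat_lit 3, nat_lit 7],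
  [nat_lit 5, nat_lit 6, nat_lit 5, nat_lit 6, nat_lit 5, nat_lit 6],
  [nat_lit 0, nat_lit 1, nat_lit 0, nat_lit 1, nat_lit 5, nat_lit 1, nat_lit 5],
  [nat_lit 1, nat_lit 2, nat_lit 1, nat_lit 2, nat_lit 6, nat_lit 2, nat_lit 6],
  [nat_lit 1, nat_lit 2, nat_lit 1, nat_lit 4, nat_lit 7, nat_lit 2, nat_lit 7],
  [nat_lit 1, nat_lit 3, nat_lit 1, nat_lit 3, nat_lit 6, nat_lit 3, nat_lit 6],
  [nat_lit 1, nat_lit 4, nat_lit 5, nat_lit 1, nat_lit 7, nat_lit 5, nat_lit 7],
  [nat_lit 0, nat_lit 1, nat_lit 0, nat_lit 4, nat_lit 5, nat_lit 7, nat_lit 5, nat_lit 7],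
  [nat_lit 0, nat_lit 1, nat_lit 0, nat_lit 7, nat_lit 0, nat_lit 1, nat_lit 0, nat_lit 7],
  [nat_lit 0, nat_lit 1, nat_lit 2, nat_lit 7, nat_lit 0, nat_lit 1, nat_lit 2, nat_lit 7],
  [nat_lit 0, nat_lit 1, nat_lit 5, nat_lit 0, nat_lit 5, nat_lit 1, nat_lit 0, nat_lit 5],
  [nat_lit 0, nat_lit 1, nat_lit 6, nat_lit 1, nat_lit 0, nat_lit 1, nat_lit 6, nat_lit 1],
  [nat_lit 0, nat_lit 6, nat_lit 7, nat_lit 5, nat_lit 1, nat_lit 5, nat_lit 7, nat_lit 6],
  [nat_lit 0, nat_lit 7, nat_lit 0, nat_lit 7, nat_lit 0, nat_lit 7, nat_lit 0, nat_lit 7],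
  [nat_lit 0, nat_lit 7, nat_lit 6, nat_lit 7, nat_lit 0, nat_lit 7, nat_lit 6, nat_lit 7],
  [nat_lit 1, nat_lit 2, nat_lit 1, nat_lit 3, nat_lit 1, nat_lit 2, nat_lit 1, nat_lit 3],
  [nat_lit 1, nat_lit 2, nat_lit 5, nat_lit 1, nat_lit 7, nat_lit 2, nat_lit 5, nat_lit 7],
  [nat_lit 1, nat_lit 2, nat_lit 6, nat_lit 1, nat_lit 6, nat_lit 2, nat_lit 1, nat_lit 6],
  [nat_lit 1, nat_lit 2, nat_lit 7, nat_lit 2, nat_lit 1, nat_lit 2, nat_lit 7, nat_lit 2],
  [nat_lit 1, nat_lit 3, nat_lit 6, nat_lit 1, nat_lit 6, nat_lit 3, nat_lit 1, nat_lit 6],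
  [nat_lit 2, nat_lit 4, nat_lit 6, nat_lit 2, nat_lit 6, nat_lit 7, nat_lit 2, nat_lit 7],
  [nat_lit 2, nat_lit 6, nat_lit 3, nat_lit 6, nat_lit 2, nat_lit 6, nat_lit 3, nat_lit 6],
  [nat_lit 2, nat_lit 6, nat_lit 7, nat_lit 6, nat_lit 2, nat_lit 6, nat_lit 7, nat_lit 6],
  [nat_lit 2, nat_lit 7, nat_lit 2, nat_lit 7, nat_lit 2, nat_lit 7, nat_lit 2, nat_lit 7],
  [nat_lit 2, nat_lit 7, nat_lit 6, nat_lit 7, nat_lit 2, nat_lit 7, nat_lit 6, nat_lit 7],
  [nat_lit 0, nat_lit 4, nat_lit 6, nat_lit 1, nat_lit 5, nat_lit 7, nat_lit 5, nat_lit 7, nat_lit 6],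
  [nat_lit 0, nat_lit 4, nat_lit 6, nat_lit 7, nat_lit 1, nat_lit 5, nat_lit 7, nat_lit 5, nat_lit 6],
  [nat_lit 2, nat_lit 3, nat_lit 7, nat_lit 2, nat_lit 3, nat_lit 7, nat_lit 3, nat_lit 2, nat_lit 7],
  [nat_lit 2, nat_lit 3, nat_lit 7, nat_lit 4, nat_lit 3, nat_lit 7, nat_lit 3, nat_lit 4, nat_lit 7],
  [nat_lit 2, nat_lit 4, nat_lit 6, nat_lit 3, nat_lit 7, nat_lit 2, nat_lit 7, nat_lit 3, nat_lit 6],
  [nat_lit 0, nat_lit 1, nat_lit 0, nat_lit 2, nat_lit 1, nat_lit 0, nat_lit 7, nat_lit 0, nat_lit 2, nat_lit 7],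
  [nat_lit 0, nat_lit 1, nat_lit 2, nat_lit 0, nat_lit 1, nat_lit 2, nat_lit 6, nat_lit 0, nat_lit 2, nat_lit 6],
  [nat_lit 0, nat_lit 1, nat_lit 2, nat_lit 5, nat_lit 7, nat_lit 2, nat_lit 5, nat_lit 0, nat_lit 7, nat_lit 4],
  [nat_lit 0, nat_lit 1, nat_lit 2, nat_lit 5, nat_lit 7, nat_lit 5, nat_lit 2, nat_lit 0, nat_lit 4, nat_lit 7],
  [nat_lit 0, nat_lit 1, nat_lit 3, nat_lit 0, nat_lit 1, nat_lit 3, nat_lit 6, nat_lit 0, nat_lit 3, nat_lit 6],
  [nat_lit 0, nat_lit 1, nat_lit 3, nat_lit 0, nat_lit 5, nat_lit 3, nat_lit 7, nat_lit 5, nat_lit 4, nat_lit 7],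
  [nat_lit 0, nat_lit 1, nat_lit 4, nat_lit 6, nat_lit 1, nat_lit 0, nat_lit 6, nat_lit 1, nat_lit 6, nat_lit 4],
  [nat_lit 0, nat_lit 1, nat_lit 5, nat_lit 2, nat_lit 4, nat_lit 7, nat_lit 2, nat_lit 5, nat_lit 0, nat_lit 7],
  [nat_lit 0, nat_lit 1, nat_lit 5, nat_lit 2, nat_lit 7, nat_lit 2, nat_lit 5, nat_lit 0, nat_lit 4, nat_lit 7],
  [nat_lit 0, nat_lit 1, nat_lit 7, nat_lit 0, nat_lit 2, nat_lit 5, nat_lit 1, nat_lit 2, nat_lit 7, nat_lit 5],
  [nat_lit 0, nat_lit 2, nat_lit 4, nat_lit 5, nat_lit 1, nat_lit 2, nat_lit 5, nat_lit 7, nat_lit 0, nat_lit 7],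
  [nat_lit 0, nat_lit 2, nat_lit 5, nat_lit 0, nat_lit 7, nat_lit 0, nat_lit 5, nat_lit 0, nat_lit 2, nat_lit 7],
  [nat_lit 0, nat_lit 2, nat_lit 5, nat_lit 1, nat_lit 5, nat_lit 2, nat_lit 7, nat_lit 4, nat_lit 0, nat_lit 7],
  [nat_lit 0, nat_lit 2, nat_lit 5, nat_lit 7, nat_lit 5, nat_lit 0, nat_lit 5, nat_lit 2, nat_lit 7, nat_lit 5],
  [nat_lit 0, nat_lit 2, nat_lit 6, nat_lit 0, nat_lit 2, nat_lit 6, nat_lit 7, nat_lit 2, nat_lit 0, nat_lit 7],
  [nat_lit 0, nat_lit 2, nat_lit 6, nat_lit 0, nat_lit 6, nat_lit 2, nat_lit 7, nat_lit 0, nat_lit 4, nat_lit 7],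
  [nat_lit 0, nat_lit 2, nat_lit 6, nat_lit 5, nat_lit 0, nat_lit 7, nat_lit 0, nat_lit 5, nat_lit 7, nat_lit 6],
  [nat_lit 0, nat_lit 2, nat_lit 7, nat_lit 0, nat_lit 7, nat_lit 4, nat_lit 5, nat_lit 2, nat_lit 1, nat_lit 5],
  [nat_lit 0, nat_lit 4, nat_lit 6, nat_lit 0, nat_lit 7, nat_lit 0, nat_lit 6, nat_lit 7, nat_lit 6, nat_lit 7],
  [nat_lit 0, nat_lit 4, nat_lit 6, nat_lit 7, nat_lit 6, nat_lit 7, nat_lit 0, nat_lit 6, nat_lit 0, nat_lit 7],
  [nat_lit 0, nat_lit 6, nat_lit 2, nat_lit 7, nat_lit 6, nat_lit 0, nat_lit 7, nat_lit 2, nat_lit 6, nat_lit 7],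
  [nat_lit 1, nat_lit 2, nat_lit 3, nat_lit 1, nat_lit 2, nat_lit 6, nat_lit 3, nat_lit 2, nat_lit 6, nat_lit 3],
  [nat_lit 1, nat_lit 2, nat_lit 3, nat_lit 1, nat_lit 6, nat_lit 2, nat_lit 3, nat_lit 6, nat_lit 3, nat_lit 2],
  [nat_lit 1, nat_lit 2, nat_lit 3, nat_lit 1, nat_lit 6, nat_lit 4, nat_lit 3, nat_lit 6, nat_lit 3, nat_lit 4],
  [nat_lit 1, nat_lit 2, nat_lit 4, nat_lit 1, nat_lit 3, nat_lit 2, nat_lit 7, nat_lit 2, nat_lit 7, nat_lit 3],
  [nat_lit 1, nat_lit 2, nat_lit 6, nat_lit 1, nat_lit 3, nat_lit 6, nat_lit 2, nat_lit 1, nat_lit 6, nat_lit 3],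
  [nat_lit 1, nat_lit 2, nat_lit 6, nat_lit 3, nat_lit 4, nat_lit 6, nat_lit 3, nat_lit 4, nat_lit 1, nat_lit 3],
  [nat_lit 1, nat_lit 2, nat_lit 6, nat_lit 3, nat_lit 6, nat_lit 4, nat_lit 3, nat_lit 1, nat_lit 4, nat_lit 3],
  [nat_lit 1, nat_lit 5, nat_lit 1, nat_lit 7, nat_lit 2, nat_lit 3, nat_lit 5, nat_lit 4, nat_lit 3, nat_lit 7],
  [nat_lit 1, nat_lit 6, nat_lit 2, nat_lit 3, nat_lit 7, nat_lit 6, nat_lit 7, nat_lit 3, nat_lit 6, nat_lit 7],
  [nat_lit 1, nat_lit 6, nat_lit 3, nat_lit 7, nat_lit 6, nat_lit 7, nat_lit 2, nat_lit 3, nat_lit 6, nat_lit 7],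
  [nat_lit 0, nat_lit 1, nat_lit 3, nat_lit 2, nat_lit 0, nat_lit 4, nat_lit 3, nat_lit 7, nat_lit 5, nat_lit 7, nat_lit 5],
  [nat_lit 0, nat_lit 1, nat_lit 4, nat_lit 6, nat_lit 7, nat_lit 6, nat_lit 7, nat_lit 6, nat_lit 0, nat_lit 1, nat_lit 7],
  [nat_lit 0, nat_lit 1, nat_lit 4, nat_lit 7, nat_lit 0, nat_lit 5, nat_lit 1, nat_lit 2, nat_lit 7, nat_lit 2, nat_lit 5],
  [nat_lit 0, nat_lit 1, nat_lit 6, nat_lit 7, nat_lit 0, nat_lit 6, nat_lit 4, nat_lit 7, nat_lit 6, nat_lit 1, nat_lit 7],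
  [nat_lit 0, nat_lit 1, nat_lit 6, nat_lit 7, nat_lit 4, nat_lit 0, nat_lit 6, nat_lit 7, nat_lit 6, nat_lit 7, nat_lit 1],
  [nat_lit 0, nat_lit 1, nat_lit 7, nat_lit 0, nat_lit 5, nat_lit 1, nat_lit 2, nat_lit 4, nat_lit 7, nat_lit 5, nat_lit 2],
  [nat_lit 0, nat_lit 4, nat_lit 1, nat_lit 6, nat_lit 7, nat_lit 0, nat_lit 6, nat_lit 7, nat_lit 6, nat_lit 1, nat_lit 7],
  [nat_lit 0, nat_lit 5, nat_lit 1, nat_lit 4, nat_lit 6, nat_lit 2, nat_lit 6, nat_lit 5, nat_lit 7, nat_lit 0, nat_lit 7],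
  [nat_lit 0, nat_lit 5, nat_lit 6, nat_lit 2, nat_lit 5, nat_lit 6, nat_lit 2, nat_lit 1, nat_lit 5, nat_lit 2, nat_lit 6],
  [nat_lit 1, nat_lit 2, nat_lit 7, nat_lit 6, nat_lit 3, nat_lit 7, nat_lit 2, nat_lit 6, nat_lit 7, nat_lit 3, nat_lit 6],
  [nat_lit 1, nat_lit 4, nat_lit 6, nat_lit 3, nat_lit 7, nat_lit 6, nat_lit 4, nat_lit 7, nat_lit 3, nat_lit 6, nat_lit 7],
  [nat_lit 1, nat_lit 6, nat_lit 3, nat_lit 4, nat_lit 7, nat_lit 6, nat_lit 7, nat_lit 3, nat_lit 4, nat_lit 6, nat_lit 7],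
  [nat_lit 0, nat_lit 1, nat_lit 0, nat_lit 2, nat_lit 1, nat_lit 4, nat_lit 6, nat_lit 7, nat_lit 2, nat_lit 7, nat_lit 0, nat_lit 6],
  [nat_lit 0, nat_lit 1, nat_lit 2, nat_lit 4, nat_lit 7, nat_lit 0, nat_lit 6, nat_lit 2, nat_lit 6, nat_lit 7, nat_lit 1, nat_lit 2],
  [nat_lit 0, nat_lit 1, nat_lit 3, nat_lit 5, nat_lit 6, nat_lit 2, nat_lit 6, nat_lit 3, nat_lit 7, nat_lit 5, nat_lit 0, nat_lit 7],
  [nat_lit 0, nat_lit 1, nat_lit 6, nat_lit 0, nat_lit 6, nat_lit 0, nat_lit 2, nat_lit 1, nat_lit 7, nat_lit 4, nat_lit 2, nat_lit 7],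
  [nat_lit 0, nat_lit 1, nat_lit 6, nat_lit 7, nat_lit 2, nat_lit 6, nat_lit 7, nat_lit 6, nat_lit 0, nat_lit 7, nat_lit 1, nat_lit 2],
  [nat_lit 0, nat_lit 1, nat_lit 6, nat_lit 7, nat_lit 6, nat_lit 5, nat_lit 7, nat_lit 5, nat_lit 6, nat_lit 1, nat_lit 6, nat_lit 7],
  [nat_lit 0, nat_lit 1, nat_lit 7, nat_lit 0, nat_lit 3, nat_lit 7, nat_lit 1, nat_lit 3, nat_lit 1, nat_lit 2, nat_lit 7, nat_lit 3],
  [nat_lit 0, nat_lit 1, nat_lit 7, nat_lit 0, nat_lit 5, nat_lit 6, nat_lit 4, nat_lit 0, nat_lit 2, nat_lit 6, nat_lit 5, nat_lit 7],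
  [nat_lit 0, nat_lit 1, nat_lit 7, nat_lit 0, nat_lit 6, nat_lit 3, nat_lit 4, nat_lit 6, nat_lit 7, nat_lit 6, nat_lit 3, nat_lit 6],
  [nat_lit 0, nat_lit 3, nat_lit 1, nat_lit 3, nat_lit 4, nat_lit 7, nat_lit 6, nat_lit 3, nat_lit 0, nat_lit 6, nat_lit 0, nat_lit 7],
  [nat_lit 0, nat_lit 3, nat_lit 1, nat_lit 7, nat_lit 3, nat_lit 0, nat_lit 7, nat_lit 2, nat_lit 1, nat_lit 3, nat_lit 1, nat_lit 7],
  [nat_lit 0, nat_lit 3, nat_lit 6, nat_lit 5, nat_lit 7, nat_lit 5, nat_lit 6, nat_lit 3, nat_lit 7, nat_lit 6, nat_lit 7, nat_lit 4],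
  [nat_lit 1, nat_lit 2, nat_lit 3, nat_lit 6, nat_lit 7, nat_lit 6, nat_lit 3, nat_lit 7, nat_lit 6, nat_lit 1, nat_lit 7, nat_lit 6],
  [nat_lit 1, nat_lit 2, nat_lit 7, nat_lit 3, nat_lit 1, nat_lit 4, nat_lit 3, nat_lit 6, nat_lit 3, nat_lit 2, nat_lit 6, nat_lit 7],
  [nat_lit 1, nat_lit 3, nat_lit 6, nat_lit 7, nat_lit 6, nat_lit 7, nat_lit 3, nat_lit 6, nat_lit 2, nat_lit 7, nat_lit 3, nat_lit 4],
  [nat_lit 1, nat_lit 6, nat_lit 1, nat_lit 7, nat_lit 6, nat_lit 1, nat_lit 7, nat_lit 6, nat_lit 1, nat_lit 7, nat_lit 6, nat_lit 7],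
  [nat_lit 0, nat_lit 1, nat_lit 3, nat_lit 1, nat_lit 5, nat_lit 3, nat_lit 7, nat_lit 5, nat_lit 6, nat_lit 3, nat_lit 6, nat_lit 0, nat_lit 7],
  [nat_lit 0, nat_lit 2, nat_lit 4, nat_lit 5, nat_lit 0, nat_lit 7, nat_lit 5, nat_lit 3, nat_lit 0, nat_lit 4, nat_lit 3, nat_lit 5, nat_lit 7],
  [nat_lit 0, nat_lit 3, nat_lit 6, nat_lit 2, nat_lit 7, nat_lit 6, nat_lit 3, nat_lit 0, nat_lit 6, nat_lit 7, nat_lit 2, nat_lit 1, nat_lit 6],
  [nat_lit 0, nat_lit 5, nat_lit 1, nat_lit 7, nat_lit 6, nat_lit 5, nat_lit 2, nat_lit 6, nat_lit 1, nat_lit 5, nat_lit 6, nat_lit 1, nat_lit 7],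
  [nat_lit 0, nat_lit 5, nat_lit 6, nat_lit 1, nat_lit 5, nat_lit 7, nat_lit 0, nat_lit 6, nat_lit 7, nat_lit 6, nat_lit 5, nat_lit 7, nat_lit 6],
  [nat_lit 0, nat_lit 5, nat_lit 6, nat_lit 5, nat_lit 7, nat_lit 4, nat_lit 2, nat_lit 7, nat_lit 6, nat_lit 1, nat_lit 2, nat_lit 5, nat_lit 6],
  [nat_lit 1, nat_lit 2, nat_lit 7, nat_lit 6, nat_lit 1, nat_lit 3, nat_lit 6, nat_lit 7, nat_lit 6, nat_lit 3, nat_lit 4, nat_lit 7, nat_lit 6],
  [nat_lit 1, nat_lit 3, nat_lit 6, nat_lit 7, nat_lit 4, nat_lit 1, nat_lit 6, nat_lit 3, nat_lit 7, nat_lit 6, nat_lit 1, nat_lit 4, nat_lit 7],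
  [nat_lit 2, nat_lit 4, nat_lit 7, nat_lit 5, nat_lit 6, nat_lit 7, nat_lit 6, nat_lit 2, nat_lit 7, nat_lit 6, nat_lit 7, nat_lit 5, nat_lit 7],
  [nat_lit 0, nat_lit 1, nat_lit 3, nat_lit 0, nat_lit 7, nat_lit 0, nat_lit 6, nat_lit 3, nat_lit 7, nat_lit 6, nat_lit 0, nat_lit 7, nat_lit 6, nat_lit 3],
  [nat_lit 0, nat_lit 1, nat_lit 6, nat_lit 7, nat_lit 2, nat_lit 6, nat_lit 0, nat_lit 6, nat_lit 7, nat_lit 0, nat_lit 6, nat_lit 1, nat_lit 2, nat_lit 4],
  [nat_lit 0, nat_lit 1, nat_lit 7, nat_lit 0, nat_lit 3, nat_lit 7, nat_lit 3, nat_lit 6, nat_lit 2, nat_lit 3, nat_lit 6, nat_lit 7, nat_lit 3, nat_lit 4],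
  [nat_lit 0, nat_lit 2, nat_lit 6, nat_lit 3, nat_lit 5, nat_lit 7, nat_lit 6, nat_lit 2, nat_lit 3, nat_lit 6, nat_lit 7, nat_lit 5, nat_lit 3, nat_lit 6],
  [nat_lit 0, nat_lit 3, nat_lit 1, nat_lit 7, nat_lit 4, nat_lit 3, nat_lit 0, nat_lit 7, nat_lit 3, nat_lit 6, nat_lit 2, nat_lit 3, nat_lit 6, nat_lit 7],
  [nat_lit 1, nat_lit 2, nat_lit 3, nat_lit 7, nat_lit 1, nat_lit 6, nat_lit 2, nat_lit 7, nat_lit 3, nat_lit 6, nat_lit 1, nat_lit 7, nat_lit 3, nat_lit 6],
  [nat_lit 1, nat_lit 2, nat_lit 4, nat_lit 7, nat_lit 3, nat_lit 5, nat_lit 7, nat_lit 2, nat_lit 1, nat_lit 5, nat_lit 3, nat_lit 7, nat_lit 1, nat_lit 3],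
  [nat_lit 1, nat_lit 2, nat_lit 6, nat_lit 7, nat_lit 3, nat_lit 1, nat_lit 7, nat_lit 3, nat_lit 6, nat_lit 7, nat_lit 6, nat_lit 7, nat_lit 1, nat_lit 3],
  [nat_lit 1, nat_lit 2, nat_lit 6, nat_lit 7, nat_lit 3, nat_lit 7, nat_lit 1, nat_lit 3, nat_lit 6, nat_lit 7, nat_lit 6, nat_lit 1, nat_lit 7, nat_lit 3],
  [nat_lit 1, nat_lit 5, nat_lit 7, nat_lit 1, nat_lit 6, nat_lit 5, nat_lit 2, nat_lit 6, nat_lit 4, nat_lit 5, nat_lit 7, nat_lit 6, nat_lit 7, nat_lit 6],
  [nat_lit 0, nat_lit 1, nat_lit 3, nat_lit 5, nat_lit 6, nat_lit 5, nat_lit 0, nat_lit 5, nat_lit 6, nat_lit 3, nat_lit 7, nat_lit 5, nat_lit 7, nat_lit 4, nat_lit 6],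
  [nat_lit 0, nat_lit 1, nat_lit 3, nat_lit 6, nat_lit 7, nat_lit 6, nat_lit 2, nat_lit 3, nat_lit 7, nat_lit 6, nat_lit 5, nat_lit 7, nat_lit 5, nat_lit 6, nat_lit 4],
  [nat_lit 0, nat_lit 1, nat_lit 6, nat_lit 7, nat_lit 2, nat_lit 1, nat_lit 6, nat_lit 0, nat_lit 7, nat_lit 6, nat_lit 0, nat_lit 1, nat_lit 7, nat_lit 6, nat_lit 2],
  [nat_lit 0, nat_lit 1, nat_lit 7, nat_lit 2, nat_lit 4, nat_lit 1, nat_lit 2, nat_lit 0, nat_lit 7, nat_lit 6, nat_lit 3, nat_lit 0, nat_lit 2, nat_lit 3, nat_lit 6],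
  [nat_lit 0, nat_lit 3, nat_lit 6, nat_lit 2, nat_lit 5, nat_lit 4, nat_lit 7, nat_lit 5, nat_lit 6, nat_lit 3, nat_lit 2, nat_lit 6, nat_lit 7, nat_lit 2, nat_lit 6],
  [nat_lit 0, nat_lit 5, nat_lit 4, nat_lit 3, nat_lit 6, nat_lit 5, nat_lit 0, nat_lit 6, nat_lit 1, nat_lit 3, nat_lit 5, nat_lit 1, nat_lit 3, nat_lit 4, nat_lit 6],
  [nat_lit 1, nat_lit 3, nat_lit 1, nat_lit 4, nat_lit 6, nat_lit 3, nat_lit 1, nat_lit 7, nat_lit 6, nat_lit 3, nat_lit 4, nat_lit 7, nat_lit 2, nat_lit 6, nat_lit 7],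
  [nat_lit 0, nat_lit 2, nat_lit 1, nat_lit 3, nat_lit 7, nat_lit 3, nat_lit 6, nat_lit 7, nat_lit 2, nat_lit 0, nat_lit 6, nat_lit 7, nat_lit 6, nat_lit 3, nat_lit 1, nat_lit 7],
  [nat_lit 0, nat_lit 2, nat_lit 4, nat_lit 5, nat_lit 6, nat_lit 2, nat_lit 5, nat_lit 7, nat_lit 6, nat_lit 7, nat_lit 2, nat_lit 6, nat_lit 5, nat_lit 7, nat_lit 1, nat_lit 6],
  [nat_lit 0, nat_lit 3, nat_lit 1, nat_lit 2, nat_lit 7, nat_lit 6, nat_lit 7, nat_lit 6, nat_lit 7, nat_lit 1, nat_lit 3, nat_lit 0, nat_lit 6, nat_lit 2, nat_lit 1, nat_lit 6],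
  [nat_lit 0, nat_lit 5, nat_lit 7, nat_lit 1, nat_lit 6, nat_lit 5, nat_lit 6, nat_lit 1, nat_lit 2, nat_lit 3, nat_lit 5, nat_lit 6, nat_lit 7, nat_lit 6, nat_lit 3, nat_lit 6],
  [nat_lit 0, nat_lit 6, nat_lit 2, nat_lit 3, nat_lit 6, nat_lit 7, nat_lit 3, nat_lit 5, nat_lit 1, nat_lit 5, nat_lit 3, nat_lit 7, nat_lit 0, nat_lit 6, nat_lit 3, nat_lit 6],
  [nat_lit 1, nat_lit 2, nat_lit 1, nat_lit 2, nat_lit 1, nat_lit 2, nat_lit 1, nat_lit 2],
  [nat_lit 1, nat_lit 3, nat_lit 1, nat_lit 3, nat_lit 1, nat_lit 3, nat_lit 1, nat_lit 3],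
  [nat_lit 1, nat_lit 5, nat_lit 7, nat_lit 5, nat_lit 1, nat_lit 5, nat_lit 7, nat_lit 5],
  [nat_lit 0, nat_lit 1, nat_lit 0, nat_lit 2, nat_lit 3, nat_lit 1, nat_lit 0, nat_lit 2, nat_lit 3, nat_lit 1, nat_lit 0, nat_lit 3, nat_lit 2, nat_lit 1, nat_lit 3, nat_lit 2],
  [nat_lit 0, nat_lit 1, nat_lit 3, nat_lit 1, nat_lit 5, nat_lit 4, nat_lit 3, nat_lit 1, nat_lit 4, nat_lit 3, nat_lit 5, nat_lit 1, nat_lit 0, nat_lit 3, nat_lit 1, nat_lit 2],
  [nat_lit 0, nat_lit 1, nat_lit 0, nat_lit 1, nat_lit 0, nat_lit 1, nat_lit 0, nat_lit 1],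
  [nat_lit 0, nat_lit 1, nat_lit 0, nat_lit 2, nat_lit 1, nat_lit 0, nat_lit 2, nat_lit 1, nat_lit 0, nat_lit 2, nat_lit 1, nat_lit 2],
  [nat_lit 0, nat_lit 9, nat_lit 0, nat_lit 9],
  [nat_lit 0, nat_lit 10, nat_lit 0, nat_lit 10],
  [nat_lit 1, nat_lit 9, nat_lit 1, nat_lit 9],
  [nat_lit 1, nat_lit 10, nat_lit 1, nat_lit 10],
  [nat_lit 1, nat_lit 11, nat_lit 1, nat_lit 11],
  [nat_lit 2, nat_lit 9, nat_lit 2, nat_lit 9],
  [nat_lit 2, nat_lit 10, nat_lit 2, nat_lit 10],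
  [nat_lit 3, nat_lit 9, nat_lit 3, nat_lit 9],
  [nat_lit 3, nat_lit 10, nat_lit 3, nat_lit 10],
  [nat_lit 4, nat_lit 9, nat_lit 4, nat_lit 9],
  [nat_lit 5, nat_lit 9, nat_lit 5, nat_lit 9],
  [nat_lit 5, nat_lit 10, nat_lit 5, nat_lit 10],
  [nat_lit 6, nat_lit 9, nat_lit 6, nat_lit 9],
  [nat_lit 6, nat_lit 10, nat_lit 6, nat_lit 10],
  [nat_lit 7, nat_lit 9, nat_lit 7, nat_lit 9],
  [nat_lit 9, nat_lit 10, nat_lit 9, nat_lit 10],
  [nat_lit 9, nat_lit 11, nat_lit 9, nat_lit 11],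
  [nat_lit 10, nat_lit 11, nat_lit 10, nat_lit 11],
  [nat_lit 2, nat_lit 10, nat_lit 11, nat_lit 2, nat_lit 11],
  [nat_lit 4, nat_lit 9, nat_lit 10, nat_lit 4, nat_lit 10],
  [nat_lit 7, nat_lit 9, nat_lit 11, nat_lit 7, nat_lit 11],
  [nat_lit 0, nat_lit 3, nat_lit 11, nat_lit 0, nat_lit 3, nat_lit 11],
  [nat_lit 0, nat_lit 5, nat_lit 11, nat_lit 5, nat_lit 0, nat_lit 11],
  [nat_lit 0, nat_lit 9, nat_lit 10, nat_lit 11, nat_lit 0, nat_lit 11],
  [nat_lit 3, nat_lit 5, nat_lit 11, nat_lit 3, nat_lit 5, nat_lit 11],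
  [nat_lit 3, nat_lit 9, nat_lit 10, nat_lit 11, nat_lit 3, nat_lit 11],
  [nat_lit 5, nat_lit 9, nat_lit 10, nat_lit 11, nat_lit 5, nat_lit 11],
  [nat_lit 0, nat_lit 4, nat_lit 11, nat_lit 0, nat_lit 11, nat_lit 4, nat_lit 10],
  [nat_lit 2, nat_lit 5, nat_lit 9, nat_lit 11, nat_lit 2, nat_lit 5, nat_lit 11],
  [nat_lit 4, nat_lit 5, nat_lit 10, nat_lit 4, nat_lit 11, nat_lit 5, nat_lit 11],
  [nat_lit 0, nat_lit 6, nat_lit 11, nat_lit 5, nat_lit 1, nat_lit 5, nat_lit 11, nat_lit 6],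
  [nat_lit 1, nat_lit 3, nat_lit 11, nat_lit 3, nat_lit 1, nat_lit 3, nat_lit 11, nat_lit 3],
  [nat_lit 2, nat_lit 6, nat_lit 11, nat_lit 6, nat_lit 2, nat_lit 6, nat_lit 11, nat_lit 6],
  [nat_lit 4, nat_lit 7, nat_lit 10, nat_lit 4, nat_lit 11, nat_lit 10, nat_lit 7, nat_lit 11],
  [nat_lit 4, nat_lit 7, nat_lit 10, nat_lit 7, nat_lit 11, nat_lit 4, nat_lit 10, nat_lit 11],
  [nat_lit 4, nat_lit 7, nat_lit 10, nat_lit 11, nat_lit 4, nat_lit 11, nat_lit 7, nat_lit 10],
  [nat_lit 4, nat_lit 7, nat_lit 10, nat_lit 11, nat_lit 7, nat_lit 10, nat_lit 4, nat_lit 11],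
  [nat_lit 4, nat_lit 11, nat_lit 4, nat_lit 11, nat_lit 4, nat_lit 11, nat_lit 4, nat_lit 11],
  [nat_lit 6, nat_lit 11, nat_lit 6, nat_lit 11, nat_lit 6, nat_lit 11, nat_lit 6, nat_lit 11],
  [nat_lit 1, nat_lit 2, nat_lit 1, nat_lit 10, nat_lit 7, nat_lit 2, nat_lit 4, nat_lit 7, nat_lit 10],
  [nat_lit 1, nat_lit 4, nat_lit 7, nat_lit 10, nat_lit 5, nat_lit 1, nat_lit 10, nat_lit 7, nat_lit 5],
  [nat_lit 2, nat_lit 3, nat_lit 7, nat_lit 11, nat_lit 4, nat_lit 7, nat_lit 3, nat_lit 4, nat_lit 11],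
  [nat_lit 2, nat_lit 4, nat_lit 11, nat_lit 2, nat_lit 7, nat_lit 10, nat_lit 4, nat_lit 11, nat_lit 7],
  [nat_lit 2, nat_lit 4, nat_lit 11, nat_lit 4, nat_lit 2, nat_lit 7, nat_lit 10, nat_lit 7, nat_lit 11],
  [nat_lit 4, nat_lit 5, nat_lit 7, nat_lit 10, nat_lit 11, nat_lit 7, nat_lit 5, nat_lit 4, nat_lit 11],
  [nat_lit 0, nat_lit 1, nat_lit 2, nat_lit 7, nat_lit 11, nat_lit 0, nat_lit 1, nat_lit 2, nat_lit 7, nat_lit 11],
  [nat_lit 0, nat_lit 4, nat_lit 7, nat_lit 10, nat_lit 7, nat_lit 10, nat_lit 0, nat_lit 11, nat_lit 4, nat_lit 11],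
  [nat_lit 1, nat_lit 2, nat_lit 1, nat_lit 10, nat_lit 11, nat_lit 7, nat_lit 2, nat_lit 4, nat_lit 7, nat_lit 11],
  [nat_lit 1, nat_lit 2, nat_lit 10, nat_lit 7, nat_lit 11, nat_lit 1, nat_lit 4, nat_lit 2, nat_lit 11, nat_lit 7],
  [nat_lit 1, nat_lit 2, nat_lit 11, nat_lit 9, nat_lit 1, nat_lit 7, nat_lit 11, nat_lit 2, nat_lit 4, nat_lit 7],
  [nat_lit 1, nat_lit 5, nat_lit 4, nat_lit 11, nat_lit 1, nat_lit 7, nat_lit 11, nat_lit 5, nat_lit 7, nat_lit 9],
  [nat_lit 1, nat_lit 5, nat_lit 11, nat_lit 1, nat_lit 7, nat_lit 11, nat_lit 4, nat_lit 5, nat_lit 9, nat_lit 7],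
  [nat_lit 1, nat_lit 6, nat_lit 1, nat_lit 9, nat_lit 11, nat_lit 6, nat_lit 1, nat_lit 11, nat_lit 6, nat_lit 11],
  [nat_lit 1, nat_lit 6, nat_lit 1, nat_lit 11, nat_lit 6, nat_lit 1, nat_lit 11, nat_lit 9, nat_lit 6, nat_lit 11],
  [nat_lit 1, nat_lit 6, nat_lit 11, nat_lit 6, nat_lit 1, nat_lit 6, nat_lit 11, nat_lit 6, nat_lit 11, nat_lit 9],
  [nat_lit 2, nat_lit 3, nat_lit 11, nat_lit 4, nat_lit 11, nat_lit 3, nat_lit 4, nat_lit 7, nat_lit 10, nat_lit 7],
  [nat_lit 2, nat_lit 4, nat_lit 10, nat_lit 2, nat_lit 7, nat_lit 11, nat_lit 10, nat_lit 4, nat_lit 7, nat_lit 11],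
  [nat_lit 3, nat_lit 4, nat_lit 7, nat_lit 9, nat_lit 10, nat_lit 7, nat_lit 11, nat_lit 4, nat_lit 3, nat_lit 11],
  [nat_lit 0, nat_lit 1, nat_lit 6, nat_lit 11, nat_lit 0, nat_lit 10, nat_lit 11, nat_lit 6, nat_lit 0, nat_lit 1, nat_lit 9],
  [nat_lit 0, nat_lit 1, nat_lit 11, nat_lit 0, nat_lit 4, nat_lit 11, nat_lit 5, nat_lit 7, nat_lit 5, nat_lit 10, nat_lit 7],
  [nat_lit 0, nat_lit 6, nat_lit 4, nat_lit 11, nat_lit 5, nat_lit 1, nat_lit 11, nat_lit 4, nat_lit 5, nat_lit 6, nat_lit 10],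
  [nat_lit 0, nat_lit 7, nat_lit 3, nat_lit 4, nat_lit 11, nat_lit 4, nat_lit 10, nat_lit 3, nat_lit 7, nat_lit 0, nat_lit 11],
  [nat_lit 0, nat_lit 7, nat_lit 3, nat_lit 11, nat_lit 3, nat_lit 10, nat_lit 7, nat_lit 0, nat_lit 10, nat_lit 9, nat_lit 11],
  [nat_lit 1, nat_lit 3, nat_lit 1, nat_lit 9, nat_lit 11, nat_lit 6, nat_lit 3, nat_lit 10, nat_lit 6, nat_lit 3, nat_lit 11],
  [nat_lit 1, nat_lit 3, nat_lit 6, nat_lit 11, nat_lit 3, nat_lit 9, nat_lit 11, nat_lit 6, nat_lit 1, nat_lit 3, nat_lit 10],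
  [nat_lit 1, nat_lit 3, nat_lit 6, nat_lit 11, nat_lit 3, nat_lit 10, nat_lit 11, nat_lit 6, nat_lit 1, nat_lit 3, nat_lit 9],
  [nat_lit 2, nat_lit 3, nat_lit 6, nat_lit 11, nat_lit 4, nat_lit 6, nat_lit 3, nat_lit 6, nat_lit 4, nat_lit 11, nat_lit 6],
  [nat_lit 2, nat_lit 4, nat_lit 5, nat_lit 7, nat_lit 10, nat_lit 7, nat_lit 2, nat_lit 11, nat_lit 5, nat_lit 4, nat_lit 11],
  [nat_lit 2, nat_lit 4, nat_lit 6, nat_lit 2, nat_lit 10, nat_lit 7, nat_lit 9, nat_lit 2, nat_lit 7, nat_lit 10, nat_lit 6],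
  [nat_lit 2, nat_lit 4, nat_lit 6, nat_lit 2, nat_lit 11, nat_lit 7, nat_lit 2, nat_lit 10, nat_lit 7, nat_lit 11, nat_lit 6],
  [nat_lit 2, nat_lit 4, nat_lit 7, nat_lit 2, nat_lit 11, nat_lit 7, nat_lit 6, nat_lit 2, nat_lit 6, nat_lit 9, nat_lit 11],
  [nat_lit 0, nat_lit 1, nat_lit 0, nat_lit 6, nat_lit 0, nat_lit 2, nat_lit 6, nat_lit 11, nat_lit 2, nat_lit 1, nat_lit 2, nat_lit 11],
  [nat_lit 0, nat_lit 1, nat_lit 2, nat_lit 4, nat_lit 10, nat_lit 7, nat_lit 0, nat_lit 7, nat_lit 2, nat_lit 10, nat_lit 9, nat_lit 1],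
  [nat_lit 0, nat_lit 1, nat_lit 5, nat_lit 2, nat_lit 11, nat_lit 7, nat_lit 2, nat_lit 5, nat_lit 11, nat_lit 0, nat_lit 7, nat_lit 4],
  [nat_lit 0, nat_lit 1, nat_lit 6, nat_lit 10, nat_lit 11, nat_lit 1, nat_lit 0, nat_lit 6, nat_lit 11, nat_lit 1, nat_lit 6, nat_lit 11],
  [nat_lit 0, nat_lit 2, nat_lit 6, nat_lit 4, nat_lit 11, nat_lit 6, nat_lit 2, nat_lit 0, nat_lit 6, nat_lit 11, nat_lit 4, nat_lit 6],
  [nat_lit 1, nat_lit 2, nat_lit 6, nat_lit 1, nat_lit 9, nat_lit 11, nat_lit 6, nat_lit 2, nat_lit 1, nat_lit 11, nat_lit 6, nat_lit 11],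
  [nat_lit 2, nat_lit 6, nat_lit 2, nat_lit 10, nat_lit 6, nat_lit 7, nat_lit 10, nat_lit 2, nat_lit 7, nat_lit 11, nat_lit 4, nat_lit 11],
  [nat_lit 2, nat_lit 6, nat_lit 3, nat_lit 11, nat_lit 6, nat_lit 2, nat_lit 11, nat_lit 6, nat_lit 11, nat_lit 3, nat_lit 6, nat_lit 11],
  [nat_lit 4, nat_lit 6, nat_lit 11, nat_lit 4, nat_lit 6, nat_lit 11, nat_lit 4, nat_lit 6, nat_lit 11, nat_lit 6, nat_lit 4, nat_lit 11],
  [nat_lit 6, nat_lit 7, nat_lit 10, nat_lit 7, nat_lit 6, nat_lit 11, nat_lit 6, nat_lit 7, nat_lit 10, nat_lit 7, nat_lit 6, nat_lit 11],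
  [nat_lit 12, nat_lit 12],
  [nat_lit 0, nat_lit 12, nat_lit 9, nat_lit 0, nat_lit 12],
  [nat_lit 1, nat_lit 12, nat_lit 1, nat_lit 12],
  [nat_lit 2, nat_lit 12, nat_lit 2, nat_lit 12],
  [nat_lit 3, nat_lit 12, nat_lit 9, nat_lit 3, nat_lit 12],
  [nat_lit 4, nat_lit 12, nat_lit 4, nat_lit 12],
  [nat_lit 5, nat_lit 12, nat_lit 9, nat_lit 5, nat_lit 12],
  [nat_lit 7, nat_lit 12, nat_lit 9, nat_lit 7, nat_lit 12],
  [nat_lit 9, nat_lit 12, nat_lit 9, nat_lit 12],
  [nat_lit 10, nat_lit 12, nat_lit 10, nat_lit 12],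
  [nat_lit 11, nat_lit 12, nat_lit 11, nat_lit 12],
  [nat_lit 6, nat_lit 11, nat_lit 6, nat_lit 12, nat_lit 6, nat_lit 5, nat_lit 11, nat_lit 6, nat_lit 5, nat_lit 3, nat_lit 6, nat_lit 5, nat_lit 12],
  [nat_lit 12, nat_lit 6, nat_lit 5, nat_lit 7, nat_lit 6, nat_lit 11, nat_lit 6, nat_lit 7, nat_lit 5, nat_lit 6, nat_lit 12, nat_lit 6, nat_lit 5, nat_lit 7, nat_lit 6, nat_lit 11, nat_lit 6, nat_lit 7, nat_lit 5, nat_lit 6, nat_lit 12, nat_lit 6, nat_lit 5, nat_lit 7, nat_lit 6, nat_lit 11, nat_lit 9, nat_lit 6, nat_lit 7, nat_lit 5, nat_lit 6],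
  [nat_lit 12, nat_lit 6, nat_lit 12, nat_lit 1, nat_lit 6, nat_lit 12, nat_lit 7, nat_lit 1, nat_lit 6, nat_lit 7, nat_lit 6, nat_lit 7, nat_lit 1]]
noncomputable def XT : List (List ℕ × List ℕ) := [([nat_lit 0], [nat_lit 0]), ([nat_lit 1], [nat_lit 1]), ([nat_lit 5], [nat_lit 5]), ([nat_lit 6], [nat_lit 6]), ([nat_lit 2], [nat_lit 3]), ([nat_lit 9], [nat_lit 10, nat_lit 9]), ([nat_lit 10], [nat_lit 10]), ([nat_lit 7, nat_lit 10, nat_lit 7], [nat_lit 11]), ([nat_lit 12], [nat_lit 4, nat_lit 11, nat_lit 10, nat_lit 4, nat_lit 12])]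
def w2 : List ℕ := [nat_lit 8, nat_lit 3, nat_lit 7, nat_lit 8, nat_lit 7]
def vv : List ℕ := [nat_lit 2, nat_lit 3, nat_lit 5, nat_lit 1, nat_lit 2, nat_lit 3, nat_lit 1, nat_lit 0]

theorem tcO2e_a : allZ2 (ent2 TO2 EO2 (selR RLO2 IO2) DO2 (nat_lit 7) (nat_lit 7) (nat_lit 7) (nat_lit 7) (nat_lit 2) (nat_lit 15) (nat_lit 0)) (nat_lit 2) (nat_lit 7) = true := by decide +kernel
theorem tcO2p_0 : allZ (eps2 TO2 EO2 JO2 WO2 RLO2 (nat_lit 7) (nat_lit 7) (nat_lit 7) (nat_lit 2) (nat_lit 0)) (nat_lit 0) (nat_lit 0) = true := by decide +kernel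
theorem tcO2r : rulesChk RO cO2.Sl RLO2 (nat_lit 2) = true := by decide +kernel
theorem tcO2n : 0 < cO2.M ∧ cO2.n0 ≤ cO2.M ∧ 0 < cO2.K ∧ cO2.K ≤ 10 ∧ cO2.D 0 = 0 := by decide +kernel
theorem tcO2q : cO2.M - cO2.n = 0 := by decide +kernel
theorem stO2 : allL (ltAll 0) cO2.Sl = true ∧ 0 < cO2.n0 ∧ cO2.K = 2 ∧ cO2.n0 * 1 = 7 := by decide +kernel
theorem tcO4e_a : allZ2 (ent2 TO4 EO4 (selR RLO4 IO4) DO4 (nat_lit 511) (nat_lit 360) (nat_lit 360) (nat_lit 360) (nat_lit 4) (nat_lit 2047) (nat_lit 0)) (nat_lit 4) (nat_lit 360) = true := by decide +kernel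
theorem tcO4p_0 : allZ (eps2 TO4 EO4 JO4 WO4 RLO4 (nat_lit 511) (nat_lit 360) (nat_lit 360) (nat_lit 4) (nat_lit 0)) (nat_lit 0) (nat_lit 0) = true := by decide +kernel
theorem tcO4r : rulesChk RO cO4.Sl RLO4 (nat_lit 4) = true := by decide +kernel
theorem tcO4n : 0 < cO4.M ∧ cO4.n0 ≤ cO4.M ∧ 0 < cO4.K ∧ cO4.K ≤ 10 ∧ cO4.D 0 = 0 := by decide +kernel
theorem tcO4q : cO4.M - cO4.n = 0 := by decide +kernel
theorem stO4 : allL (ltAll 2) cO4.Sl = true ∧ 0 < cO4.n0 ∧ cO4.K = 4 ∧ cO4.n0 * 7 = 2520 := by decide +kernel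
theorem tcO6e_a : allZ2 (ent2 TO6 EO6 (selR RLO6 IO6) DO6 (nat_lit 15) (nat_lit 8) (nat_lit 8) (nat_lit 10) (nat_lit 6) (nat_lit 63) (nat_lit 1)) (nat_lit 6) (nat_lit 10) = true := by decide +kernel
theorem tcO6p_0 : allZ (eps2 TO6 EO6 JO6 WO6 RLO6 (nat_lit 15) (nat_lit 8) (nat_lit 10) (nat_lit 6) (nat_lit 1)) (nat_lit 0) (nat_lit 2) = true := by decide +kernel
theorem tcO6r : rulesChk RO cO6.Sl RLO6 (nat_lit 6) = true := by decide +kernel
theorem tcO6n : 0 < cO6.M ∧ cO6.n0 ≤ cO6.M ∧ 0 < cO6.K ∧ cO6.K ≤ 10 ∧ cO6.D 0 = 0 := by decide +kernel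
theorem tcO6q : cO6.M - cO6.n = 2 := by decide +kernel
theorem stO6 : allL (ltAll 4) cO6.Sl = true ∧ 0 < cO6.n0 ∧ cO6.K = 6 ∧ cO6.n0 * 2520 = 20160 := by decide +kernel
theorem tcO8e_a : allZ2 (ent2 TO8 EO8 (selR RLO8 IO8) DO8 (nat_lit 1023) (nat_lit 72) (nat_lit 72) (nat_lit 713) (nat_lit 8) (nat_lit 8191) (nat_lit 3)) (nat_lit 8) (nat_lit 713) = true := by decide +kernel
theorem tcO8p_0 : allZ (eps2 TO8 EO8 JO8 WO8 RLO8 (nat_lit 1023) (nat_lit 72) (nat_lit 713) (nat_lit 8) (nat_lit 3)) (nat_lit 0) (nat_lit 641) = true := by decide +kernel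
theorem tcO8r : rulesChk RO cO8.Sl RLO8 (nat_lit 8) = true := by decide +kernel
theorem tcO8n : 0 < cO8.M ∧ cO8.n0 ≤ cO8.M ∧ 0 < cO8.K ∧ cO8.K ≤ 10 ∧ cO8.D 0 = 0 := by decide +kernel
theorem tcO8q : cO8.M - cO8.n = 641 := by decide +kernel
theorem stO8 : allL (ltAll 6) cO8.Sl = true ∧ 0 < cO8.n0 ∧ cO8.K = 8 ∧ cO8.n0 * 20160 = 1451520 := by decide +kernel
theorem tcO10e_a : allZ2 (ent2 TO10 EO10 (selR RLO10 IO10) DO10 (nat_lit 255) (nat_lit 120) (nat_lit 120) (nat_lit 191) (nat_lit 10) (nat_lit 2047) (nat_lit 2)) (nat_lit 10) (nat_lit 191) = true := by decide +kernel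
theorem tcO10p_0 : allZ (eps2 TO10 EO10 JO10 WO10 RLO10 (nat_lit 255) (nat_lit 120) (nat_lit 191) (nat_lit 10) (nat_lit 2)) (nat_lit 0) (nat_lit 71) = true := by decide +kernel
theorem tcO10r : rulesChk RO cO10.Sl RLO10 (nat_lit 10) = true := by decide +kernel
theorem tcO10n : 0 < cO10.M ∧ cO10.n0 ≤ cO10.M ∧ 0 < cO10.K ∧ cO10.K ≤ 10 ∧ cO10.D 0 = 0 := by decide +kernel
theorem tcO10q : cO10.M - cO10.n = 71 := by decide +kernel
theorem stO10 : allL (ltAll 8) cO10.Sl = true ∧ 0 < cO10.n0 ∧ cO10.K = 10 ∧ cO10.n0 * 1451520 = 174182400 := by decide +kernel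
theorem ivO : ivChk RO 10 = true := by decide +kernel
theorem R7k : allL (ltAll 4) R7 = true := by decide +kernel
theorem RAs : H26.subChk (RH ++ (XT.map (rxW 8) ++ [[8, 8], rp 3 [4, 8], rp 5 [7, 8], rp 5 w2 ++ vv])) H16.CoC.RA [0, 1, 2, 3, 4, 5, 6, 7, 8, 259, 9, 10, 11, 12, 13, 14, 15, 16, 17, 18, 19, 20, 21, 22, 23, 24, 25, 26, 27, 28, 29, 30, 31, 32, 33, 34, 35, 36, 37, 38, 39, 40, 41, 42, 43, 44, 45, 46, 47, 48, 49, 50, 51, 52, 53, 54, 55, 56, 57, 58, 59, 60, 61, 62, 63, 64, 65, 66, 67, 68, 69, 70, 71, 72, 73, 74, 75, 76, 77, 78, 79, 80, 81, 82, 83, 84, 85, 86, 87, 88, 89, 90, 91, 92, 93, 94, 95, 96, 97, 98, 99, 100, 101, 102, 103, 104, 105, 106, 107, 108, 109, 110, 111, 112, 113, 114, 115, 116, 117, 118, 119, 120, 121, 122, 123, 124, 125, 126, 127, 128, 129, 130, 131, 132, 133, 134, 135, 136, 137, 138, 139, 140, 141, 142, 143, 144, 145, 146, 147, 148, 149, 150, 151, 152, 153, 154, 155, 156, 157, 158, 159, 160, 161, 162, 163, 164, 165,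 166, 167, 168, 169, 170, 171, 172, 173, 174, 175, 176, 177, 178, 179, 180, 181, 182, 183, 184, 185, 186, 187, 188, 189, 190, 191, 192, 193, 194, 195, 196, 197, 198, 199, 200, 201, 202, 203, 204, 205, 206, 207, 208, 209, 210, 211, 212, 213, 214, 215, 216, 217, 218, 219, 220, 221, 222, 223, 224, 225, 226, 227, 228, 229, 230, 231, 232, 233, 234, 235, 250, 251, 252, 253, 254, 255, 256, 257, 260, 261, 262, 236, 237, 238, 239, 240, 241, 242, 243, 258, 244, 245, 246, 247, 248, 249] = true := by decide +kernel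

theorem tcO2e : ∀ k < 2, ∀ i < 7, (ent2 TO2 EO2 (selR RLO2 IO2) DO2 (nat_lit 7) (nat_lit 7) (nat_lit 7) (nat_lit 7) (nat_lit 2) (nat_lit 15) (nat_lit 0)) k i = 0 := allZ2_sound tcO2e_a
theorem tcO2p : ∀ i < 0, (eps2 TO2 EO2 JO2 WO2 RLO2 (nat_lit 7) (nat_lit 7) (nat_lit 7) (nat_lit 2) (nat_lit 0)) i = 0 := allZ_sound0 tcO2p_0
theorem tcO2 : cO2.OK RO 10 := ⟨tcO2n, ivO, tcO2r, tcO2e, fun i h => tcO2p i (lt_of_lt_of_eq h tcO2q)⟩
theorem tcO4e : ∀ k < 4, ∀ i < 360, (ent2 TO4 EO4 (selR RLO4 IO4) DO4 (nat_lit 511) (nat_lit 360) (nat_lit 360) (nat_lit 360) (nat_lit 4) (nat_lit 2047) (nat_lit 0)) k i = 0 := allZ2_sound tcO4e_a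
theorem tcO4p : ∀ i < 0, (eps2 TO4 EO4 JO4 WO4 RLO4 (nat_lit 511) (nat_lit 360) (nat_lit 360) (nat_lit 4) (nat_lit 0)) i = 0 := allZ_sound0 tcO4p_0
theorem tcO4 : cO4.OK RO 10 := ⟨tcO4n, ivO, tcO4r, tcO4e, fun i h => tcO4p i (lt_of_lt_of_eq h tcO4q)⟩
theorem tcO6e : ∀ k < 6, ∀ i < 10, (ent2 TO6 EO6 (selR RLO6 IO6) DO6 (nat_lit 15) (nat_lit 8) (nat_lit 8) (nat_lit 10) (nat_lit 6) (nat_lit 63) (nat_lit 1)) k i = 0 := allZ2_sound tcO6e_a
theorem tcO6p : ∀ i < 2, (eps2 TO6 EO6 JO6 WO6 RLO6 (nat_lit 15) (nat_lit 8) (nat_lit 10) (nat_lit 6) (nat_lit 1)) i = 0 := allZ_sound0 tcO6p_0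
theorem tcO6 : cO6.OK RO 10 := ⟨tcO6n, ivO, tcO6r, tcO6e, fun i h => tcO6p i (lt_of_lt_of_eq h tcO6q)⟩
theorem tcO8e : ∀ k < 8, ∀ i < 713, (ent2 TO8 EO8 (selR RLO8 IO8) DO8 (nat_lit 1023) (nat_lit 72) (nat_lit 72) (nat_lit 713) (nat_lit 8) (nat_lit 8191) (nat_lit 3)) k i = 0 := allZ2_sound tcO8e_a
theorem tcO8p : ∀ i < 641, (eps2 TO8 EO8 JO8 WO8 RLO8 (nat_lit 1023) (nat_lit 72) (nat_lit 713) (nat_lit 8) (nat_lit 3)) i = 0 := allZ_sound0 tcO8p_0
theorem tcO8 : cO8.OK RO 10 := ⟨tcO8n, ivO, tcO8r, tcO8e, fun i h => tcO8p i (lt_of_lt_of_eq h tcO8q)⟩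
theorem tcO10e : ∀ k < 10, ∀ i < 191, (ent2 TO10 EO10 (selR RLO10 IO10) DO10 (nat_lit 255) (nat_lit 120) (nat_lit 120) (nat_lit 191) (nat_lit 10) (nat_lit 2047) (nat_lit 2)) k i = 0 := allZ2_sound tcO10e_a
theorem tcO10p : ∀ i < 71, (eps2 TO10 EO10 JO10 WO10 RLO10 (nat_lit 255) (nat_lit 120) (nat_lit 191) (nat_lit 10) (nat_lit 2)) i = 0 := allZ_sound0 tcO10p_0
theorem tcO10 : cO10.OK RO 10 := ⟨tcO10n, ivO, tcO10r, tcO10e, fun i h => tcO10p i (lt_of_lt_of_eq h tcO10q)⟩
theorem bdO : Bound RO 10 174182400 := (((((Bound.zero _).step2 tcO2 stO2).step2 tcO4 stO4).step2 tcO6 stO6).step2 tcO8 stO8).step2 tcO10 stO10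

end H0.Co
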