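import Cfsg.Agent.H0.Co.T
import Cfsg.Agent.H15.CoFix

/-! Transfer along a central double cover, and tables of tests. -/

set_option autoImplicit false
set_option linter.unusedSectionVars false

open Cfsg Subgroup
namespace H0.Co
open H19 H16 H0.PM H0.TR H0.Fi H0.Am

universe u v w
variable {A : Type v} {G : Type u} {B : Type w} [Group A] [Group G] [Group B]

/-- `φ` maps onto the centralizer of `z` with kernel generated by `n` -/
structure Cv (φ : B →* A) (n : B) (z : A) : Prop where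
  eq : ∀ a b, φ a = φ b → a = b ∨ a = b * n
  one : φ n = 1
  ran : φ.range = C[z]
  cen : ∀ a, a * n = n * a
  nn : n * n = 1

def Rg (φ : B →* A) (b : B) : Prop := ∀ y, φ y * φ b = φ b * φ y → y * b = b * y

theorem gen_drop {g : ℕ → A} {l : ℕ} (h : g l = 1) : gen g (l + 1) ≤ gen g l := gen_le.2 fun k hk =>
  (Nat.lt_succ_iff_lt_or_eq.1 hk).elim (mem_gen g) fun e => by rw [e, h]; exact one_mem _

namespace Cv
variable {φ : B →* A} {n : B} {z : A} (c : Cv φ n z)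
include c

theorem rg {b : B} (h : ∀ y, y * b * y⁻¹ = b * n → n = 1) : Rg φ b := fun y e => by
  rw [← map_mul, ← map_mul] at e
  refine (c.eq _ _ e).elim id fun e => ?_
  rw [e, h y (by rw [e, mul_assoc b, c.cen, ← mul_assoc, mul_inv_cancel_right]), mul_one]

theorem pw (k : ℕ) : n ^ (2 * k + 1) = n := by rw [pow_succ, pow_mul, pow_two, c.nn, one_pow, one_mul]

theorem rg_odd {b : B} (k : ℕ) (h : b ^ (2 * k + 1) = 1) : Rg φ b := c.rg fun y e => by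
  have := congrArg (· ^ (2 * k + 1)) e
  simpa [Commute.mul_pow (c.cen b), h, c.pw] using this.symm

theorem rg_mem {Q : Subgroup B} (hQ : ⊤ ≤ N(Q)) (hn : n ∉ Q) {b : B} (h : b ∈ Q) : Rg φ b := c.rg fun y e =>
  (hn ((mul_mem_cancel_left h).1 (e ▸ nrm_conj (hQ (mem_top y)) h))).elim

theorem lift {a : A} (h : a ∈ C[z]) : ∃ y, φ y = a := c.ran.ge h

theorem odd {a : A} (h : a ∈ C[z]) (k : ℕ) (e : a ^ (2 * k + 1) = 1) : ∃ y, φ y = a ∧ y ^ (2 * k + 1) = 1 := by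
  obtain ⟨y, rfl⟩ := c.lift h
  rcases c.eq (y ^ (2 * k + 1)) 1 (by simpa using e) with e | e
  · exact ⟨y, rfl, e⟩
  · exact ⟨y * n, by simp [c.one], by rw [Commute.mul_pow (c.cen y), e, c.pw, one_mul, c.nn]⟩

theorem cen_le {x e y : ℕ → B} {r m l o : ℕ} (h : C(gen x r) = gen e m ∧ #(gen e m) = o)
    (h' : gen e m ≤ gen y (l + 1)) (hl : y l = n) (rg : ∀ k < r, Rg φ (x k)) {a : A} (ha : a ∈ C[z])
    (h1 : ∀ k < r, a * φ (x k) = φ (x k) * a) : a ∈ gen (fun k => φ (y k)) l := by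
  obtain ⟨b, rfl⟩ := c.lift ha
  exact gen_drop (hl ▸ c.one) (map_gen φ y _ ▸ mem_map_of_mem φ (Am.cen_le h h' fun k hk => rg k hk b (h1 k hk)))

theorem card_map {Q : Subgroup B} (hn : n ∉ Q) : #(Q.map φ) = #Q := by
  rw [← card_ker_mul φ Q, show φ.ker ⊓ Q = ⊥ from eq_bot_iff.2 fun a h =>
    (c.eq a 1 (h.1.trans φ.map_one.symm)).resolve_right fun e => hn (one_mul n ▸ e ▸ h.2), card_bot, one_mul]

theorem card (hn : n ≠ 1) : 2 * #C[z] = Nat.card B := by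
  have : Fact (Nat.Prime 2) := ⟨Nat.prime_two⟩
  rw [← card_top (G := B), ← card_ker_mul φ ⊤, ← MonoidHom.range_eq_map, c.ran, inf_top_eq,
    show φ.ker = zpowers n from le_antisymm (fun a h => (c.eq a 1 (h.trans φ.map_one.symm)).elim
      (fun e => e ▸ one_mem _) fun e => e ▸ mul_mem (one_mem _) (mem_zpowers n)) (zpowers_le.2 c.one),
    Nat.card_zpowers, orderOf_eq_prime ((pow_two n).trans c.nn) hn]

theorem nrm {Q : Subgroup B} (hQ : ⊤ ≤ N(Q)) : C[z] ≤ N(Q.map φ) := fun _ h =>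
  let ⟨y, e⟩ := c.lift h; le_normalizer_map φ ⟨y, hQ (mem_top y), e⟩
end Cv

theorem pc0_map {t : ℕ → B} {n p : ℕ} (h : PC0 t n p) (φ : B →* A) : PC0 (fun k => φ (t k)) n p :=
  ⟨h.pos, fun j hj a ha e => by simpa [← map_gen] using mem_map_of_mem φ (h.comm j hj a ha e),
    fun j hj => by simpa [← map_gen] using mem_map_of_mem φ (h.pow j hj)⟩

noncomputable def eqS (P : ℕ → ℕ → ℕ) (K x n : ℕ) (B U V : List ℕ) : ℕ :=
  Nat.add (Nat.add (okH K x U) (okH K x V)) (orZ (eqL P K B U V) (eqL P K B U (n :: V)))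

noncomputable def neS (P : ℕ → ℕ → ℕ) (K x n : ℕ) (B U V : List ℕ) : ℕ :=
  Nat.add (Nat.add (okH K x U) (okH K x V)) (Nat.add (neW P K B U V) (neW P K B U (n :: V)))

theorem okH_lt {K x : ℕ} {W : List ℕ} (h : okH K x W = 0) : ∀ k ∈ W, k < K ∧ k ≠ x := fun k hk => by
  obtain ⟨h1, h2⟩ := Nat.add_eq_zero_iff.1 h
  refine ⟨ltAll_zero h1 k hk, fun e => ?_⟩
  have := sumL_zero h2 k hk
  rw [ifz_eq, e, TR.xor_self, if_pos rfl] at this
  exact one_ne_zero this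

theorem Cv.ck {Ω : Type*} [MulAction B Ω] {g b : ℕ → B} {pt : ℕ → Ω} {P Pb : ℕ → ℕ → ℕ} {N K₀ K o x n : ℕ}
    {L : List ℕ} (M : Md g pt P N K₀ L o) (hb : Act b pt Pb N K) {φ : B →* A} {z : A} (c : Cv φ (b n) z)
    {f : ℕ → A} (e : ∀ k < K, k ≠ x → f k = φ (b k)) : CK f (eqS Pb K x n L) (neS Pb K x n L) K x := by
  have k : ∀ {U V a}, Nat.add (Nat.add (okH K x U) (okH K x V)) a = 0 →
      evA f U = φ (evA b U) ∧ evA f V = φ (evA b V) ∧ a = 0 := fun h => by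
    obtain ⟨h1, h2⟩ := Nat.add_eq_zero_iff.1 h
    obtain ⟨h1, h3⟩ := Nat.add_eq_zero_iff.1 h1
    simp only [map_evA]
    exact ⟨evA_congr _ fun k hk => e k (okH_lt h1 k hk).1 (okH_lt h1 k hk).2,
      evA_congr _ fun k hk => e k (okH_lt h3 k hk).1 (okH_lt h3 k hk).2, h2⟩
  refine ⟨fun U V h => ?_, fun U V h => Nat.add_eq_zero_iff.1 (Nat.add_eq_zero_iff.1 h).1, fun U V h => ?_⟩
  · obtain ⟨h1, h2, h3⟩ := k h
    rw [h1, h2]
    rcases orZ_zero h3 with h | h <;> rw [M.eq_of hb h]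
    rw [evA_cons, map_mul, c.one, mul_one]
  · obtain ⟨h1, h2, h3⟩ := k h
    obtain ⟨h3, h4⟩ := Nat.add_eq_zero_iff.1 h3
    rw [h1, h2]
    exact fun h => (c.eq _ _ h).elim (neW_sound M hb h3) (neW_sound M hb h4)

noncomputable def eqX (C : List (List ℕ)) (K n : ℕ) (σ U V : List ℕ) : ℕ :=
  orZ (H15.nz (H15.eqV C K (rlW σ U) (rlW σ V))) (H15.nz (H15.eqV C K (rlW σ U) (rlW σ (n :: V))))

theorem eqX_sound {g : ℕ → Co0} {C : List (List ℕ)} {K n : ℕ} {σ : List ℕ} (hg : H15.ML g C K)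
    (hn : H15.pc1 (rl σ g n) = 1) (U V : List ℕ) (h : eqX C K n σ U V = 0) :
    evA (fun k => H15.pc1 (rl σ g k)) U = evA (fun k => H15.pc1 (rl σ g k)) V := by
  rw [← map_evA, ← map_evA]
  rcases orZ_zero h with h | h <;> rw [evA_rl, H15.eqV_sound hg (H15.nz_zero h), ← evA_rl]
  rw [evA_cons, map_mul, hn, mul_one]

section
variable {f : ℕ → A} {F : ℕ → G} {eq ne : List ℕ → List ℕ → ℕ} {K x : ℕ} (c : CK f eq ne K x)
include c

noncomputable def toEnt (eq : List ℕ → List ℕ → ℕ) (σ τ : List ℕ) (m n : ℕ) (T : List (List ℕ × ℕ × ℕ))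
    (Ws : List (List ℕ)) (i : ℕ) : ℕ :=
  force i fun i => Nat.add (Nat.add (ltAll m ((nth ([], 0, 0) T i).2.1 :: (nth ([], 0, 0) T i).2.2 ::
    (nth ([], 0, 0) T i).1)) (ltAll n (nth [] Ws i)))
    (eq (rlW σ (cjR (Nat.xor 1) (nth ([], 0, 0) T i))) (rlW τ (nth [] Ws i)))

theorem CK.to {σ τ : List ℕ} {m n : ℕ} {T : List (List ℕ × ℕ × ℕ)} {Ws : List (List ℕ)}
    (h : ∀ i < T.length, toEnt eq σ τ m n T Ws i = 0) : ∀ t ∈ T, ltAll m (t.2.1 :: t.2.2 :: t.1) = 0 ∧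
      evA (rl σ f) (cjR (Nat.xor 1) t) ∈ gen (rl τ f) n := fun t ht => by
  obtain ⟨i, hi, rfl⟩ := List.getElem_of_mem ht
  have h5 := h i hi
  rw [toEnt, force_eq, nth_eq_getD, List.getD_eq_getElem?_getD, List.getElem?_eq_getElem hi,
    Option.getD_some] at h5
  obtain ⟨h5, h6⟩ := Nat.add_eq_zero_iff.1 h5
  obtain ⟨h5, h7⟩ := Nat.add_eq_zero_iff.1 h5
  rw [evA_rl, c.eq _ _ h6, ← evA_rl]
  exact ⟨h5, evA_mem_gen _ (ltAll_zero h7)⟩

theorem CK.rels {σ : List ℕ} {R : List (List ℕ)} (h : allL (fun W => eq (rlW σ W) []) R = true) :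
    Rels (rl σ f) R := fun W hW => (evA_rl _ _ _).trans (c.eq _ _ (allL_sound h W hW))

theorem CK.comm {σ τ : List ℕ} {m n : ℕ}
    (h : allZ2 (fun i j => eq [nth 0 σ i, nth 0 τ j] [nth 0 τ j, nth 0 σ i]) m n = true) :
    gen (rl τ f) n ≤ C(gen (rl σ f) m) := gen_le.2 fun j hj => mem_cg.2 fun i hi => by
  simpa [rl] using c.eq _ _ (allZ2_sound h i hi j hj)

noncomputable def rhoEnt (eq ne : List ℕ → List ℕ → ℕ) (R U V : List ℕ) : ℕ :=
  orZ (Nat.add (eq (R ++ U) (U ++ R)) (eq U V)) (Nat.add (ne (R ++ U) (U ++ R)) (eq U (R ++ V)))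

noncomputable def fpEnt (eX ne : List ℕ → List ℕ → ℕ) (W : List ℕ) (L : List (List ℕ)) (T : List ℕ) (i : ℕ) : ℕ :=
  orZ i (Nat.add (eX (nth [] L i ++ W) (W ++ nth [] L (nth 0 T i))) (ne (nth [] L i) (nth [] L (nth 0 T i))))

theorem CK.fp {eX : List ℕ → List ℕ → ℕ} (hX : ∀ U V, eX U V = 0 → evA f U = evA f V) {W T : List ℕ}
    {L : List (List ℕ)} {n : ℕ} (h0 : nth [] L 0 = []) (h : ∀ i < n, fpEnt eX ne W L T i = 0) {a : A}
    (ha : ∃ i < n, a = wds f L i) (e : evA f W * a = a * evA f W) : a = 1 := by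
  obtain ⟨i, hi, rfl⟩ := ha
  rcases orZ_zero (h i hi) with rfl | h1
  · rw [wds, h0, evA_nil]
  obtain ⟨h1, h2⟩ := Nat.add_eq_zero_iff.1 h1
  have := hX _ _ h1
  rw [evA_append, evA_append] at this
  exact (c.ne _ _ h2 (mul_right_cancel (e.symm.trans this))).elim

noncomputable def rxE (eq : List ℕ → List ℕ → ℕ) (K x i : ℕ) (t : List ℕ × List ℕ) : ℕ :=
  Nat.add (Nat.add (okH K x t.1) (okH K x t.2)) (eq (i :: t.1) (t.1 ++ [i]))

theorem CK.rx {S : Subgroup (A × G)} {z0 : A} {z : G} {i : ℕ} (I : Iso S C[z0] C[z])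
    (h : ∀ k < K, k ≠ x → (f k, F k) ∈ S) (hx : (f x, F x) ∈ N(Dl S (C[z0] ⊓ C[f i])))
    (xx : (f x, F x) * (f x, F x) = 1) {T : List (List ℕ × List ℕ)} (hT : allL (rxE eq K x i) T = true)
    (h0 : Rels f (T.map (rxW x))) : Rels F (T.map (rxW x)) :=
  rels_of_fn (π := fun k => (f k, F k)) I.fn (fun W hW => by
    obtain ⟨t, ht, rfl⟩ := List.mem_map.1 hW
    obtain ⟨h1, h2⟩ := Nat.add_eq_zero_iff.1 (allL_sound hT t ht)
    replace h1 := Nat.add_eq_zero_iff.1 h1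
    exact rx_mem h hx xx h1 ⟨I.m1 (c.ev I h h1.1), mem_cent1.2 (by simpa [evA_append] using c.eq _ _ h2)⟩) h0
end

end H0.Co
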